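import Mathlib.RingTheory.AdicCompletion.Basic
import Mathlib.Algebra.BigOperators.GroupWithZero.Action

/-!
# Coefficients by successive approximation in a complete ring
-/

set_option autoImplicit false

universe u v w

namespace Groth.Agent.H24Formal3.Approx

variable {R : Type u} [CommRing R] (J : Ideal R) [IsAdicComplete J R] {M : Type v} [AddCommGroup M] [Module R M]
  (F : ℕ → Submodule R M) {I : Type w} [Fintype I] (x : I → M) (c : ℕ)

/-- A filtration generated to first order by finitely many elements is generated by them. -/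
theorem exists_coeff (hsep : ∀ z, (∀ n, z ∈ F n) → z = 0) (hanti : Antitone F)
    (hJ : ∀ n, ∀ a ∈ J ^ (n + 1), ∀ z, a • z ∈ F n)
    (step : ∀ n, c ≤ n → ∀ y ∈ F n, ∃ a : I → R, (∀ i, a i ∈ J ^ (n - c)) ∧ y - ∑ i, a i • x i ∈ F (n + 1))
    {m : ℕ} (hm : c ≤ m) {y : M} (hy : y ∈ F m) :
    ∃ a : I → R, (∀ i, a i ∈ J ^ (m - c)) ∧ y = ∑ i, a i • x i := by
  have hstep : ∀ (k : ℕ) (z : F (m + k)), ∃ a : I → R,
      (∀ i, a i ∈ J ^ (m + k - c)) ∧ (z : M) - ∑ i, a i • x i ∈ F (m + (k + 1)) := fun k z =>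
    step (m + k) (hm.trans (Nat.le_add_right _ _)) z z.2
  choose a ha ha' using hstep
  let z : ∀ k, F (m + k) := fun k => Nat.rec (⟨y, hy⟩ : F (m + 0)) (fun k z => ⟨_, ha' k z⟩) k
  let s : ℕ → I → R := fun k i => ∑ j ∈ Finset.range k, a j (z j) i
  have hz : ∀ k, (z k).1 = y - ∑ i, s k i • x i := fun k => by
    induction k with
    | zero => show y = _; simp [s]
    | succ k ih =>
      have h1 : (z (k + 1)).1 = (z k).1 - ∑ i, a k (z k) i • x i := rfl
      rw [h1, ih]
      simp only [s, Finset.sum_range_succ, add_smul, Finset.sum_add_distrib]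
      abel
  have hs : ∀ k i, s k i ∈ J ^ (m - c) := fun k i =>
    Submodule.sum_mem _ fun j _ => Ideal.pow_le_pow_right (by omega) (ha j (z j) i)
  have hcauchy : ∀ i {p q : ℕ}, p ≤ q → s p i ≡ s q i [SMOD (J ^ p • ⊤ : Ideal R)] := fun i p q hpq => by
    rw [SModEq.sub_mem, smul_eq_mul, Ideal.mul_top, ← neg_mem_iff, neg_sub,
      show s q i - s p i = ∑ j ∈ Finset.Ico p q, a j (z j) i from (Finset.sum_Ico_eq_sub _ hpq).symm]
    exact Submodule.sum_mem _ fun j hj => Ideal.pow_le_pow_right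
      (by have := (Finset.mem_Ico.1 hj).1; omega) (ha j (z j) i)
  choose L hL using fun i => IsPrecomplete.prec (I := J) (M := R) inferInstance (f := fun k => s k i) (hcauchy i)
  have hL' : ∀ i k, L i - s k i ∈ J ^ k := fun i k => by
    have h := SModEq.sub_mem.1 (hL i k)
    rw [smul_eq_mul, Ideal.mul_top] at h
    exact neg_sub (s k i) (L i) ▸ neg_mem h
  refine ⟨L, fun i => ?_, sub_eq_zero.1 (hsep _ fun n => ?_)⟩
  · have h := add_mem (hL' i (m - c)) (hs (m - c) i)
    rwa [sub_add_cancel] at h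
  · have h1 : y - ∑ i, L i • x i = (z (n + 1)).1 - ∑ i, (L i - s (n + 1) i) • x i := by
      rw [hz]
      simp only [sub_smul, Finset.sum_sub_distrib]
      abel
    rw [h1]
    exact sub_mem (hanti (by omega) (z (n + 1)).2) (Submodule.sum_mem _ fun i _ => hJ n _ (hL' i (n + 1)) _)

end Groth.Agent.H24Formal3.Approx
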