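import Groth.Agent.H24Formal3.RpushLevels
import Groth.Agent.H3CAlg.ARS.Basic

/-!
# Mittag-Leffler for the higher direct images of the levels
-/

set_option autoImplicit false
set_option linter.style.haveILetI false
set_option linter.unusedSectionVars false

universe u

attribute [-instance] CategoryTheory.catToReflQuiver

open AlgebraicGeometry CategoryTheory CategoryTheory.Limits TopologicalSpace Opposite

namespace Groth.Agent.H24Formal3.MLLevels

open FormalLevels H24FMod H24FMod.GrF RpushLevels H15Site.ModTensor H15Site.ModRel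

variable {𝔜 : FSch.Sys.{u}}

/-- A morphism which vanishes locally on sections is zero. -/
theorem eq_zero_of_local {hY : 𝔜.IsFormal} {M N : FSch.ModF 𝔜 hY} (ψ : M ⟶ N)
    (h : ∀ (W : (𝔜.X 0).Opens) (x : Sec hY M W) (y : 𝔜.X 0), y ∈ W → ∃ (D : (𝔜.X 0).Opens) (hD : D ≤ W),
      y ∈ D ∧ secMap ψ D (rs ((forg _).obj M) (homOfLE hD).op x) = 0) : ψ = 0 := by
  refine hom_ext_sec fun W x => ?_
  let S : Sieve W :=
    { arrows := fun Z _ => ∃ (D : (𝔜.X 0).Opens) (hD : D ≤ W), Z ≤ D ∧ secMap ψ D (rs ((forg _).obj M) (homOfLE hD).op x) = 0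
      downward_closed := fun {Z Z'} _ ⟨D, hD, h1, h2⟩ g => ⟨D, hD, (leOfHom g).trans h1, h2⟩ }
  have hS : S ∈ Opens.grothendieckTopology (𝔜.X 0) W := fun y hy => by
    obtain ⟨D, hD, hyD, h0⟩ := h W x y hy
    exact ⟨D, homOfLE hD, ⟨D, hD, le_rfl, h0⟩, hyD⟩
  refine separated_forg N (X := op W) S hS _ _ fun Z g hg => ?_
  obtain ⟨D, hD, h1, h2⟩ := hg
  rw [show g.op = (homOfLE hD).op ≫ (homOfLE h1).op from Subsingleton.elim _ _]
  refine (rs_rs _ _ _ _).symm.trans ?_
  refine (congrArg (rs _ (homOfLE h1).op) ((rs_app ψ.val (homOfLE hD).op x).symm.trans h2)).trans ?_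
  exact (map_zero (((forg _).obj N).map (homOfLE h1).op).hom).trans
    (map_zero (((forg _).obj N).map ((homOfLE hD).op ≫ (homOfLE h1).op)).hom).symm

theorem secMap_map_seq {hY : 𝔜.IsFormal} {M : ℕ → FSch.ModF 𝔜 hY} (t : ∀ k, M (k + 1) ⟶ M k)
    (V : (𝔜.X 0).Opens) {n m : ℕ} (h : n ≤ m) (x : Sec hY (M m) V) :
    secMap ((Functor.ofOpSequence t).map (homOfLE h).op) V x =
      H16Derived.ML.trHom (Functor.ofOpSequence (X := fun k => AddCommGrpCat.of (Sec hY (M k) V))
        fun k => AddCommGrpCat.ofHom (secMap (t k) V)) h x := by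
  induction h with
  | refl =>
    rw [show (homOfLE (le_refl n)).op = 𝟙 (op n) from Subsingleton.elim _ _, (Functor.ofOpSequence t).map_id]
    refine Eq.trans ?_ (congr($((Functor.ofOpSequence (X := fun k => AddCommGrpCat.of (Sec hY (M k) V))
      fun k => AddCommGrpCat.ofHom (secMap (t k) V)).map_id (op n)) x)).symm
    rfl
  | @step m hm ih =>
    rw [show (homOfLE (Nat.le_succ_of_le hm)).op = (homOfLE (Nat.le_succ m)).op ≫ (homOfLE hm).op from
      Subsingleton.elim _ _, (Functor.ofOpSequence t).map_comp]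
    refine Eq.trans ?_ (GrML.trHom_succ (Functor.ofOpSequence (X := fun k => AddCommGrpCat.of (Sec hY (M k) V))
      fun k => AddCommGrpCat.ofHom (secMap (t k) V)) hm x)
    refine Eq.trans ?_ (ih _)
    refine congrArg (secMap ((Functor.ofOpSequence t).map (homOfLE hm).op) V) ?_
    refine (congr(secMap $(Functor.ofOpSequence_map_homOfLE_succ t m) V x)).trans ?_
    exact (congr($(Functor.ofOpSequence_map_homOfLE_succ (X := fun k => AddCommGrpCat.of (Sec hY (M k) V))
      (fun k => AddCommGrpCat.ofHom (secMap (t k) V)) m) x)).symm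

theorem stable_mono {F : ℕᵒᵖ ⥤ AddCommGrpCat.{u}} {c d : ℕ} (h : GrML.Stable F c) (hcd : c ≤ d) :
    GrML.Stable F d := fun i k hk x => by
  obtain ⟨y, hy⟩ := h i k ((Nat.add_le_add_left hcd i).trans hk) (H16Derived.ML.trHom F (Nat.add_le_add_left hcd i) x)
  refine ⟨y, hy.trans ?_⟩
  exact (congr($((F.map_comp (homOfLE (Nat.add_le_add_left hcd i)).op (homOfLE (Nat.le_add_right i c)).op).symm) x)).trans rfl

variable {𝔛 : FSch.Sys.{u}} (hX : 𝔛.IsLocNoethFormal) (hY : 𝔜.IsLocNoethFormal) (f : 𝔛 ⟶ 𝔜)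
  [HasInjectiveResolutions (FSch.ModF 𝔛 hX.1)] (𝔉 : FSch.ModF 𝔛 hX.1) (h𝔉 : FSch.IsCohF 𝔛 hX.1 𝔉)

include h𝔉 in
theorem isML (hf : FSch.IsProperHom f) [CompactSpace (𝔜.X 0)] (q : ℕ) :
    ARSys.IsML (Functor.ofOpSequence (rL hX hY f 𝔉 q)) := by
  haveI := hf.2
  let R := Functor.ofOpSequence (rL hX hY f 𝔉 q)
  let 𝒰 := (𝔜.X 0).affineCover.finiteSubcover
  have hc := fun i => exists_stable_sec hX hY f 𝔉 h𝔉 hf q _ (isAffineOpen_opensRange (𝒰.f i))
  choose c hc using hc
  let cmax := Finset.univ.sup c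
  intro n
  refine ⟨cmax, fun s hs => le_antisymm ?_ ?_⟩
  · refine (H3CAlg.ARS.imageSubobject_le_iff _ _).2 (.of_eq (ARSys.tr R (Nat.add_le_add_left hs n)) ?_)
    show R.map _ = R.map _ ≫ R.map _
    rw [← R.map_comp]
    rfl
  · refine (H3CAlg.ARS.imageSubobject_le_iff _ _).2 ((H3CAlg.ARS.imLE_iff_cokernel _ _).2 ?_)
    refine eq_zero_of_local _ fun W x y hy => ?_
    obtain ⟨i, hi⟩ : ∃ i, y ∈ (𝒰.f i).opensRange := ⟨_, 𝒰.covers y⟩
    let V := (𝒰.f i).opensRange
    have hV : IsAffineOpen V := isAffineOpen_opensRange (𝒰.f i)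
    obtain ⟨g, hgW, hgy⟩ := Localise.exists_DB_le hY hV W y hy hi
    refine ⟨_, hgW, hgy, ?_⟩
    obtain ⟨N, hN, ⟨e⟩⟩ := exists_qcoh_level hX hY f 𝔉 h𝔉 inferInstance q (n + cmax)
    let D := Localise.DB hY V g
    let π := cokernel.π (ARSys.shiftMap R s n)
    let ψ := ARSys.shiftMap R cmax n ≫ π
    let xD : Sec hY.1 (rG hX hY f 𝔉 q (n + cmax)) D := rs _ (homOfLE hgW).op x
    obtain ⟨m, x₀, hx₀⟩ := Localise.exists_clear_push hY (n + cmax) N hV g (secMap e.hom D xD)
    let x₁ := secMap e.inv V x₀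
    have h1 : Localise.resDB hY V g g ^ m • xD = rs _ (homOfLE (Localise.DB_le hY V g)).op x₁ := by
      have h2 := congrArg (secMap e.inv D) hx₀
      refine Eq.trans ?_ (h2.trans (rs_app e.inv.val (homOfLE (Localise.DB_le hY V g)).op x₀))
      refine Eq.trans ?_ ((e.inv.val.app (op D)).hom.map_smul _ _).symm
      exact congrArg (Localise.resDB hY V g g ^ m • ·)
        (congrArg (fun z : rG hX hY f 𝔉 q (n + cmax) ⟶ _ => secMap z D xD) e.hom_inv_id).symm
    have h3 : secMap ψ V x₁ = 0 := by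
      obtain ⟨z, hz⟩ := stable_mono (hc i) (Finset.le_sup (Finset.mem_univ i)) n (n + s) (Nat.add_le_add_left hs n) x₁
      have h4 : secMap (ARSys.shiftMap R cmax n) V x₁ = secMap (ARSys.shiftMap R s n) V z :=
        (secMap_map_seq (rL hX hY f 𝔉 q) V (Nat.le_add_right n cmax) x₁).trans
          (hz.symm.trans (secMap_map_seq (rL hX hY f 𝔉 q) V (Nat.le_add_right n s) z).symm)
      exact (congrArg (secMap π V) h4).trans
        (congrArg (fun q : _ ⟶ cokernel (ARSys.shiftMap R s n) => secMap q V z) (cokernel.condition _))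
    have h5 : Localise.resDB hY V g g ^ m • secMap ψ D xD = 0 := by
      refine ((ψ.val.app (op D)).hom.map_smul _ _).symm.trans ((congrArg (secMap ψ D) h1).trans ?_)
      refine (rs_app ψ.val (homOfLE (Localise.DB_le hY V g)).op x₁).trans ?_
      exact (congrArg (rs _ _) h3).trans (map_zero (((forg _).obj _).map _).hom)
    exact ((Localise.isUnit_resDB hY V g).pow m).smul_eq_zero.1 h5

end Groth.Agent.H24Formal3.MLLevels
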