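import Groth.Agent.H24Formal3.Localise
import Groth.Agent.H24Formal3.Approx
import Groth.Agent.H24Formal3.MLLevels
import Groth.Agent.H24FMod.Present

/-!
# Local finite presentation from projections to levels
-/

set_option autoImplicit false
set_option linter.style.haveILetI false
set_option linter.unusedSectionVars false

universe u

attribute [-instance] CategoryTheory.catToReflQuiver

open AlgebraicGeometry CategoryTheory CategoryTheory.Limits TopologicalSpace Opposite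

namespace Groth.Agent.H24Formal3.FPCrit

open H24FMod H15Site.ModTensor H15Site.ModRel H15Site.LocPres H15Site.LocGen Localise

variable {𝔜 : FSch.Sys.{u}} (hY : 𝔜.IsLocNoethFormal)

/-- A module which is the direct image of a quasi-coherent module on a level. -/
def IsLevel (k : ℕ) (R : FSch.ModF 𝔜 hY.1) : Prop :=
  ∃ N : (𝔜.X k).Modules, N.IsQuasicoherent ∧ Nonempty (R ≅ (FSch.levelMor 𝔜 hY.1 k).push.obj N)

variable {hY} {k : ℕ} {R : FSch.ModF 𝔜 hY.1}

theorem secMap_injective {hY' : 𝔜.IsFormal} {M N : FSch.ModF 𝔜 hY'} (e : M ≅ N) (W : (𝔜.X 0).Opens) :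
    Function.Injective (secMap e.hom W) :=
  Function.LeftInverse.injective (g := secMap e.inv W) fun x => congr(secMap $(e.hom_inv_id) W x)

theorem secMap_rs {hY' : 𝔜.IsFormal} {M N : FSch.ModF 𝔜 hY'} (φ : M ⟶ N) {W W' : (𝔜.X 0).Opens} (l : W' ⟶ W)
    (x : Sec hY' M W) :
    secMap φ W' (rs ((forg _).obj M) l.op x) = rs ((forg _).obj N) l.op (secMap φ W x) :=
  (rs_app φ.val l.op x)

theorem secMap_smul {hY' : 𝔜.IsFormal} {M N : FSch.ModF 𝔜 hY'} (φ : M ⟶ N) (W : (𝔜.X 0).Opens) (a : OSec hY' W)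
    (x : Sec hY' M W) : secMap φ W (a • x) = a • secMap φ W x :=
  (φ.val.app (op W)).hom.map_smul a x

/-- Elements of the kernel of the projection kill the level. -/
theorem IsLevel.smul_eq_zero (h : IsLevel hY k R) (W : (𝔜.X 0).Opens) {a : OSec hY.1 W} (ha : oP hY.1 k W a = 0)
    (z : Sec hY.1 R W) : a • z = 0 := by
  obtain ⟨N, -, ⟨e⟩⟩ := h
  apply secMap_injective e W
  rw [secMap_smul, map_zero]
  let y : Γ(N, 𝔜.lvU hY.1 k W) := secMap e.hom W z
  show oP hY.1 k W a • y = 0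
  rw [ha, zero_smul]

/-- Sections over a basic open are fractions. -/
theorem IsLevel.clear (h : IsLevel hY k R) {V : (𝔜.X 0).Opens} (hV : IsAffineOpen V) (g : OSec hY.1 V)
    (z : Sec hY.1 R (DB hY V g)) :
    ∃ (p : ℕ) (z₀ : Sec hY.1 R V), resDB hY V g g ^ p • z = rs ((forg _).obj R) (homOfLE (DB_le hY V g)).op z₀ := by
  obtain ⟨N, hN, ⟨e⟩⟩ := h
  obtain ⟨p, z₀, hp⟩ := exists_clear_push hY k N hV g (secMap e.hom _ z)
  refine ⟨p, secMap e.inv V z₀, secMap_injective e _ ?_⟩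
  rw [secMap_smul, secMap_rs, hp, show secMap e.hom V (secMap e.inv V z₀) = z₀ from congr(secMap $(e.inv_hom_id) V z₀)]

/-- Sections vanishing on a basic open are killed by a power. -/
theorem IsLevel.kill (h : IsLevel hY k R) {V : (𝔜.X 0).Opens} (hV : IsAffineOpen V) (g : OSec hY.1 V)
    (z : Sec hY.1 R V) (hz : rs ((forg _).obj R) (homOfLE (DB_le hY V g)).op z = 0) : ∃ p, g ^ p • z = 0 := by
  obtain ⟨N, hN, ⟨e⟩⟩ := h
  have hVk := isAffineOpen_lvU hY hV k
  let a : Γ(𝔜.X k, 𝔜.lvU hY.1 k V) := oP hY.1 k V g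
  let y : Γ(N, 𝔜.lvU hY.1 k V) := secMap e.hom V z
  letI := Module.compHom Γ(N, (𝔜.X k).basicOpen a) (algebraMap Γ(𝔜.X k, 𝔜.lvU hY.1 k V) Γ(𝔜.X k, (𝔜.X k).basicOpen a))
  haveI := H29Fitt.isLocalizedModule_resLin N hN hVk a
  have h0 : N.presheaf.map (homOfLE (lvU_mono hY.1 k (DB_le hY V g))).op y = 0 :=
    ((secMap_rs e.hom (homOfLE (DB_le hY V g)) z).symm.trans (congrArg (secMap e.hom _) hz)).trans (map_zero _)
  have h1 : H29Fitt.resLin N a y = H29Fitt.resLin N a 0 := by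
    rw [map_zero]
    refine (map_map_eq N (lvU_mono hY.1 k (DB_le hY V g)) (lvU_DB hY k V g).ge y).symm.trans ?_
    rw [h0, map_zero]
  obtain ⟨⟨_, p, rfl⟩, hp⟩ := IsLocalizedModule.exists_of_eq (S := Submonoid.powers a) h1
  refine ⟨p, secMap_injective e V ?_⟩
  rw [secMap_smul, map_zero]
  show oP hY.1 k V (g ^ p) • y = 0
  rw [map_pow]
  exact hp.trans (smul_zero _)

/-- Functions on a basic open are fractions up to a level. -/
theorem exists_frac {V : (𝔜.X 0).Opens} (hV : IsAffineOpen V) (g : OSec hY.1 V) (c : OSec hY.1 (DB hY V g)) (m : ℕ) :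
    ∃ (p : ℕ) (a : OSec hY.1 V), oP hY.1 m (DB hY V g) (resDB hY V g g ^ p * c - resDB hY V g a) = 0 := by
  have hVk := isAffineOpen_lvU hY hV m
  let b : Γ(𝔜.X m, 𝔜.lvU hY.1 m V) := oP hY.1 m V g
  haveI := hVk.isLocalization_basicOpen b
  let c' : Γ(𝔜.X m, (𝔜.X m).basicOpen b) :=
    (𝔜.X m).presheaf.map (homOfLE (lvU_DB hY m V g).ge).op (oP hY.1 m (DB hY V g) c)
  obtain ⟨⟨a', _, p, rfl⟩, hp⟩ := IsLocalization.surj (Submonoid.powers b) c'
  obtain ⟨a, rfl⟩ := surjective_oP hY hV m a'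
  refine ⟨p, a, ?_⟩
  have hinj : Function.Injective ((𝔜.X m).presheaf.map (homOfLE (lvU_DB hY m V g).ge).op).hom :=
    (bijective_res_ring (X := 𝔜.X m) (lvU_DB hY m V g).ge (lvU_DB hY m V g).le).1
  apply hinj
  rw [map_zero, map_sub, map_sub, sub_eq_zero, map_mul, map_mul, map_pow, map_pow]
  have hr : ∀ r : OSec hY.1 V, ((𝔜.X m).presheaf.map (homOfLE (lvU_DB hY m V g).ge).op).hom
      (oP hY.1 m (DB hY V g) (resDB hY V g r)) =
      algebraMap Γ(𝔜.X m, 𝔜.lvU hY.1 m V) Γ(𝔜.X m, (𝔜.X m).basicOpen b) (oP hY.1 m V r) := fun r => by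
    refine (congrArg ((𝔜.X m).presheaf.map (homOfLE (lvU_DB hY m V g).ge).op).hom
      (oP_res hY.1 m (homOfLE (DB_le hY V g)) r)).trans ?_
    exact congr($(((𝔜.X m).presheaf.map_comp (homOfLE (lvU_mono hY.1 m (DB_le hY V g))).op
      (homOfLE (lvU_DB hY m V g).ge).op).symm) (oP hY.1 m V r)).trans
      (congrArg (fun z => ((𝔜.X m).presheaf.map z).hom (oP hY.1 m V r)) (Subsingleton.elim _ _))
  rw [hr, hr, mul_comm]
  exact ((congrArg (c' * ·) (map_pow _ b p).symm).trans hp)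

variable (hY) in
/-- The ideal of definition over an open. -/
noncomputable abbrev Jd (W : (𝔜.X 0).Opens) : Ideal (OSec hY.1 W) := RingHom.ker (oP hY.1 0 W)

theorem ker_oP_eq {W : (𝔜.X 0).Opens} (hW : IsAffineOpen W) :
    IsNoetherianRing (OSec hY.1 W) ∧ IsAdicComplete (Jd hY W) (OSec hY.1 W) ∧
      ∀ n, RingHom.ker (oP hY.1 n W) = Jd hY W ^ (n + 1) := by
  obtain ⟨J, hN, hc, hJ⟩ := exists_adic hY hW
  have hJ0 : Jd hY W = J := by
    show RingHom.ker (oP hY.1 0 W) = J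
    rw [hJ 0, zero_add, pow_one]
  rw [hJ0]
  exact ⟨hN, hc, hJ⟩

theorem resDB_mem_pow (V : (𝔜.X 0).Opens) (g : OSec hY.1 V) {j : ℕ} {a : OSec hY.1 V} (ha : a ∈ Jd hY V ^ j) :
    resDB hY V g a ∈ Jd hY (DB hY V g) ^ j := by
  have h : (Jd hY V).map (resDB hY V g) ≤ Jd hY (DB hY V g) := Ideal.map_le_iff_le_comap.2 fun r hr => by
    rw [Ideal.mem_comap, RingHom.mem_ker]
    refine (oP_res hY.1 0 (homOfLE (DB_le hY V g)) r).trans ?_
    rw [show oP hY.1 0 V r = 0 from hr, map_zero]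
  exact Ideal.pow_right_mono h j (Ideal.map_pow (resDB hY V g) (Jd hY V) j ▸ Ideal.mem_map_of_mem _ ha)

variable {M : FSch.ModF 𝔜 hY.1} {Rs : ℕ → FSch.ModF 𝔜 hY.1}

variable (hY) in
/-- Finitely many sections controlling the projections over an affine open. -/
structure Ctrl (M : FSch.ModF 𝔜 hY.1) (Rs : ℕ → FSch.ModF 𝔜 hY.1) (π : ∀ k, M ⟶ Rs k) (V : (𝔜.X 0).Opens)
    {I : Type u} [Fintype I] (x : I → Sec hY.1 M V) (c : ℕ) : Prop where
  level : ∀ k, IsLevel hY k (Rs k)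
  step : ∀ k, ∃ t : Rs (k + 1) ⟶ Rs k, π (k + 1) ≫ t = π k
  sep : ∀ (W : (𝔜.X 0).Opens) (z : Sec hY.1 M W), (∀ k, secMap (π k) W z = 0) → z = 0
  image : ∀ k, ∃ T : Rs (k + c) ⟶ Rs k, π (k + c) ≫ T = π k ∧
    ∀ z : Sec hY.1 (Rs (k + c)) V, ∃ a : I → OSec hY.1 V, secMap T V z = secMap (π k) V (∑ i, a i • x i)
  cofinal : ∀ (m : ℕ) (z : Sec hY.1 M V), secMap (π m) V z = 0 →
    ∃ a : I → OSec hY.1 V, (∀ i, a i ∈ Jd hY V ^ (m + 1 - c)) ∧ z = ∑ i, a i • x i

variable {π : ∀ k, M ⟶ Rs k} {V : (𝔜.X 0).Opens} (hV : IsAffineOpen V) {I : Type u} [Fintype I]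
  {x : I → Sec hY.1 M V} {c : ℕ} (h : Ctrl hY M Rs π V x c) (g : OSec hY.1 V)

variable (hY) in
/-- Restriction to a basic open. -/
noncomputable abbrev rx {V : (𝔜.X 0).Opens} (g : OSec hY.1 V) (z : Sec hY.1 M V) : Sec hY.1 M (DB hY V g) :=
  rs ((forg (𝔜.Osh hY.1)).obj M) (homOfLE (DB_le hY V g)).op z

theorem rs_comb (a : I → OSec hY.1 V) :
    rs ((forg (𝔜.Osh hY.1)).obj M) (homOfLE (DB_le hY V g)).op (∑ i, a i • x i) =
      ∑ i, resDB hY V g (a i) • (rx hY g (x i)) :=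
  (rs_sum _ _ _ _).trans (Finset.sum_congr rfl fun i _ => rs_smul' _ _ _ _)

theorem smul_comb {hY' : 𝔜.IsFormal} {M' : FSch.ModF 𝔜 hY'} {W : (𝔜.X 0).Opens} (b : OSec hY' W) (a : I → OSec hY' W)
    (y : I → Sec hY' M' W) :
    b • (∑ i, a i • y i) = ∑ i, (b * a i) • y i := by
  rw [Finset.smul_sum]
  exact Finset.sum_congr rfl fun i _ => smul_smul _ _ _

include hV h in
theorem exists_approx (k : ℕ) (y : Sec hY.1 M (DB hY V g)) :
    ∃ (p : ℕ) (a : I → OSec hY.1 V),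
      secMap (π k) (DB hY V g) (resDB hY V g g ^ p • y - ∑ i, resDB hY V g (a i) • (rx hY g (x i))) = 0 := by
  obtain ⟨T, hT, hT'⟩ := h.image k
  obtain ⟨p, z₀, hp⟩ := (h.level (k + c)).clear hV g (secMap (π (k + c)) (DB hY V g) y)
  obtain ⟨a, ha⟩ := hT' z₀
  refine ⟨p, a, ?_⟩
  rw [map_sub, sub_eq_zero, secMap_smul, ← rs_comb g a, secMap_rs, ← ha, ← secMap_rs, ← hp, secMap_smul]
  exact congrArg (resDB hY V g g ^ p • ·) congr(secMap $hT (DB hY V g) y).symm

include hV h in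
theorem exists_kill_comb (m : ℕ) (a : I → OSec hY.1 V)
    (ha : secMap (π m) (DB hY V g) (∑ i, resDB hY V g (a i) • (rx hY g (x i))) = 0) :
    ∃ (p : ℕ) (b : I → OSec hY.1 V), (∀ i, b i ∈ Jd hY V ^ (m + 1 - c)) ∧
      ∑ i, (g ^ p * a i) • x i = ∑ i, b i • x i := by
  rw [← rs_comb g a, secMap_rs] at ha
  obtain ⟨p, hp⟩ := (h.level m).kill hV g _ ha
  obtain ⟨b, hb, hb'⟩ := h.cofinal m (g ^ p • ∑ i, a i • x i) (by rw [secMap_smul]; exact hp)
  exact ⟨p, b, hb, (smul_comb _ a x).symm.trans hb'⟩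

include hV h in
/-- Generation over a basic open. -/
theorem exists_gen (y : Sec hY.1 M (DB hY V g)) :
    ∃ a : I → OSec hY.1 (DB hY V g), y = ∑ i, a i • (rx hY g (x i)) := by
  let D := DB hY V g
  obtain ⟨hN, hc, hker⟩ := ker_oP_eq (hY := hY) (isAffineOpen_DB hY hV g)
  haveI := hc
  let F : ℕ → Submodule (OSec hY.1 D) (Sec hY.1 M D) := fun n =>
    { carrier := {z | secMap (π n) D z = 0}
      zero_mem' := map_zero _
      add_mem' := fun {a b} (ha : secMap (π n) D a = 0) (hb : secMap (π n) D b = 0) =>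
        show secMap (π n) D (a + b) = 0 by rw [map_add, ha, hb, add_zero]
      smul_mem' := fun r z (hz : secMap (π n) D z = 0) => show secMap (π n) D (r • z) = 0 by
        rw [secMap_smul, hz, smul_zero] }
  have hanti : Antitone F := antitone_nat_of_succ_le fun n z (hz : secMap (π (n + 1)) D z = 0) => by
    obtain ⟨t, ht⟩ := h.step n
    show secMap (π n) D z = 0
    rw [← show secMap t D (secMap (π (n + 1)) D z) = secMap (π n) D z from congr(secMap $ht D z), hz, map_zero]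
  have hJ : ∀ n, ∀ a ∈ Jd hY D ^ (n + 1), ∀ z, a • z ∈ F n := fun n a ha z => by
    show secMap (π n) D (a • z) = 0
    rw [secMap_smul]
    rw [← hker n, RingHom.mem_ker] at ha
    exact (h.level n).smul_eq_zero D ha _
  have hu := isUnit_resDB hY V g
  have first : ∀ (k : ℕ) (z : Sec hY.1 M D), ∃ (p : ℕ) (a : I → OSec hY.1 V),
      z - ∑ i, (↑(hu.pow p).unit⁻¹ * resDB hY V g (a i)) • (rx hY g (x i)) ∈ F k := fun k z => by
    obtain ⟨p, a, ha⟩ := exists_approx hV h g k z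
    refine ⟨p, a, ?_⟩
    have e : z - ∑ i, (↑(hu.pow p).unit⁻¹ * resDB hY V g (a i)) • (rx hY g (x i)) =
        (↑(hu.pow p).unit⁻¹ : OSec hY.1 D) • (resDB hY V g g ^ p • z - ∑ i, resDB hY V g (a i) • (rx hY g (x i))) := by
      rw [smul_sub, smul_smul, (hu.pow p).val_inv_mul, one_smul, smul_comb]
    rw [e]
    exact (F k).smul_mem _ ha
  have step : ∀ n, c ≤ n → ∀ z ∈ F n, ∃ a : I → OSec hY.1 D, (∀ i, a i ∈ Jd hY D ^ (n - c)) ∧
      z - ∑ i, a i • (rx hY g (x i)) ∈ F (n + 1) := fun n hn z hz => by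
    obtain ⟨p, a, ha⟩ := first (n + 1) z
    let u : OSec hY.1 D := ↑(hu.pow p).unit⁻¹
    have h0 : secMap (π n) D (∑ i, resDB hY V g (a i) • (rx hY g (x i))) = 0 := by
      have h1 : (∑ i, (u * resDB hY V g (a i)) • (rx hY g (x i))) ∈ F n := by
        have := sub_mem hz (hanti (Nat.le_succ n) ha)
        rwa [sub_sub_cancel] at this
      have h2 := (F n).smul_mem (resDB hY V g g ^ p) h1
      rw [smul_comb] at h2
      refine Eq.trans (congrArg (secMap (π n) D) (Finset.sum_congr rfl fun i _ => ?_)) h2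
      rw [← mul_assoc, (hu.pow p).mul_val_inv, one_mul]
    obtain ⟨p', b, hb, hb'⟩ := exists_kill_comb hV h g n a h0
    refine ⟨fun i => ↑(hu.pow (p + p')).unit⁻¹ * resDB hY V g (b i), fun i => Ideal.mul_mem_left _ _
      (Ideal.pow_le_pow_right (by omega) (resDB_mem_pow V g (hb i))), ?_⟩
    suffices e : (∑ i, (↑(hu.pow (p + p')).unit⁻¹ * resDB hY V g (b i)) • (rx hY g (x i))) =
        ∑ i, (u * resDB hY V g (a i)) • (rx hY g (x i)) by rw [e]; exact ha
    rw [← smul_comb, ← rs_comb g b, ← hb', rs_comb, smul_comb]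
    refine Finset.sum_congr rfl fun i _ => congrArg (· • _) ?_
    rw [map_mul, map_pow]
    refine (hu.pow (p + p')).mul_left_cancel ?_
    rw [← mul_assoc, ← mul_assoc, (hu.pow (p + p')).mul_val_inv, one_mul, ← mul_assoc, add_comm p p', pow_add,
      mul_assoc (resDB hY V g g ^ p'), (hu.pow p).mul_val_inv, mul_one]
  obtain ⟨p, a, ha⟩ := first c y
  obtain ⟨a', -, ha'⟩ := Approx.exists_coeff (Jd hY D) F (fun i => rx hY g (x i)) c (fun z hz => h.sep D z hz) hanti hJ step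
    le_rfl ha
  refine ⟨fun i => ↑(hu.pow p).unit⁻¹ * resDB hY V g (a i) + a' i, ?_⟩
  rw [sub_eq_iff_eq_add.1 ha']
  simp only [add_smul, Finset.sum_add_distrib]
  exact add_comm _ _

include hV h in
/-- The relations over the affine open are complete over a basic open. -/
theorem exists_rel {K : Type u} [Fintype K] (r : K → I → OSec hY.1 V)
    (hr : ∀ a : I → OSec hY.1 V, ∑ i, a i • x i = 0 → ∃ d : K → OSec hY.1 V, ∀ i, a i = ∑ j, d j * r j i)
    (c₀ : I → OSec hY.1 (DB hY V g)) (hc₀ : ∑ i, c₀ i • (rx hY g (x i)) = 0) :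
    ∃ d : K → OSec hY.1 (DB hY V g), ∀ i, c₀ i = ∑ j, d j * resDB hY V g (r j i) := by
  let D := DB hY V g
  obtain ⟨hN, hc, hker⟩ := ker_oP_eq (hY := hY) (isAffineOpen_DB hY hV g)
  haveI := hc
  haveI := hN
  have hu := isUnit_resDB hY V g
  let S' : Submodule (OSec hY.1 D) (I → OSec hY.1 D) := Submodule.span _ (Set.range fun j i => resDB hY V g (r j i))
  suffices hmem : c₀ ∈ S' by
    obtain ⟨d, hd⟩ := (Submodule.mem_span_range_iff_exists_fun _).1 hmem
    exact ⟨d, fun i => by rw [← hd]; simp [Finset.sum_apply]⟩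
  haveI : IsAdicComplete (Jd hY D) ((I → OSec hY.1 D) ⧸ S') := H24Adic.isAdicComplete_of_finite _
  refine (Submodule.Quotient.mk_eq_zero S').1 (IsHausdorff.haus (I := Jd hY D)
    ‹IsAdicComplete (Jd hY D) _›.toIsHausdorff _ fun n => ?_)
  rw [SModEq.zero]
  choose p a hpa using fun i => exists_frac hV g (c₀ i) (n + c)
  let P := Finset.univ.sup p
  let a' : I → OSec hY.1 V := fun i => g ^ (P - p i) * a i
  let e : I → OSec hY.1 D := fun i => resDB hY V g g ^ P * c₀ i - resDB hY V g (a' i)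
  have he : ∀ i, oP hY.1 (n + c) D (e i) = 0 := fun i => by
    have hP : P - p i + p i = P := Nat.sub_add_cancel (Finset.le_sup (Finset.mem_univ i))
    rw [show e i = resDB hY V g g ^ (P - p i) * (resDB hY V g g ^ p i * c₀ i - resDB hY V g (a i)) by
      simp only [e, a', map_mul, map_pow, mul_sub]; rw [← mul_assoc, ← pow_add, hP]]
    rw [map_mul, hpa i, mul_zero]
  have h0 : secMap (π (n + c)) D (∑ i, resDB hY V g (a' i) • (rx hY g (x i))) = 0 := by
    have h1 : (∑ i, resDB hY V g (a' i) • (rx hY g (x i))) = - ∑ i, e i • (rx hY g (x i)) := by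
      simp only [e, sub_smul, Finset.sum_sub_distrib, neg_sub]
      rw [← smul_comb, hc₀, smul_zero, sub_zero]
    rw [h1, map_neg, neg_eq_zero, map_sum]
    refine Finset.sum_eq_zero fun i _ => ?_
    rw [secMap_smul]
    exact (h.level (n + c)).smul_eq_zero D (he i) _
  obtain ⟨p', b, hb, hb'⟩ := exists_kill_comb hV h g (n + c) a' h0
  obtain ⟨d, hd⟩ := hr (fun i => g ^ p' * a' i - b i) (by
    simp only [sub_smul, Finset.sum_sub_distrib, hb', sub_self])
  let w : OSec hY.1 D := resDB hY V g g ^ (p' + P)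
  let rest : I → OSec hY.1 D := fun i => resDB hY V g (b i) + resDB hY V g g ^ p' * e i
  have hwc : w • c₀ = (∑ j, resDB hY V g (d j) • fun i => resDB hY V g (r j i)) + rest := funext fun i => by
    have h2 := congrArg (resDB hY V g) (hd i)
    simp only [map_sub, map_mul, map_pow, map_sum] at h2
    simp only [Pi.smul_apply, smul_eq_mul, Pi.add_apply, Finset.sum_apply, rest, ← h2, w, e, pow_add, a', map_mul,
      map_pow]
    ring
  have hrest : ∀ i, rest i ∈ Jd hY D ^ n := fun i => add_mem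
    (Ideal.pow_le_pow_right (by omega) (resDB_mem_pow V g (hb i)))
    (Ideal.mul_mem_left _ _ (Ideal.pow_le_pow_right (by omega : n ≤ n + c + 1)
      (by rw [← hker (n + c), RingHom.mem_ker]; exact he i)))
  have hw : IsUnit w := hu.pow _
  have hmk : Submodule.Quotient.mk (p := S') c₀ = (↑hw.unit⁻¹ : OSec hY.1 D) • Submodule.Quotient.mk (p := S') rest := by
    rw [← Submodule.Quotient.mk_smul]
    refine (Submodule.Quotient.eq S').2 ?_
    have e1 : c₀ - (↑hw.unit⁻¹ : OSec hY.1 D) • rest =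
        (↑hw.unit⁻¹ : OSec hY.1 D) • ∑ j, resDB hY V g (d j) • fun i => resDB hY V g (r j i) := by
      rw [sub_eq_iff_eq_add, ← smul_add, ← hwc, smul_smul, hw.val_inv_mul, one_smul]
    rw [e1]
    exact S'.smul_mem _ (Submodule.sum_mem _ fun j _ => S'.smul_mem _ (Submodule.subset_span ⟨j, rfl⟩))
  classical
  rw [hmk, ← Submodule.mkQ_apply]
  refine Submodule.smul_mem _ _ ?_
  rw [pi_eq_sum_univ' rest, map_sum]
  refine Submodule.sum_mem _ fun i _ => ?_
  rw [map_smul]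
  exact Submodule.smul_mem_smul (hrest i) Submodule.mem_top

variable (hY) in
/-- The sieve of opens inside basic opens inside. -/
def dbSieve (V W₀ : (𝔜.X 0).Opens) : Sieve W₀ where
  arrows W _ := ∃ g : OSec hY.1 V, DB hY V g ≤ W₀ ∧ W ≤ DB hY V g
  downward_closed {W W'} _ hh l := by
    obtain ⟨g, h1, h2⟩ := hh
    exact ⟨g, h1, (leOfHom l).trans h2⟩

include hV in
theorem dbSieve_mem {W₀ : (𝔜.X 0).Opens} (hW : W₀ ≤ V) :
    dbSieve hY V W₀ ∈ Opens.grothendieckTopology (𝔜.X 0) W₀ := fun y hy => by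
  obtain ⟨g, hg, hyg⟩ := exists_DB_le hY hV W₀ y hy (hW hy)
  exact ⟨DB hY V g, homOfLE hg, ⟨g, hg, le_rfl⟩, hyg⟩

include hV h in
/-- Controlled modules are locally finitely presented. -/
theorem fp : FP M V := by
  obtain ⟨hN, -, -⟩ := ker_oP_eq (hY := hY) hV
  haveI := hN
  let p := Fintype.linearCombination (OSec hY.1 V) x
  obtain ⟨N, q, hq⟩ := Submodule.fg_iff_exists_fin_generating_family.1 (IsNoetherian.noetherian (LinearMap.ker p))
  let r : ULift.{u} (Fin N) → I → OSec hY.1 V := fun j => q j.down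
  have hz : ∀ j, ∑ i, r j i • x i = 0 := fun j =>
    (hq ▸ Submodule.subset_span ⟨j.down, rfl⟩ : q j.down ∈ LinearMap.ker p)
  have hr : ∀ a : I → OSec hY.1 V, ∑ i, a i • x i = 0 →
      ∃ d : ULift.{u} (Fin N) → OSec hY.1 V, ∀ i, a i = ∑ j, d j * r j i := fun a ha => by
    have h1 : a ∈ Submodule.span (OSec hY.1 V) (Set.range q) := hq ▸ (LinearMap.mem_ker.2 ha : a ∈ LinearMap.ker p)
    obtain ⟨d, hd⟩ := (Submodule.mem_span_range_iff_exists_fun _).1 h1
    refine ⟨fun j => d j.down, fun i => ?_⟩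
    rw [← hd, Finset.sum_apply]
    exact (Equiv.ulift.sum_comp fun j => d j * q j i).symm
  refine ⟨I, ULift.{u} (Fin N), inferInstance, inferInstance, x, r, fun W₀ l t => ?_, hz, fun W₀ l c₀ hc₀ => ?_⟩
  · refine ⟨dbSieve hY V W₀, dbSieve_mem hV (leOfHom l), fun W k hk => ?_⟩
    obtain ⟨g, h1, h2⟩ := hk
    obtain ⟨a, ha⟩ := exists_gen hV h g (rs ((forg (𝔜.Osh hY.1)).obj M) (homOfLE h1).op t)
    refine ⟨fun i => rr (𝔜.Osh hY.1) (homOfLE h2).op (a i), ?_⟩
    have e := congrArg (fun z => rs ((forg (𝔜.Osh hY.1)).obj M) (homOfLE h2).op z) ha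
    simp only [rs_rs, rs_sum, rs_smul'] at e
    rw [show k.op = (homOfLE h1).op ≫ (homOfLE h2).op from Subsingleton.elim _ _]
    refine e.trans (Finset.sum_congr rfl fun i _ => ?_)
    exact congrArg (fun z => rr (𝔜.Osh hY.1) (homOfLE h2).op (a i) • rs ((forg (𝔜.Osh hY.1)).obj M) z (x i))
      (Subsingleton.elim _ _)
  · refine ⟨dbSieve hY V W₀, dbSieve_mem hV (leOfHom l), fun W k hk => ?_⟩
    obtain ⟨g, h1, h2⟩ := hk
    obtain ⟨d, hd⟩ := exists_rel hV h g r hr (fun i => rr (𝔜.Osh hY.1) (homOfLE h1).op (c₀ i)) (by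
      have e := congrArg (fun z => rs ((forg (𝔜.Osh hY.1)).obj M) (homOfLE h1).op z) hc₀
      simp only [rs_rs, rs_sum, rs_smul', rs_zero] at e
      refine (Finset.sum_congr rfl fun i _ => ?_).trans e
      exact congrArg (fun z => _ • rs ((forg (𝔜.Osh hY.1)).obj M) z (x i)) (Subsingleton.elim _ _))
    refine ⟨fun j => rr (𝔜.Osh hY.1) (homOfLE h2).op (d j), fun i => ?_⟩
    have e := congrArg (fun z => rr (𝔜.Osh hY.1) (homOfLE h2).op z) (hd i)
    simp only [rr_rr, map_sum, map_mul] at e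
    rw [show k.op = (homOfLE h1).op ≫ (homOfLE h2).op from Subsingleton.elim _ _]
    refine e.trans (Finset.sum_congr rfl fun j _ => ?_)
    exact congrArg (fun z => _ * rr (𝔜.Osh hY.1) z (r j i)) (Subsingleton.elim _ _)

end Groth.Agent.H24Formal3.FPCrit
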