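import Groth.Agent.H24Formal3.Restrict

/-!
# Stationary images in the cohomology of the levels over the preimage of an affine open
-/

set_option autoImplicit false
set_option linter.style.haveILetI false
set_option linter.unusedSectionVars false

universe v u

attribute [-instance] CategoryTheory.catToReflQuiver

open AlgebraicGeometry CategoryTheory CategoryTheory.Limits TopologicalSpace Opposite CategoryTheory.Abelian

namespace Groth.Agent.H24Formal3.StableAt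

attribute [local instance 10000] H10Coh.hasSheafifyAb H10Coh.hasWeakSheafifyAb H10Coh.hasExtAb H10Coh.enoughInjAb

open H24FMod

section Transfer

variable {X : TopCat.{u}} (Q : CohTop.Ab X) (F : ℕ → CohTop.Ab X) (t : ∀ k, F (k + 1) ⟶ F k)

/-- The tower of extension groups of a tower of abelian sheaves. -/
noncomputable abbrev extSys (p : ℕ) : ℕᵒᵖ ⥤ AddCommGrpCat.{u} :=
  Functor.ofOpSequence (X := fun k => AddCommGrpCat.of (Ext.{u} Q (F k) p))
    (fun k => AddCommGrpCat.ofHom ((Ext.mk₀ (t k)).postcomp Q (add_zero p)))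

theorem stable_of_equiv {E E' : ℕ → AddCommGrpCat.{v}} {d : ∀ k, E (k + 1) ⟶ E k} {d' : ∀ k, E' (k + 1) ⟶ E' k}
    (e : ∀ k, E k ≃+ E' k) (he : ∀ k x, e k ((d k).hom x) = (d' k).hom (e (k + 1) x)) {c : ℕ}
    (h : GrML.Stable (Functor.ofOpSequence d) c) : GrML.Stable (Functor.ofOpSequence d') c := by
  let η : Functor.ofOpSequence d ⟶ Functor.ofOpSequence d' :=
    NatTrans.ofOpSequence (fun k => AddCommGrpCat.ofHom (e k).toAddMonoidHom) fun k => by
      rw [Functor.ofOpSequence_map_homOfLE_succ, Functor.ofOpSequence_map_homOfLE_succ]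
      ext x
      exact he k x
  intro i k hk x
  obtain ⟨y, hy⟩ := h i k hk ((e (i + c)).symm x)
  refine ⟨e k y, (congr($(η.naturality (homOfLE ((Nat.le_add_right i c).trans hk)).op) y)).symm.trans ?_⟩
  refine (congrArg (e i) hy).trans ((congr($(η.naturality (homOfLE (Nat.le_add_right i c)).op) ((e (i + c)).symm x))).trans ?_)
  exact congrArg (fun z => (Functor.ofOpSequence d').map (homOfLE (Nat.le_add_right i c)).op z) ((e (i + c)).apply_symm_apply x)

variable {Q}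

/-- Postcomposition with an isomorphism. -/
noncomputable def postE {G G' : CohTop.Ab X} (a : G ≅ G') (p : ℕ) : Ext.{u} Q G p ≃+ Ext.{u} Q G' p where
  toFun x := x.comp (Ext.mk₀ a.hom) (add_zero p)
  invFun x := x.comp (Ext.mk₀ a.inv) (add_zero p)
  left_inv x := by simp
  right_inv x := by simp
  map_add' x y := by simp

/-- Precomposition with an isomorphism. -/
noncomputable def preE {Q' : CohTop.Ab X} (a : Q' ≅ Q) (G : CohTop.Ab X) (p : ℕ) : Ext.{u} Q G p ≃+ Ext.{u} Q' G p where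
  toFun x := (Ext.mk₀ a.hom).comp x (zero_add p)
  invFun x := (Ext.mk₀ a.inv).comp x (zero_add p)
  left_inv x := by simp
  right_inv x := by simp
  map_add' x y := by simp

theorem stable_of_iso {F' : ℕ → CohTop.Ab X} {t' : ∀ k, F' (k + 1) ⟶ F' k} (i : ∀ k, F k ≅ F' k)
    (hi : ∀ k, t k ≫ (i k).hom = (i (k + 1)).hom ≫ t' k) {p c : ℕ} (h : GrML.Stable (extSys Q F t p) c) :
    GrML.Stable (extSys Q F' t' p) c :=
  stable_of_equiv (fun k => postE (i k) p) (fun k (x : Ext.{u} Q (F (k + 1)) p) => by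
    show (x.comp (Ext.mk₀ (t k)) (add_zero p)).comp (Ext.mk₀ (i k).hom) (add_zero p) =
      (x.comp (Ext.mk₀ (i (k + 1)).hom) (add_zero p)).comp (Ext.mk₀ (t' k)) (add_zero p)
    simp [hi k]) h

theorem stable_of_iso_source {Q' : CohTop.Ab X} (a : Q' ≅ Q) {p c : ℕ} (h : GrML.Stable (extSys Q F t p) c) :
    GrML.Stable (extSys Q' F t p) c :=
  stable_of_equiv (fun k => preE a (F k) p) (fun k (x : Ext.{u} Q (F (k + 1)) p) =>
    (Ext.comp_assoc_of_third_deg_zero (Ext.mk₀ a.hom) x (Ext.mk₀ (t k)) (zero_add p)).symm) h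

variable {Y : TopCat.{u}} {j : Y ⟶ X} (hj : Topology.IsOpenEmbedding j)

theorem stable_of_restr {p c : ℕ}
    (h : GrML.Stable (extSys (H10Coh.Zsh (⊤ : Opens Y)) (fun k => (H10Coh.Rf hj).obj (F k))
      (fun k => (H10Coh.Rf hj).map (t k)) p) c) :
    GrML.Stable (extSys (H10Coh.Zsh (H10Coh.im hj ⊤)) F t p) c :=
  stable_of_equiv (fun k => (H10Coh.restrEquiv hj (F k) p ⊤).symm) (fun k x => by
    apply (H10Coh.restrEquiv hj (F k) p ⊤).injective
    refine ((H10Coh.restrEquiv hj (F k) p ⊤).apply_symm_apply _).trans ?_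
    refine Eq.trans ?_ (H10Coh.restrEquiv_map hj (t k) p ⊤ ((H10Coh.restrEquiv hj (F (k + 1)) p ⊤).symm x)).symm
    exact congrArg (fun z => Ext.comp z (Ext.mk₀ ((H10Coh.Rf hj).map (t k))) (add_zero p))
      ((H10Coh.restrEquiv hj (F (k + 1)) p ⊤).apply_symm_apply x).symm) h

theorem stable_of_sys {Z : TopCat.{u}} {O : Sheaf (Opens.grothendieckTopology Z) CommRingCat.{u}}
    [h₁ : HasSheafify (Opens.grothendieckTopology Z) AddCommGrpCat.{u}]
    [h₂ : HasExt.{u} (Sheaf (Opens.grothendieckTopology Z) AddCommGrpCat.{u})] {M : ℕ → ModSite.Mod O}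
    {s : ∀ k, M (k + 1) ⟶ M k} {p c : ℕ} (h : GrML.Stable (GrTower.sys M s p) c) :
    GrML.Stable (extSys (H10Coh.Zsh (⊤ : Opens Z)) (fun k => (SheafOfModules.toSheaf.{u} (ModSite.ringSh O)).obj (M k))
      (fun k => (SheafOfModules.toSheaf.{u} (ModSite.ringSh O)).map (s k)) p) c :=
  stable_of_iso_source _ _ (H10Coh.topIso Z) h

end Transfer

/-- The abelian sheaves of the levels. -/
noncomputable abbrev abG {𝔛 : FSch.Sys.{u}} (hX : 𝔛.IsLocNoethFormal) (𝔉 : FSch.ModF 𝔛 hX.1) (k : ℕ) :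
    CohTop.Ab (𝔛.X 0).carrier :=
  (SheafOfModules.toSheaf.{u} (ModSite.ringSh (𝔛.Osh hX.1))).obj (GrF.G hX 𝔉 k)

/-- The abelian sheaves of the transitions. -/
noncomputable abbrev abL {𝔛 : FSch.Sys.{u}} (hX : 𝔛.IsLocNoethFormal) (𝔉 : FSch.ModF 𝔛 hX.1) (k : ℕ) :
    abG hX 𝔉 (k + 1) ⟶ abG hX 𝔉 k :=
  (SheafOfModules.toSheaf.{u} (ModSite.ringSh (𝔛.Osh hX.1))).map (GrF.L hX 𝔉 k)

theorem stable_abG_of_realMod {𝔜 : FSch.Sys.{u}} (hY : 𝔜.IsLocNoethFormal) (S : FSch.ModSys 𝔜) (hS : S.IsCoh)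
    {Q : CohTop.Ab (𝔜.X 0).carrier} {p c : ℕ}
    (h : GrML.Stable (extSys Q (abG hY (S.realMod hY.1)) (abL hY (S.realMod hY.1)) p) c) :
    GrML.Stable (extSys Q (Restrict.shS hY S) (Restrict.shT hY S) p) c := by
  obtain ⟨η, hη⟩ := Restrict.exists_levelIso hY S hS
  let T := SheafOfModules.toSheaf.{u} (ModSite.ringSh (𝔜.Osh hY.1))
  exact stable_of_iso _ _ (fun k => T.mapIso (η k))
    (fun k => (T.map_comp _ _).symm.trans ((congrArg T.map (hη k)).trans (T.map_comp _ _))) h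

theorem stable_im_of_resSys {𝔛 : FSch.Sys.{u}} (hX : 𝔛.IsLocNoethFormal) (U : (𝔛.X 0).Opens) (𝔉 : FSch.ModF 𝔛 hX.1)
    {p c : ℕ}
    (h : GrML.Stable (extSys (H10Coh.Zsh (⊤ : Opens ((𝔛.restrictOpen hX.1 U).X 0).carrier))
      (Restrict.shS (Chart.isLocNoethFormal_restrictOpen hX U) (Restrict.resSys hX U 𝔉))
      (Restrict.shT (Chart.isLocNoethFormal_restrictOpen hX U) (Restrict.resSys hX U 𝔉)) p) c) :
    GrML.Stable (extSys (H10Coh.Zsh (H10Coh.im (Restrict.isOpenEmbedding_jb hX U) ⊤))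
      (Restrict.shS hX (pullSys hX 𝔉)) (Restrict.shT hX (pullSys hX 𝔉)) p) c := by
  obtain ⟨ρ, hρ⟩ := Restrict.exists_resIso hX U 𝔉
  refine stable_of_restr _ _ (Restrict.isOpenEmbedding_jb hX U) (stable_of_iso _ _ (fun k => (ρ k).symm) (fun k => ?_) h)
  rw [Iso.symm_hom, Iso.symm_hom, Iso.comp_inv_eq, Category.assoc, hρ k, Iso.inv_hom_id_assoc]

variable {𝔛 𝔜 : FSch.Sys.{u}} (hX : 𝔛.IsLocNoethFormal) (hY : 𝔜.IsLocNoethFormal) (f : 𝔛 ⟶ 𝔜)
  (hf : FSch.IsProperHom f) (𝔉 : FSch.ModF 𝔛 hX.1) (h𝔉 : FSch.IsCohF 𝔛 hX.1 𝔉)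

include hY hf h𝔉 in
/-- The images in the cohomology of the levels over the preimage of an affine open are stationary. -/
theorem exists_stable (V : (𝔜.X 0).Opens) (hV : IsAffineOpen V) (p : ℕ) :
    ∃ c, GrML.Stable (extSys (H10Coh.Zsh ((f : FSch.Hom 𝔛 𝔜).app 0 ⁻¹ᵁ V)) (abG hX 𝔉) (abL hX 𝔉) p) c := by
  obtain ⟨A, _, J, g, -, hA, _, hg, -⟩ := Chart.exists_chart hX hY f hf V hV
  let U := (f : FSch.Hom 𝔛 𝔜).app 0 ⁻¹ᵁ V
  let h' := Chart.isLocNoethFormal_restrictOpen hX U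
  obtain ⟨c, hc⟩ := GrF.exists_stable_sysH J g h' (Restrict.resMod hX U 𝔉) hg.1
    (Restrict.isCohF_resMod hX U 𝔉 h𝔉) hg.2 p
  have h4 := stable_im_of_resSys hX U 𝔉
    (stable_abG_of_realMod h' (Restrict.resSys hX U 𝔉) (Restrict.isCoh_resSys hX U 𝔉 h𝔉) (stable_of_sys hc))
  rw [Restrict.im_top] at h4
  refine ⟨c, ?_⟩
  have e : abL hX 𝔉 = fun k => Restrict.shT hX (pullSys hX 𝔉) k :=
    funext fun k => congrArg (SheafOfModules.toSheaf.{u} (ModSite.ringSh (𝔛.Osh hX.1))).map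
      (Restrict.L_eq_stepS hX 𝔉 h𝔉 k)
  rw [e]
  exact h4

end Groth.Agent.H24Formal3.StableAt
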