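import Groth.Agent.H24Formal3.Localise
import Groth.Agent.H24Formal3.StableAt

/-!
# Sections of the higher direct images of the levels over affine opens
-/

set_option autoImplicit false
set_option linter.style.haveILetI false
set_option linter.unusedSectionVars false

universe u

attribute [-instance] CategoryTheory.catToReflQuiver

open AlgebraicGeometry CategoryTheory CategoryTheory.Limits TopologicalSpace Opposite CategoryTheory.Abelian

namespace Groth.Agent.H24Formal3.RpushLevels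

attribute [local instance 10000] H15Site.SiteInst.hasSheafifySite H15Site.SiteInst.hasWeakSheafifySite
  H15Site.SiteInst.hasExtSite H15Site.SiteInst.enoughInjSite

open ModRpush FormalLevels H24FMod H24FMod.GrF

section Generic

variable {C D : Type u} [SmallCategory C] [SmallCategory D] {Jt : GrothendieckTopology C}
  {Kt : GrothendieckTopology D} (u : D ⥤ C) {O : Sheaf Kt CommRingCat.{u}}

/-- Sections through an identification with a sheafified presheaf. -/
theorem exists_sections_equiv {q : ℕ} {F F' : Sheaf Jt AddCommGrpCat.{u}} (φ : F ⟶ F') {M M' : ModSite.Mod O}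
    (ψ : M ⟶ M') (e : (SheafOfModules.toSheaf.{u} (ModSite.ringSh O)).obj M ≅
      (H15Site.HigherDirectSite.shPush Kt u).obj ((hP Jt q).obj F))
    (e' : (SheafOfModules.toSheaf.{u} (ModSite.ringSh O)).obj M' ≅
      (H15Site.HigherDirectSite.shPush Kt u).obj ((hP Jt q).obj F'))
    (he : (SheafOfModules.toSheaf.{u} (ModSite.ringSh O)).map ψ ≫ e'.hom =
      e.hom ≫ (H15Site.HigherDirectSite.shPush Kt u).map ((hP Jt q).map φ)) (V : D)
    (x : ((hP Jt q).obj F).obj (op (u.obj V))) :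
    (e'.inv.hom.app (op V)).hom
        (((toSheafify Kt (u.op ⋙ (hP Jt q).obj F')).app (op V)).hom ((((hP Jt q).map φ).app (op (u.obj V))).hom x)) =
      (((SheafOfModules.toSheaf.{u} (ModSite.ringSh O)).map ψ).hom.app (op V)).hom
        ((e.inv.hom.app (op V)).hom (((toSheafify Kt (u.op ⋙ (hP Jt q).obj F)).app (op V)).hom x)) := by
  have h1 := congr($(NatTrans.congr_app (toSheafify_naturality Kt (Functor.whiskerLeft u.op ((hP Jt q).map φ))) (op V)) x)
  refine (congrArg (e'.inv.hom.app (op V)).hom h1).trans ?_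
  have h2 : (H15Site.HigherDirectSite.shPush Kt u).map ((hP Jt q).map φ) ≫ e'.inv =
      e.inv ≫ (SheafOfModules.toSheaf.{u} (ModSite.ringSh O)).map ψ := by
    rw [Iso.comp_inv_eq, Category.assoc, he, Iso.inv_hom_id_assoc]
  have h3 := congrArg (fun z : (H15Site.HigherDirectSite.shPush Kt u).obj ((hP Jt q).obj F) ⟶
    (SheafOfModules.toSheaf.{u} (ModSite.ringSh O)).obj M' => z.hom.app (op V)) h2
  exact congr($h3 (((toSheafify Kt (u.op ⋙ (hP Jt q).obj F)).app (op V)).hom x))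

end Generic

variable {𝔛 𝔜 : FSch.Sys.{u}} (hX : 𝔛.IsLocNoethFormal) (hY : 𝔜.IsLocNoethFormal) (f : 𝔛 ⟶ 𝔜)
  [HasInjectiveResolutions (FSch.ModF 𝔛 hX.1)] (𝔉 : FSch.ModF 𝔛 hX.1)

/-- The higher direct image of a level. -/
noncomputable abbrev rG (q k : ℕ) : FSch.ModF 𝔜 hY.1 := (FSch.RpushF f hX.1 hY.1 q).obj (G hX 𝔉 k)

/-- The transition of the higher direct images of the levels. -/
noncomputable abbrev rL (q k : ℕ) : rG hX hY f 𝔉 q (k + 1) ⟶ rG hX hY f 𝔉 q k :=
  (FSch.RpushF f hX.1 hY.1 q).map (L hX 𝔉 k)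

variable (h𝔉 : FSch.IsCohF 𝔛 hX.1 𝔉)

include h𝔉 in
/-- Sections of the higher direct images of the levels over an affine open are cohomology groups. -/
theorem exists_secEquiv (hqc : QuasiCompact ((f : FSch.Hom 𝔛 𝔜).app 0)) (q : ℕ) (V : (𝔜.X 0).Opens)
    (hV : IsAffineOpen V) :
    ∃ E : ∀ k, Ext.{u} (CohCx.freeSheaf (Opens.grothendieckTopology (𝔛.X 0)) ((f : FSch.Hom 𝔛 𝔜).app 0 ⁻¹ᵁ V))
        (shG hX 𝔉 k) q ≃+ Sec hY.1 (rG hX hY f 𝔉 q k) V,
      ∀ k x, secMap (rL hX hY f 𝔉 q k) V (E (k + 1) x) =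
        E k (x.comp (Ext.mk₀ (shL hX 𝔉 k)) (add_zero q)) := by
  obtain ⟨Ev, hEv⟩ := exists_ev (J := Opens.grothendieckTopology (𝔛.X 0)) ((f : FSch.Hom 𝔛 𝔜).app 0 ⁻¹ᵁ V) q
  obtain ⟨e⟩ := nonempty_modRpushIso (FSch.homMor f hX.1 hY.1) q
  let K := Opens.grothendieckTopology (𝔜.X 0)
  let s : ∀ k, (P hX f 𝔉 q k).obj (op V) →+ Sec hY.1 (rG hX hY f 𝔉 q k) V := fun k =>
    ((e.app (G hX 𝔉 k)).inv.hom.app (op V)).hom.comp ((toSheafify K (P hX f 𝔉 q k)).app (op V)).hom
  have hs : ∀ k, Function.Bijective (s k) := fun k =>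
    (ConcreteCategory.bijective_of_isIso
      (((sheafToPresheaf K AddCommGrpCat.{u}).mapIso (e.app (G hX 𝔉 k)).symm).hom.app (op V))).comp
      (bijective_toSheafify_P hX hY f 𝔉 h𝔉 hqc q k V hV)
  refine ⟨fun k => (Ev (shG hX 𝔉 k)).symm.trans (AddEquiv.ofBijective (s k) (hs k)), fun k x => ?_⟩
  obtain ⟨y, rfl⟩ := (Ev (shG hX 𝔉 (k + 1))).surjective x
  rw [← hEv]
  show secMap (rL hX hY f 𝔉 q k) V (s (k + 1) ((Ev _).symm (Ev _ y))) = s k ((Ev _).symm (Ev _ _))
  rw [AddEquiv.symm_apply_apply, AddEquiv.symm_apply_apply]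
  exact (exists_sections_equiv (Opens.map ((f : FSch.Hom 𝔛 𝔜).app 0).base) (shL hX 𝔉 k) (rL hX hY f 𝔉 q k)
    (e.app (G hX 𝔉 (k + 1))) (e.app (G hX 𝔉 k)) (e.hom.naturality (L hX 𝔉 k)) V y).symm

include h𝔉 in
/-- The images in the sections over an affine open are stationary. -/
theorem exists_stable_sec (hf : FSch.IsProperHom f) (q : ℕ) (V : (𝔜.X 0).Opens) (hV : IsAffineOpen V) :
    ∃ c, GrML.Stable (Functor.ofOpSequence (X := fun k => AddCommGrpCat.of (Sec hY.1 (rG hX hY f 𝔉 q k) V))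
      fun k => AddCommGrpCat.ofHom (secMap (rL hX hY f 𝔉 q k) V)) c := by
  haveI := hf.2
  obtain ⟨E, hE⟩ := exists_secEquiv hX hY f 𝔉 h𝔉 inferInstance q V hV
  obtain ⟨c, hc⟩ := StableAt.exists_stable hX hY f hf 𝔉 h𝔉 V hV q
  exact ⟨c, StableAt.stable_of_equiv E (fun k x => (hE k x).symm) hc⟩

end Groth.Agent.H24Formal3.RpushLevels
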