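import Groth.Agent.H24Formal3.BijExt
import Groth.Agent.H24Formal3.RpushLevels
import Groth.Agent.H24FMod.Limit

/-!
# Higher direct images of a coherent module as limits over the levels
-/

set_option autoImplicit false
set_option linter.style.haveILetI false
set_option linter.unusedSectionVars false

universe u

attribute [-instance] CategoryTheory.catToReflQuiver

open AlgebraicGeometry CategoryTheory CategoryTheory.Limits TopologicalSpace Opposite CategoryTheory.Abelian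

namespace Groth.Agent.H24Formal3.LimLevels

attribute [local instance 10000] H15Site.SiteInst.hasSheafifySite H15Site.SiteInst.hasWeakSheafifySite
  H15Site.SiteInst.hasExtSite H15Site.SiteInst.enoughInjSite

open ModRpush FormalLevels H24FMod H24FMod.GrF RpushLevels

theorem isIso_of_bijective_basis {D : Type u} [SmallCategory D] {K : GrothendieckTopology D}
    {P : Dᵒᵖ ⥤ AddCommGrpCat.{u}} {G : Sheaf K AddCommGrpCat.{u}}
    (X : (presheafToSheaf K AddCommGrpCat.{u}).obj P ⟶ G) (B : Set D)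
    (hB : ∀ V : D, ∃ (κ : Type u) (Y : κ → D) (g : ∀ k, Y k ⟶ V), Sieve.ofArrows Y g ∈ K V ∧ ∀ k, Y k ∈ B)
    (h : ∀ Y ∈ B, Function.Bijective ((toSheafify K P ≫ X.hom).app (op Y)).hom) : IsIso X := by
  let adj := sheafificationAdjunction K AddCommGrpCat.{u}
  let β : P ⟶ G.obj := toSheafify K P ≫ X.hom
  haveI := H15Site.RpushColim.isIso_sheafify_map (K := K) β B hB fun Y hY =>
    (ConcreteCategory.isIso_iff_bijective _).2 (h Y hY)
  have hX : (adj.homEquiv P G).symm β = X :=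
    (Equiv.symm_apply_eq _).2 (adj.homEquiv_unit P G X).symm
  rw [← hX, Adjunction.homEquiv_counit]
  exact IsIso.comp_isIso' ‹_› ((asIso adj.counit).app G).isIso_hom

variable {𝔛 𝔜 : FSch.Sys.{u}} (hX : 𝔛.IsLocNoethFormal) (hY : 𝔜.IsLocNoethFormal) (f : 𝔛 ⟶ 𝔜)
  [HasInjectiveResolutions (FSch.ModF 𝔛 hX.1)] (𝔉 : FSch.ModF 𝔛 hX.1)

/-- The higher direct image of the module. -/
noncomputable abbrev rF (q : ℕ) : FSch.ModF 𝔜 hY.1 := (FSch.RpushF f hX.1 hY.1 q).obj 𝔉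

/-- The projection to a level. -/
noncomputable abbrev ru (q k : ℕ) : rF hX hY f 𝔉 q ⟶ rG hX hY f 𝔉 q k :=
  (FSch.RpushF f hX.1 hY.1 q).map (GrF.u hX 𝔉 k)

theorem ru_rL (q k : ℕ) : ru hX hY f 𝔉 q (k + 1) ≫ rL hX hY f 𝔉 q k = ru hX hY f 𝔉 q k :=
  ((FSch.RpushF f hX.1 hY.1 q).map_comp _ _).symm.trans
    (congrArg (FSch.RpushF f hX.1 hY.1 q).map (GrF.u_L hX 𝔉 k))

/-- The comparison with the limit over the levels. -/
noncomputable def toLim (q : ℕ) : rF hX hY f 𝔉 q ⟶ limit (Functor.ofOpSequence (rL hX hY f 𝔉 q)) :=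
  limit.lift (Functor.ofOpSequence (rL hX hY f 𝔉 q))
    { pt := rF hX hY f 𝔉 q
      π := NatTrans.ofOpSequence (fun k => ru hX hY f 𝔉 q k) fun k => by
        rw [Functor.ofOpSequence_map_homOfLE_succ]
        exact (Category.id_comp _).trans (ru_rL hX hY f 𝔉 q k).symm }

theorem toLim_π (q k : ℕ) :
    toLim hX hY f 𝔉 q ≫ limit.π (Functor.ofOpSequence (rL hX hY f 𝔉 q)) (op k) = ru hX hY f 𝔉 q k :=
  limit.lift_π _ _

/-- The abelian sheaf of a module. -/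
noncomputable abbrev shM (M : FSch.ModF 𝔛 hX.1) : Sheaf (Opens.grothendieckTopology (𝔛.X 0)) AddCommGrpCat.{u} :=
  (SheafOfModules.toSheaf.{u} (ModSite.ringSh (𝔛.Osh hX.1))).obj M

variable {q : ℕ} (e : (FSch.RpushF f hX.1 hY.1 q) ⋙ SheafOfModules.toSheaf.{u} (ModSite.ringSh (𝔜.Osh hY.1)) ≅
  SheafOfModules.toSheaf.{u} (ModSite.ringSh (𝔛.Osh hX.1)) ⋙ hP (Opens.grothendieckTopology (𝔛.X 0)) q ⋙
    H15Site.HigherDirectSite.shPush (Opens.grothendieckTopology (𝔜.X 0))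
      (Opens.map ((f : FSch.Hom 𝔛 𝔜).app 0).base))

/-- From the cohomology presheaf to sections of the higher direct image. -/
noncomputable def sec (M : FSch.ModF 𝔛 hX.1) (V : (𝔜.X 0).Opens) :
    ((hP (Opens.grothendieckTopology (𝔛.X 0)) q).obj (shM hX M)).obj (op ((f : FSch.Hom 𝔛 𝔜).app 0 ⁻¹ᵁ V)) →+
      Sec hY.1 ((FSch.RpushF f hX.1 hY.1 q).obj M) V :=
  ((e.app M).inv.hom.app (op V)).hom.comp
    ((toSheafify (Opens.grothendieckTopology (𝔜.X 0)) ((Opens.map ((f : FSch.Hom 𝔛 𝔜).app 0).base).op ⋙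
      (hP (Opens.grothendieckTopology (𝔛.X 0)) q).obj (shM hX M))).app (op V)).hom

theorem sec_natural {M M' : FSch.ModF 𝔛 hX.1} (φ : M ⟶ M') (V : (𝔜.X 0).Opens)
    (x : ((hP (Opens.grothendieckTopology (𝔛.X 0)) q).obj (shM hX M)).obj (op ((f : FSch.Hom 𝔛 𝔜).app 0 ⁻¹ᵁ V))) :
    sec hX hY f e M' V ((((hP (Opens.grothendieckTopology (𝔛.X 0)) q).map
        ((SheafOfModules.toSheaf.{u} (ModSite.ringSh (𝔛.Osh hX.1))).map φ)).app _).hom x) =
      secMap ((FSch.RpushF f hX.1 hY.1 q).map φ) V (sec hX hY f e M V x) :=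
  exists_sections_equiv (Opens.map ((f : FSch.Hom 𝔛 𝔜).app 0).base)
    ((SheafOfModules.toSheaf.{u} (ModSite.ringSh (𝔛.Osh hX.1))).map φ) ((FSch.RpushF f hX.1 hY.1 q).map φ)
    (e.app M) (e.app M') (e.hom.naturality φ) V x

theorem secMap_π_toLim (k : ℕ) (V : (𝔜.X 0).Opens) (z : Sec hY.1 (rF hX hY f 𝔉 q) V) :
    secMap (limit.π (Functor.ofOpSequence (rL hX hY f 𝔉 q)) (op k)) V (secMap (toLim hX hY f 𝔉 q) V z) =
      secMap (ru hX hY f 𝔉 q k) V z :=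
  congr(secMap $(toLim_π hX hY f 𝔉 q k) V z)

theorem secMap_rL_π (k : ℕ) (V : (𝔜.X 0).Opens) (t : Sec hY.1 (limit (Functor.ofOpSequence (rL hX hY f 𝔉 q))) V) :
    secMap (rL hX hY f 𝔉 q k) V (secMap (limit.π (Functor.ofOpSequence (rL hX hY f 𝔉 q)) (op (k + 1))) V t) =
      secMap (limit.π (Functor.ofOpSequence (rL hX hY f 𝔉 q)) (op k)) V t := by
  have h3 := limit.w (Functor.ofOpSequence (rL hX hY f 𝔉 q)) (homOfLE (Nat.le_add_right k 1)).op
  rw [Functor.ofOpSequence_map_homOfLE_succ] at h3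
  exact congr(secMap $h3 V t)

variable (hf : FSch.IsProperHom f) (h𝔉 : FSch.IsCohF 𝔛 hX.1 𝔉)

include hf h𝔉 in
theorem bijective_sec_level (k : ℕ) (V : (𝔜.X 0).Opens) (hV : IsAffineOpen V) :
    Function.Bijective (sec hX hY f e (G hX 𝔉 k) V) := by
  haveI := hf.2
  exact (ConcreteCategory.bijective_of_isIso
      (((sheafToPresheaf _ AddCommGrpCat.{u}).mapIso (e.app (G hX 𝔉 k)).symm).hom.app (op V))).comp
      (bijective_toSheafify_P hX hY f 𝔉 h𝔉 inferInstance q k V hV)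

include hf h𝔉 in
theorem map_shu_eq_zero (k : ℕ) (V : (𝔜.X 0).Opens) (hV : IsAffineOpen V)
    (x : ((hP (Opens.grothendieckTopology (𝔛.X 0)) q).obj (shM hX 𝔉)).obj (op ((f : FSch.Hom 𝔛 𝔜).app 0 ⁻¹ᵁ V)))
    (hx : secMap (ru hX hY f 𝔉 q k) V (sec hX hY f e 𝔉 V x) = 0) :
    (((hP (Opens.grothendieckTopology (𝔛.X 0)) q).map (BijLevels.shu hX 𝔉 k)).app
      (op ((f : FSch.Hom 𝔛 𝔜).app 0 ⁻¹ᵁ V))).hom x = 0 := by
  refine (bijective_sec_level hX hY f 𝔉 e hf h𝔉 k V hV).1 ?_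
  rw [map_zero (sec hX hY f e (G hX 𝔉 k) V)]
  exact (sec_natural hX hY f e (GrF.u hX 𝔉 k) V x).trans hx

include hf h𝔉 in
theorem surjective_affine (V : (𝔜.X 0).Opens) (hV : IsAffineOpen V)
    (t : Sec hY.1 (limit (Functor.ofOpSequence (rL hX hY f 𝔉 q))) V) :
    ∃ x, secMap (toLim hX hY f 𝔉 q) V (sec hX hY f e 𝔉 V x) = t := by
  obtain ⟨Ev, hEv⟩ := exists_ev (J := Opens.grothendieckTopology (𝔛.X 0)) ((f : FSch.Hom 𝔛 𝔜).app 0 ⁻¹ᵁ V) q
  have hs := fun k => bijective_sec_level hX hY f 𝔉 e hf h𝔉 k V hV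
  obtain ⟨h1, h2⟩ := BijLevels.bijective_toLevels hX hY f hf 𝔉 h𝔉 V hV q
  choose w hw using fun k => (hs k).2 (secMap (limit.π (Functor.ofOpSequence (rL hX hY f 𝔉 q)) (op k)) V t)
  obtain ⟨η, hη⟩ := h2 (fun k => Ev (shG hX 𝔉 k) (w k)) fun k => by
    refine (hEv _ _ (shL hX 𝔉 k) (w (k + 1))).symm.trans (congrArg (Ev _) ((hs k).1 ?_))
    refine (sec_natural hX hY f e (L hX 𝔉 k) V (w (k + 1))).trans (Eq.trans ?_ (hw k).symm)
    exact (congrArg (secMap (rL hX hY f 𝔉 q k) V) (hw (k + 1))).trans (secMap_rL_π hX hY f 𝔉 k V t)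
  refine ⟨(Ev (shM hX 𝔉)).symm η, ?_⟩
  refine limit_section_ext (Functor.ofOpSequence (rL hX hY f 𝔉 q)) V _ _ fun k => ?_
  refine (secMap_π_toLim hX hY f 𝔉 k V _).trans ((sec_natural hX hY f e (GrF.u hX 𝔉 k) V _).symm.trans
    ((congrArg (sec hX hY f e (G hX 𝔉 k) V) ?_).trans (hw k)))
  refine (Ev (shG hX 𝔉 k)).injective ((hEv _ _ (BijLevels.shu hX 𝔉 k) _).trans ?_)
  exact (congrArg (fun z => Ext.comp z (Ext.mk₀ (BijLevels.shu hX 𝔉 k)) (add_zero q))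
    ((Ev (shM hX 𝔉)).apply_symm_apply η)).trans (hη k)

include hf h𝔉 in
/-- On an affine open the cohomology presheaf maps bijectively to the limit. -/
theorem bijective_affine (V : (𝔜.X 0).Opens) (hV : IsAffineOpen V) :
    Function.Bijective ((secMap (toLim hX hY f 𝔉 q) V).comp (sec hX hY f e 𝔉 V)) := by
  obtain ⟨Ev, hEv⟩ := exists_ev (J := Opens.grothendieckTopology (𝔛.X 0)) ((f : FSch.Hom 𝔛 𝔜).app 0 ⁻¹ᵁ V) q
  let π := fun k => secMap (limit.π (Functor.ofOpSequence (rL hX hY f 𝔉 q)) (op k)) V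
  have hs := fun k => bijective_sec_level hX hY f 𝔉 e hf h𝔉 k V hV
  obtain ⟨h1, h2⟩ := BijLevels.bijective_toLevels hX hY f hf 𝔉 h𝔉 V hV q
  refine ⟨(injective_iff_map_eq_zero _).2 fun x hx => ?_, fun t => ?_⟩
  · refine (Ev (shM hX 𝔉)).injective ((h1 _ fun k => ?_).trans (map_zero (Ev (shM hX 𝔉))).symm)
    have hx' : secMap (toLim hX hY f 𝔉 q) V (sec hX hY f e 𝔉 V x) = 0 := hx
    have h0 := map_shu_eq_zero hX hY f 𝔉 e hf h𝔉 k V hV x
      ((secMap_π_toLim hX hY f 𝔉 k V _).symm.trans ((congrArg (π k) hx').trans (map_zero (π k))))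
    exact (hEv _ _ (BijLevels.shu hX 𝔉 k) x).symm.trans
      ((congrArg (Ev (shG hX 𝔉 k)) h0).trans (map_zero (Ev (shG hX 𝔉 k))))
  · exact surjective_affine hX hY f 𝔉 e hf h𝔉 V hV t

include hf h𝔉 in
theorem isIso_toLim : IsIso (toLim hX hY f 𝔉 q) := by
  obtain ⟨e⟩ := nonempty_modRpushIso (FSch.homMor f hX.1 hY.1) q
  let T := SheafOfModules.toSheaf.{u} (ModSite.ringSh (𝔜.Osh hY.1))
  haveI := isIso_of_bijective_basis ((e.app 𝔉).inv ≫ T.map (toLim hX hY f 𝔉 q)) {V | IsAffineOpen V}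
    (LimTop.isCovering_of_isBasis (𝔜.X 0).isBasis_affineOpens) (fun V hV => bijective_affine hX hY f 𝔉 e hf h𝔉 V hV)
  haveI : IsIso (T.map (toLim hX hY f 𝔉 q)) := IsIso.of_isIso_comp_left (e.app 𝔉).inv _
  haveI : T.ReflectsIsomorphisms := reflectsIsomorphisms_of_reflectsMonomorphisms_of_reflectsEpimorphisms T
  exact isIso_of_reflects_iso (toLim hX hY f 𝔉 q) T

end Groth.Agent.H24Formal3.LimLevels
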