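import Groth.Agent.H24Formal3.OpenRes
import Groth.Agent.H24FMod.GrLevels

/-!
# Scalars of the base on higher direct images of modules on formal schemes
-/

set_option autoImplicit false
set_option linter.style.haveILetI false
set_option linter.unusedSectionVars false

universe v v' u' u'' u

attribute [-instance] CategoryTheory.catToReflQuiver

open AlgebraicGeometry CategoryTheory CategoryTheory.Limits TopologicalSpace Opposite

namespace Groth.Agent.H24Formal3.Linear

section RightDerived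

variable {C : Type u'} [Category.{v} C] [Abelian C] [HasInjectiveResolutions C]
  {D : Type u''} [Category.{v'} D] [Abelian D] (F : C ⥤ D) [F.Additive]
  (α : 𝟭 C ⟶ 𝟭 C) (β : 𝟭 D ⟶ 𝟭 D)

theorem homologyMap_endo (K : CochainComplex D ℕ) (φ : K ⟶ K) (hφ : ∀ i, φ.f i = β.app (K.X i)) (n : ℕ) :
    HomologicalComplex.homologyMap φ n = β.app (K.homology n) := by
  have h1 : HomologicalComplex.cyclesMap φ n = β.app (K.cycles n) := by
    rw [← cancel_mono (K.iCycles n), HomologicalComplex.cyclesMap_i, hφ n]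
    exact β.naturality (K.iCycles n)
  rw [← cancel_epi (K.homologyπ n), HomologicalComplex.homologyπ_naturality, h1]
  exact (β.naturality (K.homologyπ n)).symm

/-- Right derived functors of natural endomorphisms of the identities. -/
theorem rightDerived_map_endo (h : ∀ M, F.map (α.app M) = β.app (F.obj M)) (n : ℕ) (M : C) :
    (F.rightDerived n).map (α.app M) = β.app ((F.rightDerived n).obj M) := by
  let I := injectiveResolution M
  let φ : I.cocomplex ⟶ I.cocomplex :=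
    { f := fun i => α.app (I.cocomplex.X i)
      comm' := fun i j _ => (α.naturality (I.cocomplex.d i j)).symm }
  have hc : I.ι.f 0 ≫ φ.f 0 = α.app M ≫ I.ι.f 0 := α.naturality (I.ι.f 0)
  have h1 := InjectiveResolution.isoRightDerivedObj_hom_naturality (α.app M) I I φ hc F n
  have h2 : (HomologicalComplex.homologyFunctor D (ComplexShape.up ℕ) n).map
      ((F.mapHomologicalComplex (ComplexShape.up ℕ)).map φ) = β.app _ :=
    homologyMap_endo β _ _ (fun i => h (I.cocomplex.X i)) n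
  rw [← cancel_mono (I.isoRightDerivedObj F n).hom, h1]
  exact (congrArg ((I.isoRightDerivedObj F n).hom ≫ ·) h2).trans
    (β.naturality (I.isoRightDerivedObj F n).hom)

end RightDerived

open H24FMod H24FMod.GrF H15Site.ModTensor H15Site.ModRel

variable {A : Type u} [CommRing A] (J : Ideal A) {𝔛 𝔜 : FSch.Sys.{u}} (hX : 𝔛.IsLocNoethFormal)
  (hY : 𝔜.IsLocNoethFormal) (f : 𝔛 ⟶ 𝔜) (p : 𝔜 ⟶ FSch.spf A J)

/-- The comorphism carries scalars to scalars. -/
theorem sharp_σU (W : (𝔜.X 0).Opens) (a : A) :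
    ((FSch.homMor f hX.1 hY.1).sharp.hom.app (op W)).hom (σU J p hY W a) =
      σU J (f ≫ p) hX ((f : FSch.Hom 𝔛 𝔜).app 0 ⁻¹ᵁ W) a :=
  oP_ext hX.1 (U := (f : FSch.Hom 𝔛 𝔜).app 0 ⁻¹ᵁ W) _ _ fun n => by
    refine (OpenRes.oP_sharp hX.1 hY.1 f n W _).trans ?_
    refine (congrArg _ (oP_σU J p hY n W a)).trans ?_
    refine (appLE_scal (toA J p n) ((f : FSch.Hom 𝔛 𝔜).app n) _ a).trans ?_
    exact (congrArg (fun φ => LeadFF.scal φ _ a) (Category.assoc ((f : FSch.Hom 𝔛 𝔜).app n) _ _).symm).trans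
      (oP_σU J (f ≫ p) hX n _ a).symm

/-- Direct images of scalar multiplications are scalar multiplications. -/
theorem pushF_sm (a : A) (M : FSch.ModF 𝔛 hX.1) :
    (FSch.pushF f hX.1 hY.1).map (sm J (f ≫ p) hX a M) = sm J p hY a ((FSch.pushF f hX.1 hY.1).obj M) :=
  hom_ext_sec fun W x => by
    let y : Sec hX.1 M ((f : FSch.Hom 𝔛 𝔜).app 0 ⁻¹ᵁ W) := x
    show σU J (f ≫ p) hX ((f : FSch.Hom 𝔛 𝔜).app 0 ⁻¹ᵁ W) a • y = _
    rw [← sharp_σU J hX hY f p W a]
    rfl

theorem sm_natural {𝔷 : FSch.Sys.{u}} (hZ : 𝔷.IsLocNoethFormal) (g : 𝔷 ⟶ FSch.spf A J) (a : A)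
    {M N : FSch.ModF 𝔷 hZ.1} (ψ : M ⟶ N) : ψ ≫ sm J g hZ a N = sm J g hZ a M ≫ ψ :=
  hom_ext_sec fun W x => ((ψ.val.app (op W)).hom.map_smul (σU J g hZ W a) x).symm

/-- Scalar multiplication as a natural endomorphism. -/
noncomputable def smNat {𝔷 : FSch.Sys.{u}} (hZ : 𝔷.IsLocNoethFormal) (g : 𝔷 ⟶ FSch.spf A J) (a : A) :
    𝟭 (FSch.ModF 𝔷 hZ.1) ⟶ 𝟭 (FSch.ModF 𝔷 hZ.1) where
  app M := sm J g hZ a M
  naturality _ _ ψ := sm_natural J hZ g a ψ

variable [HasInjectiveResolutions (FSch.ModF 𝔛 hX.1)]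

/-- Scalar multiplications act on higher direct images by scalar multiplication. -/
theorem rpushF_sm (q : ℕ) (a : A) (M : FSch.ModF 𝔛 hX.1) :
    (FSch.RpushF f hX.1 hY.1 q).map (sm J (f ≫ p) hX a M) = sm J p hY a ((FSch.RpushF f hX.1 hY.1 q).obj M) :=
  haveI : (FSch.pushF f hX.1 hY.1).IsRightAdjoint := (FSch.homMor f hX.1 hY.1).adj.isRightAdjoint
  rightDerived_map_endo (FSch.pushF f hX.1 hY.1) (smNat J hX (f ≫ p) a) (smNat J hY p a)
    (pushF_sm J hX hY f p a) q M

/-- The scalars of the ideal lie in the ideal of definition. -/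
theorem σU_mem (n : ℕ) (W : (𝔜.X 0).Opens) {a : A} (ha : a ∈ J ^ n) :
    σU J p hY W a ∈ RingHom.ker (oP hY.1 0 W) ^ n := by
  have h : J.map (σU J p hY W) ≤ RingHom.ker (oP hY.1 0 W) := Ideal.map_le_iff_le_comap.2 fun r hr => by
    rw [Ideal.mem_comap, RingHom.mem_ker, oP_σU]
    exact scal_toA_eq_zero J p 0 _ (by rwa [zero_add, pow_one])
  exact Ideal.pow_right_mono h n (Ideal.map_pow (σU J p hY W) J n ▸ Ideal.mem_map_of_mem _ ha)

end Groth.Agent.H24Formal3.Linear
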