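import Groth.Agent.H24Formal3.GrStep
import Groth.Agent.H24Formal3.Linear
import Groth.Agent.H24Formal3.FPCrit
import Groth.Agent.H24Formal3.LimLevels

/-!
# Higher direct images of coherent modules over an affine formal scheme are locally finitely presented
-/

set_option autoImplicit false
set_option linter.style.haveILetI false
set_option linter.unusedSectionVars false

universe u

attribute [-instance] CategoryTheory.catToReflQuiver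

open AlgebraicGeometry CategoryTheory CategoryTheory.Limits TopologicalSpace Opposite CategoryTheory.Abelian

namespace Groth.Agent.H24Formal3.AffineCtrl

attribute [local instance 10000] H15Site.SiteInst.hasSheafifySite H15Site.SiteInst.hasWeakSheafifySite
  H15Site.SiteInst.hasExtSite H15Site.SiteInst.enoughInjSite

open ModRpush FormalLevels H24FMod H24FMod.GrF RpushLevels LimLevels H15Site.ModTensor H15Site.ModRel

set_option quotPrecheck false in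
local notation "H[" F ", " p "]" => Sheaf.H ((SheafOfModules.toSheaf (ModSite.ringSh _)).obj F) p

section Tower

/-- An element in a stable image is part of a compatible family. -/
theorem exists_family {E : ℕᵒᵖ ⥤ AddCommGrpCat.{u}} {c : ℕ} (h : GrML.Stable E c) (k : ℕ)
    (z : E.obj (op (k + c))) : ∃ s : ∀ i, E.obj (op i),
      (∀ i, H16Derived.ML.trHom E (Nat.le_succ i) (s (i + 1)) = s i) ∧
        s k = H16Derived.ML.trHom E (Nat.le_add_right k c) z := by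
  have hstep : ∀ i (w : E.obj (op (i + c))), ∃ w' : E.obj (op (i + 1 + c)),
      H16Derived.ML.trHom E (show i ≤ i + 1 + c by omega) w' = H16Derived.ML.trHom E (Nat.le_add_right i c) w :=
    fun i w => h i (i + 1 + c) (by omega) w
  choose nx hnx using hstep
  let g : ∀ j, E.obj (op (k + j + c)) := fun j =>
    Nat.rec (motive := fun j => E.obj (op (k + j + c))) z (fun j w => nx (k + j) w) j
  have htr : ∀ {a b d : ℕ} (h1 : a ≤ b) (h2 : b ≤ d) (x : E.obj (op d)),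
      H16Derived.ML.trHom E h1 (H16Derived.ML.trHom E h2 x) = H16Derived.ML.trHom E (h1.trans h2) x :=
    fun h1 h2 x => congr($((E.map_comp (homOfLE h2).op (homOfLE h1).op).symm) x)
  refine ⟨fun i => H16Derived.ML.trHom E (show i ≤ k + i + c by omega) (g i), fun i => ?_, ?_⟩
  · rw [htr]
    refine Eq.trans ?_ ((htr (show i ≤ k + i by omega) (Nat.le_add_right _ c) (g i)))
    refine Eq.trans ?_ (congrArg (H16Derived.ML.trHom E (show i ≤ k + i by omega)) (hnx (k + i) (g i)))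
    exact (htr (show i ≤ k + i by omega) (show k + i ≤ k + i + 1 + c by omega) (g (i + 1))).symm
  · have hg : ∀ j, H16Derived.ML.trHom E (show k ≤ k + j + c by omega) (g j) =
        H16Derived.ML.trHom E (Nat.le_add_right k c) z := fun j => by
      induction j with
      | zero => rfl
      | succ j ih =>
        refine Eq.trans ?_ (((htr (show k ≤ k + j by omega) (Nat.le_add_right _ c) (g j))).trans ih)
        refine Eq.trans ?_ (congrArg (H16Derived.ML.trHom E (show k ≤ k + j by omega)) (hnx (k + j) (g j)))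
        exact (htr (show k ≤ k + j by omega) (show k + j ≤ k + j + 1 + c by omega) (g (j + 1))).symm
    exact hg k

end Tower

variable {A : Type u} [CommRing A] [IsNoetherianRing A] (J : Ideal A) {𝔛 𝔜 : FSch.Sys.{u}}
  (hX : 𝔛.IsLocNoethFormal) (hY : 𝔜.IsLocNoethFormal) (f : 𝔛 ⟶ 𝔜) (p : 𝔜 ⟶ FSch.spf A J)
  [HasInjectiveResolutions (FSch.ModF 𝔛 hX.1)] (𝔉 : FSch.ModF 𝔛 hX.1) (q : ℕ)
  (hf : FSch.IsProperHom f) (hg : FSch.IsProperHom (f ≫ p)) (h𝔉 : FSch.IsCohF 𝔛 hX.1 𝔉)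
  (hT : IsAffineOpen (⊤ : (𝔜.X 0).Opens))

include hf h𝔉 hT in
/-- From cohomology to global sections of the higher direct images. -/
theorem exists_theta : ∃ Θ : ∀ M : FSch.ModF 𝔛 hX.1, H[M, q] →+ Sec hY.1 ((FSch.RpushF f hX.1 hY.1 q).obj M) ⊤,
    (∀ (M M' : FSch.ModF 𝔛 hX.1) (φ : M ⟶ M') (x : H[M, q]),
      Θ M' (GrTower.hm φ q x) = secMap ((FSch.RpushF f hX.1 hY.1 q).map φ) ⊤ (Θ M x)) ∧
    (∀ k, Function.Bijective (Θ (G hX 𝔉 k))) ∧ Function.Surjective (Θ 𝔉) := by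
  obtain ⟨Ev, hEv⟩ := exists_ev (J := Opens.grothendieckTopology (𝔛.X 0).carrier) ((f : FSch.Hom 𝔛 𝔜).app 0 ⁻¹ᵁ ⊤) q
  obtain ⟨e⟩ := nonempty_modRpushIso (FSch.homMor f hX.1 hY.1) q
  let Θ : ∀ M : FSch.ModF 𝔛 hX.1, H[M, q] →+ Sec hY.1 ((FSch.RpushF f hX.1 hY.1 q).obj M) ⊤ := fun M =>
    (sec hX hY f e M ⊤).comp
      ((H10Coh.topEquiv (shM hX M) q).trans (Ev (shM hX M)).symm).toAddMonoidHom
  refine ⟨Θ, fun M M' φ x => ?_, fun k => ?_, ?_⟩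
  · refine Eq.trans (congrArg (sec hX hY f e M' ⊤) ?_) (sec_natural hX hY f e φ ⊤ _)
    apply (Ev (shM hX M')).injective
    refine ((Ev (shM hX M')).apply_symm_apply _).trans (Eq.trans ?_ (hEv _ _ _ _).symm)
    refine (H10Coh.topEquiv_map _ q x).trans ?_
    exact congrArg (fun w => Ext.comp w (Ext.mk₀ ((SheafOfModules.toSheaf.{u} (ModSite.ringSh (𝔛.Osh hX.1))).map φ)) (add_zero q))
      ((Ev (shM hX M)).apply_symm_apply (H10Coh.topEquiv (shM hX M) q x)).symm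
  · exact (bijective_sec_level hX hY f 𝔉 e hf h𝔉 k ⊤ hT).comp
      ((H10Coh.topEquiv (shM hX (G hX 𝔉 k)) q).trans (Ev (shM hX (G hX 𝔉 k))).symm).bijective
  · haveI := isIso_toLim hX hY f 𝔉 hf h𝔉 (q := q)
    have h1 : Function.Surjective (sec hX hY f e 𝔉 ⊤) := fun y => by
      obtain ⟨x, hx⟩ := (bijective_affine hX hY f 𝔉 e hf h𝔉 ⊤ hT).2 (secMap (toLim hX hY f 𝔉 q) ⊤ y)
      exact ⟨x, FPCrit.secMap_injective (asIso (toLim hX hY f 𝔉 q)) ⊤ hx⟩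
    exact h1.comp ((H10Coh.topEquiv (shM hX 𝔉) q).trans (Ev (shM hX 𝔉)).symm).surjective

variable {Θ : ∀ M : FSch.ModF 𝔛 hX.1, H[M, q] →+ Sec hY.1 ((FSch.RpushF f hX.1 hY.1 q).obj M) ⊤}
  (hΘ : ∀ (M M' : FSch.ModF 𝔛 hX.1) (φ : M ⟶ M') (x : H[M, q]),
    Θ M' (GrTower.hm φ q x) = secMap ((FSch.RpushF f hX.1 hY.1 q).map φ) ⊤ (Θ M x))
  (hΘk : ∀ k, Function.Bijective (Θ (G hX 𝔉 k))) (hΘs : Function.Surjective (Θ 𝔉))

include hΘ in
theorem theta_sm (a : A) (M : FSch.ModF 𝔛 hX.1) (x : H[M, q]) :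
    Θ M (GrTower.hm (sm J (f ≫ p) hX a M) q x) = σU J p hY ⊤ a • Θ M x :=
  (hΘ M M (sm J (f ≫ p) hX a M) x).trans
    (congrArg (fun φ : (FSch.RpushF f hX.1 hY.1 q).obj M ⟶ (FSch.RpushF f hX.1 hY.1 q).obj M => secMap φ ⊤ (Θ M x))
      (Linear.rpushF_sm J hX hY f p q a M))

include hΘ hΘk in
theorem hm_eq_zero_of (n : ℕ) (x : H[𝔉, q]) (h : secMap (ru hX hY f 𝔉 q n) ⊤ (Θ 𝔉 x) = 0) :
    GrTower.hm (GrF.u hX 𝔉 n) q x = 0 :=
  (hΘk n).1 (((hΘ 𝔉 (G hX 𝔉 n) (GrF.u hX 𝔉 n) x).trans h).trans (map_zero _).symm)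

include hΘ in
theorem secMap_ru_theta (n : ℕ) (x : H[𝔉, q]) :
    secMap (ru hX hY f 𝔉 q n) ⊤ (Θ 𝔉 x) = Θ (G hX 𝔉 n) (GrTower.hm (GrF.u hX 𝔉 n) q x) :=
  (hΘ 𝔉 (G hX 𝔉 n) (GrF.u hX 𝔉 n) x).symm

/-- The projection on global sections, linearly. -/
noncomputable def πl {M N : FSch.ModF 𝔜 hY.1} (φ : M ⟶ N) : Sec hY.1 M ⊤ →ₗ[OSec hY.1 ⊤] Sec hY.1 N ⊤ :=
  { (secMap φ (⊤ : (𝔜.X 0).Opens)) with map_smul' := fun a x => FPCrit.secMap_smul φ ⊤ a x }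

include hg h𝔉 hΘ hΘk hΘs hT in
/-- The images on the levels are finitely generated. -/
theorem fg_range (n : ℕ) : (LinearMap.range (πl hY (ru hX hY f 𝔉 q n))).FG := by
  obtain ⟨hN, -, -⟩ := FPCrit.ker_oP_eq (hY := hY) hT
  haveI := hN
  have key : ∀ m, ∃ P : Submodule (OSec hY.1 ⊤) (Sec hY.1 (rG hX hY f 𝔉 q m) ⊤), P.FG ∧
      ∀ z : H[K hX 𝔉 m, q], Θ (G hX 𝔉 m) (GrTower.hm (κ hX 𝔉 m) q z) ∈ P := fun m => by
    obtain ⟨r, t, ht⟩ := GrStep.exists_gen_K J (f ≫ p) hX 𝔉 hg.1 h𝔉 q hg.2 m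
    refine ⟨Submodule.span _ (Set.range fun i => Θ (G hX 𝔉 m) (GrTower.hm (κ hX 𝔉 m) q (t i))),
      Submodule.fg_span (Set.finite_range _), fun z => ?_⟩
    obtain ⟨a, ha⟩ := ht z
    rw [ha, map_sum, map_sum]
    refine Submodule.sum_mem _ fun i _ => ?_
    rw [hΘ (K hX 𝔉 m) (G hX 𝔉 m), theta_sm J hX hY f p q hΘ (a i) (K hX 𝔉 m), FPCrit.secMap_smul, ← hΘ]
    exact Submodule.smul_mem _ _ (Submodule.subset_span ⟨i, rfl⟩)
  induction n with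
  | zero =>
    obtain ⟨P, hP, hP'⟩ := key 0
    refine Submodule.FG.of_le hP (?_ : _ ≤ P)
    rintro _ ⟨y, rfl⟩
    obtain ⟨x, rfl⟩ := hΘs y
    have h := hP' (GrTower.hm (GrF.u hX 𝔉 0) q x)
    rw [show GrTower.hm (κ hX 𝔉 0) q (GrTower.hm (GrF.u hX 𝔉 0) q x) = GrTower.hm (GrF.u hX 𝔉 0) q x from
      GrTower.hm_id _ q _] at h
    exact (secMap_ru_theta hX hY f 𝔉 q hΘ 0 x) ▸ h
  | succ n ih =>
    obtain ⟨P, hP, hP'⟩ := key (n + 1)
    refine Submodule.fg_of_fg_map_of_fg_inf_ker (πl hY (rL hX hY f 𝔉 q n)) ?_ ?_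
    · rw [← LinearMap.range_comp]
      rwa [show (πl hY (rL hX hY f 𝔉 q n)).comp (πl hY (ru hX hY f 𝔉 q (n + 1))) = πl hY (ru hX hY f 𝔉 q n) from
        LinearMap.ext fun y => congr(secMap $(ru_rL hX hY f 𝔉 q n) ⊤ y)]
    · haveI : Module.Finite (OSec hY.1 ⊤) P := Module.Finite.iff_fg.2 hP
      refine Submodule.FG.of_le hP (?_ : _ ≤ P)
      rintro _ ⟨⟨y, rfl⟩, hy⟩
      obtain ⟨x, rfl⟩ := hΘs y
      have hy' : secMap (rL hX hY f 𝔉 q n) ⊤ (secMap (ru hX hY f 𝔉 q (n + 1)) ⊤ (Θ 𝔉 x)) = 0 := hy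
      rw [show secMap (rL hX hY f 𝔉 q n) ⊤ (secMap (ru hX hY f 𝔉 q (n + 1)) ⊤ (Θ 𝔉 x)) =
        secMap (ru hX hY f 𝔉 q n) ⊤ (Θ 𝔉 x) from congr(secMap $(ru_rL hX hY f 𝔉 q n) ⊤ (Θ 𝔉 x))] at hy'
      obtain ⟨z, hz⟩ := GrStep.exists_κ_eq hX 𝔉 h𝔉 q n x (hm_eq_zero_of hX hY f 𝔉 q hΘ hΘk n x hy')
      exact (secMap_ru_theta hX hY f 𝔉 q hΘ (n + 1) x) ▸ hz ▸ hP' z

include hg h𝔉 hΘ hΘk hΘs hT hf in
/-- The global sections of the higher direct image are controlled by finitely many of them. -/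
theorem exists_ctrl : ∃ (r c : ℕ) (x : ULift.{u} (Fin r) → Sec hY.1 (rF hX hY f 𝔉 q) ⊤),
    FPCrit.Ctrl hY (rF hX hY f 𝔉 q) (rG hX hY f 𝔉 q) (fun k => ru hX hY f 𝔉 q k) ⊤ x c := by
  haveI := hf.2
  obtain ⟨-, hcomplete, hker⟩ := FPCrit.ker_oP_eq (hY := hY) hT
  haveI := hcomplete
  obtain ⟨c₀, hc₀⟩ := GrStep.exists_step J (f ≫ p) hX 𝔉 hg.1 h𝔉 q hg.2
  obtain ⟨c₁, hc₁⟩ := exists_stable_sec hX hY f 𝔉 h𝔉 hf q ⊤ hT
  obtain ⟨r, w, hw⟩ := Submodule.fg_iff_exists_fin_generating_family.1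
    (fg_range J hX hY f p 𝔉 q hg h𝔉 hT hΘ hΘk hΘs c₀)
  have hw' : ∀ i, ∃ y, secMap (ru hX hY f 𝔉 q c₀) ⊤ y = w i := fun i => by
    have : w i ∈ LinearMap.range (πl hY (ru hX hY f 𝔉 q c₀)) := hw ▸ Submodule.subset_span ⟨i, rfl⟩
    exact this
  choose x₀ hx₀ using hw'
  let x : ULift.{u} (Fin r) → Sec hY.1 (rF hX hY f 𝔉 q) ⊤ := fun i => x₀ i.down
  let F : ℕ → Submodule (OSec hY.1 ⊤) (Sec hY.1 (rF hX hY f 𝔉 q) ⊤) := fun n =>
    LinearMap.ker (πl hY (ru hX hY f 𝔉 q n))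
  have htr : ∀ n z, secMap (rL hX hY f 𝔉 q n) ⊤ (secMap (ru hX hY f 𝔉 q (n + 1)) ⊤ z) =
      secMap (ru hX hY f 𝔉 q n) ⊤ z := fun n z => congr(secMap $(ru_rL hX hY f 𝔉 q n) ⊤ z)
  have hanti : Antitone F := antitone_nat_of_succ_le fun n z (hz : secMap (ru hX hY f 𝔉 q (n + 1)) ⊤ z = 0) => by
    show secMap (ru hX hY f 𝔉 q n) ⊤ z = 0
    rw [← htr, hz, map_zero]
  have hlevel : ∀ k, FPCrit.IsLevel hY k (rG hX hY f 𝔉 q k) := fun k =>
    exists_qcoh_level hX hY f 𝔉 h𝔉 inferInstance q k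
  have hJ : ∀ n, ∀ a ∈ FPCrit.Jd hY (⊤ : (𝔜.X 0).Opens) ^ (n + 1), ∀ z, a • z ∈ F n := fun n a ha z => by
    show secMap (ru hX hY f 𝔉 q n) ⊤ (a • z) = 0
    rw [FPCrit.secMap_smul]
    rw [← hker n, RingHom.mem_ker] at ha
    exact (hlevel n).smul_eq_zero ⊤ ha _
  have hbase : ∀ y, ∃ b : ULift.{u} (Fin r) → OSec hY.1 ⊤, y - ∑ i, b i • x i ∈ F c₀ := fun y => by
    have hy : secMap (ru hX hY f 𝔉 q c₀) ⊤ y ∈ Submodule.span (OSec hY.1 ⊤) (Set.range w) := hw ▸ ⟨y, rfl⟩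
    obtain ⟨b, hb⟩ := (Submodule.mem_span_range_iff_exists_fun _).1 hy
    refine ⟨fun i => b i.down, ?_⟩
    show secMap (ru hX hY f 𝔉 q c₀) ⊤ (y - ∑ i : ULift.{u} (Fin r), b i.down • x₀ i.down) = 0
    rw [map_sub, map_sum, sub_eq_zero, ← hb]
    refine ((Equiv.ulift.sum_comp fun i => secMap (ru hX hY f 𝔉 q c₀) ⊤ (b i • x₀ i)).trans
      (Finset.sum_congr rfl fun i _ => ?_)).symm
    rw [FPCrit.secMap_smul, hx₀]
  have step : ∀ n, c₀ ≤ n → ∀ y ∈ F n, ∃ b : ULift.{u} (Fin r) → OSec hY.1 ⊤,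
      (∀ i, b i ∈ FPCrit.Jd hY (⊤ : (𝔜.X 0).Opens) ^ (n - c₀)) ∧ y - ∑ i, b i • x i ∈ F (n + 1) := fun n hn y hy => by
    obtain ⟨y', rfl⟩ := hΘs y
    have hy' := hc₀ n (hn.trans (Nat.le_succ n)) y' (hm_eq_zero_of hX hY f 𝔉 q hΘ hΘk n y' hy)
    suffices h : ∃ b : ULift.{u} (Fin r) → OSec hY.1 ⊤, (∀ i, b i ∈ FPCrit.Jd hY (⊤ : (𝔜.X 0).Opens) ^ (n - c₀)) ∧
        Θ (G hX 𝔉 (n + 1)) (GrTower.hm (GrF.u hX 𝔉 (n + 1)) q y') =
          secMap (ru hX hY f 𝔉 q (n + 1)) ⊤ (∑ i, b i • x i) by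
      obtain ⟨b, hb, hb'⟩ := h
      refine ⟨b, hb, ?_⟩
      show secMap (ru hX hY f 𝔉 q (n + 1)) ⊤ (Θ 𝔉 y' - ∑ i, b i • x i) = 0
      rw [map_sub, secMap_ru_theta hX hY f 𝔉 q hΘ, hb', sub_self]
    generalize GrTower.hm (GrF.u hX 𝔉 (n + 1)) q y' = v at hy' ⊢
    induction hy' using AddSubgroup.closure_induction with
    | mem v hv =>
      obtain ⟨a, ha, h', rfl⟩ := hv
      obtain ⟨b, hb⟩ := hbase (Θ 𝔉 h')
      obtain ⟨h'', hh''⟩ := hΘs (Θ 𝔉 h' - ∑ i, b i • x i)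
      refine ⟨fun i => σU J p hY ⊤ a * b i, fun i => Ideal.mul_mem_right _ _
        (Ideal.pow_le_pow_right (by omega) (Linear.σU_mem J hY p (n + 1 - c₀) ⊤ ha)), ?_⟩
      have h0 : secMap (ru hX hY f 𝔉 q (n + 1)) ⊤ (σU J p hY ⊤ a • (Θ 𝔉 h' - ∑ i, b i • x i)) = 0 := by
        rw [← hh'', ← theta_sm J hX hY f p q hΘ a 𝔉 h'', secMap_ru_theta hX hY f 𝔉 q hΘ]
        rw [GrStep.hm_u_sm_eq_zero J (f ≫ p) hX 𝔉 hg.1 h𝔉 q (hn.trans (Nat.le_succ n)) ha h''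
          (hm_eq_zero_of hX hY f 𝔉 q hΘ hΘk c₀ h'' (hh'' ▸ hb)), map_zero]
      rw [smul_sub, map_sub, sub_eq_zero] at h0
      refine (secMap_ru_theta hX hY f 𝔉 q hΘ (n + 1) _).symm.trans ?_
      rw [theta_sm J hX hY f p q hΘ a 𝔉 h', h0, FPCrit.smul_comb]
    | zero => exact ⟨0, fun _ => zero_mem _, by simp⟩
    | add u v _ _ hu hv =>
      obtain ⟨b, hb, hb'⟩ := hu
      obtain ⟨b', hb₂, hb₃⟩ := hv
      refine ⟨b + b', fun i => add_mem (hb i) (hb₂ i), ?_⟩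
      rw [map_add, hb', hb₃, ← map_add, ← Finset.sum_add_distrib]
      exact congrArg _ (Finset.sum_congr rfl fun i _ => (add_smul _ _ _).symm)
    | neg u _ hu =>
      obtain ⟨b, hb, hb'⟩ := hu
      refine ⟨-b, fun i => neg_mem (hb i), ?_⟩
      rw [map_neg, hb', ← map_neg, ← Finset.sum_neg_distrib]
      exact congrArg _ (Finset.sum_congr rfl fun i _ => (neg_smul _ _).symm)
  have hsep : ∀ (W : (𝔜.X 0).Opens) (z : Sec hY.1 (rF hX hY f 𝔉 q) W),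
      (∀ k, secMap (ru hX hY f 𝔉 q k) W z = 0) → z = 0 := fun W z hz => by
    haveI := isIso_toLim hX hY f 𝔉 hf h𝔉 (q := q)
    refine FPCrit.secMap_injective (asIso (toLim hX hY f 𝔉 q)) W ?_
    refine limit_section_ext (Functor.ofOpSequence (rL hX hY f 𝔉 q)) W _ _ fun k => ?_
    refine ((secMap_π_toLim hX hY f 𝔉 k W z).trans (hz k)).trans ?_
    exact ((congrArg (secMap (limit.π (Functor.ofOpSequence (rL hX hY f 𝔉 q)) (op k)) W) (map_zero _)).trans (map_zero _)).symm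
  have hcof : ∀ (m : ℕ) z, secMap (ru hX hY f 𝔉 q m) ⊤ z = 0 → ∃ b : ULift.{u} (Fin r) → OSec hY.1 ⊤,
      (∀ i, b i ∈ FPCrit.Jd hY (⊤ : (𝔜.X 0).Opens) ^ (m - c₀)) ∧ z = ∑ i, b i • x i := fun m z hz => by
    by_cases hm : c₀ ≤ m
    · exact Approx.exists_coeff _ F x c₀ (hsep ⊤) hanti hJ step hm hz
    · obtain ⟨b, hb⟩ := hbase z
      obtain ⟨b', -, hb'⟩ := Approx.exists_coeff _ F x c₀ (hsep ⊤) hanti hJ step le_rfl hb
      refine ⟨b + b', fun i => ?_, ?_⟩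
      · rw [Nat.sub_eq_zero_of_le (Nat.le_of_not_le hm), pow_zero, Ideal.one_eq_top]
        trivial
      · rw [sub_eq_iff_eq_add.1 hb', add_comm, ← Finset.sum_add_distrib]
        exact Finset.sum_congr rfl fun i _ => (add_smul _ _ _).symm
  let c := max (c₀ + 1) c₁
  refine ⟨r, c, x, hlevel, fun k => ⟨rL hX hY f 𝔉 q k, ru_rL hX hY f 𝔉 q k⟩, hsep, fun k => ?_,
    fun m z hz => ?_⟩
  · let S := Functor.ofOpSequence (rL hX hY f 𝔉 q)
    have hT' : ru hX hY f 𝔉 q (k + c) ≫ S.map (homOfLE (Nat.le_add_right k c)).op = ru hX hY f 𝔉 q k := by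
      rw [← toLim_π hX hY f 𝔉 q (k + c), ← toLim_π hX hY f 𝔉 q k]
      exact (Category.assoc _ _ _).trans (congrArg (toLim hX hY f 𝔉 q ≫ ·) (limit.w S _))
    refine ⟨S.map (homOfLE (Nat.le_add_right k c)).op, hT', fun z => ?_⟩
    obtain ⟨s, hs, hsk⟩ := exists_family (MLLevels.stable_mono hc₁ (le_max_right (c₀ + 1) c₁)) k z
    obtain ⟨t, ht⟩ := exists_limit_section S ⊤ s fun i =>
      (MLLevels.secMap_map_seq (rL hX hY f 𝔉 q) ⊤ (Nat.le_add_right i 1) (s (i + 1))).trans (hs i)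
    haveI := isIso_toLim hX hY f 𝔉 hf h𝔉 (q := q)
    let y := secMap (inv (toLim hX hY f 𝔉 q)) ⊤ t
    have hy : secMap (ru hX hY f 𝔉 q k) ⊤ y = s k := by
      rw [← secMap_π_toLim hX hY f 𝔉 k ⊤ y]
      refine Eq.trans (congrArg (secMap (limit.π S (op k)) ⊤) ?_) (ht k)
      exact congr(secMap $(IsIso.inv_hom_id (toLim hX hY f 𝔉 q)) ⊤ t)
    obtain ⟨b, hb⟩ := hbase y
    obtain ⟨b', -, hb'⟩ := Approx.exists_coeff _ F x c₀ (hsep ⊤) hanti hJ step le_rfl hb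
    refine ⟨b + b', ?_⟩
    refine (MLLevels.secMap_map_seq (rL hX hY f 𝔉 q) ⊤ (Nat.le_add_right k c) z).trans (hsk.symm.trans (hy.symm.trans ?_))
    refine congrArg (secMap (ru hX hY f 𝔉 q k) ⊤) ?_
    rw [sub_eq_iff_eq_add.1 hb', add_comm, ← Finset.sum_add_distrib]
    exact Finset.sum_congr rfl fun i _ => (add_smul _ _ _).symm
  · obtain ⟨b, hb, hb'⟩ := hcof m z hz
    exact ⟨b, fun i => Ideal.pow_le_pow_right (by omega) (hb i), hb'⟩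

include hg h𝔉 hT hf in
/-- The higher direct image is locally finitely presented on the affine base. -/
theorem fp_top : H15Site.LocPres.FP ((FSch.RpushF f hX.1 hY.1 q).obj 𝔉) ⊤ := by
  obtain ⟨Θ, hΘ, hΘk, hΘs⟩ := exists_theta hX hY f 𝔉 q hf h𝔉 hT
  obtain ⟨r, c, x, hx⟩ := exists_ctrl J hX hY f p 𝔉 q hf hg h𝔉 hT hΘ hΘk hΘs
  exact FPCrit.fp hT hx

end Groth.Agent.H24Formal3.AffineCtrl
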