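import Groth.Agent.H24Formal3.Chart
import Groth.Agent.H24FMod.Affine
import Groth.Agent.H24GE.FlatIso
import Groth.Agent.H24FSch.Levels

/-!
The closed immersions of the levels of an affine open of a formal scheme into the spectrum of its ring of sections.
-/

set_option autoImplicit false
set_option linter.style.haveILetI false
set_option linter.unusedSectionVars false
universe u

attribute [-instance] CategoryTheory.catToReflQuiver

open CategoryTheory CategoryTheory.Limits AlgebraicGeometry TopologicalSpace Opposite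

namespace Groth.Agent.H24Formal3.TargetChart

open H24FMod

variable {𝔜 : FSch.Sys.{u}} (h : 𝔜.IsFormal) (hY : 𝔜.IsLocNoethFormal) (A : (𝔜.X 0).Opens)

/-- The ring map to the global sections of a level of the open. -/
noncomputable def lvMap (k : ℕ) : CommRingCat.of (OSec h A) ⟶ Γ((𝔜.lvU h k A).toScheme, ⊤) :=
  CommRingCat.ofHom (oP h k A) ≫ (𝔜.lvU h k A).topIso.inv

/-- The map of a level of the open to the spectrum of the sections. -/
noncomputable def toSpec (k : ℕ) : (𝔜.lvU h k A).toScheme ⟶ Spec (CommRingCat.of (OSec h A)) :=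
  (𝔜.lvU h k A).toScheme.toSpecΓ ≫ Spec.map (lvMap h A k)

variable {A}

include hY in
theorem surjective_lvMap (hA : IsAffineOpen A) (k : ℕ) : Function.Surjective (lvMap h A k).hom :=
  (ConcreteCategory.bijective_of_isIso (𝔜.lvU h k A).topIso.inv).2.comp (surjective_oP hY hA k)

theorem ker_lvMap (k : ℕ) : RingHom.ker (lvMap h A k).hom = RingHom.ker (oP h k A) := by
  ext x
  show (𝔜.lvU h k A).topIso.inv (oP h k A x) = 0 ↔ oP h k A x = 0
  exact map_eq_zero_iff _ (ConcreteCategory.bijective_of_isIso (𝔜.lvU h k A).topIso.inv).1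

include hY in
theorem isClosedImmersion_toSpec (hA : IsAffineOpen A) (k : ℕ) : IsClosedImmersion (toSpec h A k) := by
  haveI : IsAffine (𝔜.lvU h k A).toScheme := isAffineOpen_lvU hY hA k
  haveI : IsClosedImmersion (Spec.map (lvMap h A k)) :=
    IsClosedImmersion.spec_of_surjective _ (surjective_lvMap h hY hA k)
  exact inferInstanceAs (IsClosedImmersion ((𝔜.lvU h k A).toScheme.toSpecΓ ≫ _))

theorem topIso_inv_appTop {X Y : Scheme.{u}} (f : X ⟶ Y) (U : Y.Opens) (V : X.Opens) (e : V ≤ f ⁻¹ᵁ U) :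
    U.topIso.inv ≫ (f.resLE U V e).appTop = f.appLE U V e ≫ V.topIso.inv := by
  rw [Scheme.Hom.appTop, Scheme.Hom.resLE_app_top, Iso.inv_hom_id_assoc]

theorem comp_toSpec (k : ℕ) : (𝔜.restrictOpen h A).ι k ≫ toSpec h A (k + 1) = toSpec h A k := by
  let l := (𝔜.ι k).resLE (𝔜.lvU h (k + 1) A) (𝔜.lvU h k A) (𝔜.lvU_le h k A)
  have he : lvMap h A (k + 1) ≫ l.appTop = lvMap h A k := by
    rw [lvMap, Category.assoc, topIso_inv_appTop, ← Category.assoc, lvMap]
    congr 1
    refine CommRingCat.hom_ext (RingHom.ext fun x => ?_)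
    exact trO_oP h k A x
  show l ≫ toSpec h A (k + 1) = _
  rw [toSpec, Scheme.toSpecΓ_naturality_assoc, ← Spec.map_comp, he]
  rfl

include hY in
theorem ker_toSpec (hA : IsAffineOpen A) (J : Ideal (OSec h A)) [IsNoetherianRing (OSec h A)]
    (hJ : ∀ n, RingHom.ker (oP h n A) = J ^ (n + 1)) (k : ℕ) :
    (toSpec h A k).ker =
      @H24GE.idealOf (Spec (CommRingCat.of (OSec h A))) (OSec h A) _ ⟨𝟙 _⟩ J ^ (k + 1) := by
  letI : (Spec (CommRingCat.of (OSec h A))).Over (Spec (CommRingCat.of (OSec h A))) := ⟨𝟙 _⟩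
  haveI : IsAffine (𝔜.lvU h k A).toScheme := isAffineOpen_lvU hY hA k
  haveI : IsIso (𝔜.lvU h k A).toScheme.toSpecΓ := IsAffine.affine
  rw [toSpec, Scheme.Hom.ker_comp_of_isIso]
  refine (H24FSch.ker_specMap_of_surjective (lvMap h A k).hom (surjective_lvMap h hY hA k)).trans ?_
  rw [ker_lvMap, hJ, ← Scheme.IdealSheafData.comap_id (FSch.idealSpec _ (J ^ (k + 1)))]
  refine (H24GE.idealOf_eq_comap (X := Spec (CommRingCat.of (OSec h A))) (J ^ (k + 1))).symm.trans ?_
  refine Scheme.IdealSheafData.ext (funext fun V => ?_)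
  rw [H24GE.ideal_idealOf, H24GE.ideal_idealOf_pow]

theorem toSpecΓ_topIso_fromSpec {X : Scheme.{u}} (V : X.Opens) (hV : IsAffineOpen V) :
    V.toScheme.toSpecΓ ≫ Spec.map V.topIso.inv ≫ hV.fromSpec = V.ι := by
  haveI : IsAffine V.toScheme := hV
  rw [IsAffineOpen.fromSpec, IsAffineOpen.isoSpec]
  simp only [Iso.trans_inv, Functor.mapIso_inv, Iso.op_inv, Scheme.Spec_map, Quiver.Hom.unop_op, Category.assoc,
    Scheme.isoSpec]
  rw [← Spec.map_comp_assoc, show V.topIso.symm.inv ≫ V.topIso.inv = 𝟙 _ from V.topIso.hom_inv_id, Spec.map_id, Category.id_comp]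
  exact IsIso.hom_inv_id_assoc _ _

include hY in
theorem toSpec_comp (hA : IsAffineOpen A) {X : Scheme.{u}} (c : ∀ n, 𝔜.X n ⟶ X) (U : X.Opens) (hU : IsAffineOpen U)
    (σ : Γ(X, U) ⟶ CommRingCat.of (OSec h A)) (k : ℕ) (l : 𝔜.lvU h k A ≤ c k ⁻¹ᵁ U)
    (hσ : ∀ a, oP h k A (σ a) = (c k).appLE U (𝔜.lvU h k A) l a) :
    toSpec h A k ≫ Spec.map σ ≫ hU.fromSpec = (𝔜.lvU h k A).ι ≫ c k := by
  have he : σ ≫ lvMap h A k = (c k).appLE U (𝔜.lvU h k A) l ≫ (𝔜.lvU h k A).topIso.inv := by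
    rw [lvMap, ← Category.assoc]
    congr 1
    exact CommRingCat.hom_ext (RingHom.ext hσ)
  rw [toSpec, Category.assoc, ← Spec.map_comp_assoc, he, Spec.map_comp, Category.assoc,
    IsAffineOpen.SpecMap_appLE_fromSpec (c k) hU (isAffineOpen_lvU hY hA k) l, ← Category.assoc, ← Category.assoc,
    Category.assoc _ (Spec.map _)]
  exact congrArg (· ≫ c k) (toSpecΓ_topIso_fromSpec (𝔜.lvU h k A) (isAffineOpen_lvU hY hA k))

end Groth.Agent.H24Formal3.TargetChart
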