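import Groth.Agent.H24Formal3.UnitRestrict
import Groth.Agent.H24FSch.Sub
import Groth.Agent.H24Formal3.TargetChart
import Groth.Agent.H17.GrBase.Main

/-!
A power of the ideal kills kernel and cokernel of the unit of a completed proper morphism over one affine open.
-/

set_option autoImplicit false
set_option linter.style.haveILetI false
set_option linter.unusedSectionVars false
universe u

attribute [-instance] CategoryTheory.catToReflQuiver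

open CategoryTheory CategoryTheory.Limits AlgebraicGeometry TopologicalSpace Opposite

namespace Groth.Agent.H24Formal3.AffineKill

open H24FMod FormalKill

theorem appLE_eq_of_eq {X Y : Scheme.{u}} {f f' : X ⟶ Y} (h : f = f') (U : Y.Opens) (V : X.Opens) (e : V ≤ f ⁻¹ᵁ U) :
    f.appLE U V e = f'.appLE U V (h ▸ e) := by subst h; rfl

theorem kills_congr_open {𝔜 : FSch.Sys.{u}} {h : 𝔜.IsFormal} {M N : FSch.ModF 𝔜 h} {η : M ⟶ N}
    {A A' : (𝔜.X 0).Opens} (e : A' = A) {s : OSec h A}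
    (H : Kills η A' ((𝔜.Osh h).obj.map (eqToHom (congrArg op e.symm)) s)) : Kills η A s := by
  subst e
  simpa using H

theorem oP_map {𝔜 : FSch.Sys.{u}} {h : 𝔜.IsFormal} (k : ℕ) {A A' : (𝔜.X 0).Opens} (i : A' ⟶ A) (s : OSec h A) :
    oP h k A' ((𝔜.Osh h).obj.map i.op s) =
      (𝔜.X k).presheaf.map (homOfLE (lvU_mono h k (leOfHom i))).op (oP h k A s) :=
  congr($((𝔜.OshProj h k).hom.naturality i.op) s)

theorem oP_schSharp (𝔜 : FSch.Sys.{u}) (h : 𝔜.IsFormal) {Y : Scheme.{u}} (p : ∀ n, 𝔜.X n ⟶ Y)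
    (hp : ∀ n, 𝔜.ι n ≫ p (n + 1) = p n) (k : ℕ) (V : Y.Opens) (a : Γ(Y, V)) :
    oP h k (p 0 ⁻¹ᵁ V) ((FSch.schSharp 𝔜 h p hp).hom.app (op V) a) =
      (p k).appLE V (𝔜.lvU h k (p 0 ⁻¹ᵁ V)) (FSch.lvU_p 𝔜 h p hp k V).ge a :=
  congrArg (fun (q : Y.sheaf ⟶ (TopCat.Sheaf.pushforward CommRingCat.{u} (p 0).base).obj (𝔜.levelObj h k)) =>
    q.hom.app (op V) a) (FSch.schSharp_proj 𝔜 h p hp k)

theorem oP_sharp {𝔛 𝔜 : FSch.Sys.{u}} (φ : 𝔛 ⟶ 𝔜) (hX : 𝔛.IsFormal) (hY : 𝔜.IsFormal) (k : ℕ)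
    (A : (𝔜.X 0).Opens) (s : OSec hY A) :
    oP hX k ((φ : FSch.Hom 𝔛 𝔜).app 0 ⁻¹ᵁ A) ((FSch.Hom.sharp φ hX hY).hom.app (op A) s) =
      ((φ : FSch.Hom 𝔛 𝔜).app k).appLE (𝔜.lvU hY k A) (𝔛.lvU hX k ((φ : FSch.Hom 𝔛 𝔜).app 0 ⁻¹ᵁ A))
        (FSch.Hom.lvU_preimage φ hX hY k A).ge (oP hY k A s) :=
  congrArg (fun (q : 𝔜.Osh hY ⟶ (TopCat.Sheaf.pushforward CommRingCat.{u} ((φ : FSch.Hom 𝔛 𝔜).app 0).base).obj
    (𝔛.levelObj hX k)) => q.hom.app (op A) s) (FSch.Hom.sharp_proj φ hX hY k)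

theorem isIso_morphismRestrict_snd {X Y Z : Scheme.{u}} (f : Z ⟶ X) (q : Y ⟶ X) (W : X.Opens) [IsIso (f ∣_ W)]
    (V : Y.Opens) (hV : V ≤ q ⁻¹ᵁ W) : IsIso (pullback.snd f q ∣_ V) := by
  let g := pullback.snd f q
  have h1 := (isPullback_morphismRestrict g V).flip.paste_horiz (IsPullback.of_hasPullback f q)
  let hW := (isPullback_morphismRestrict f W).flip
  have hle : Set.range (V.ι ≫ q) ⊆ Set.range W.ι := by
    rw [Scheme.Opens.range_ι]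
    rintro _ ⟨x, rfl⟩
    exact hV x.2
  let v := IsOpenImmersion.lift W.ι (V.ι ≫ q) hle
  have hv : v ≫ W.ι = V.ι ≫ q := IsOpenImmersion.lift_fac _ _ _
  rw [← hv] at h1
  let w := hW.lift ((g ⁻¹ᵁ V).ι ≫ pullback.fst f q) ((g ∣_ V) ≫ v) (by rw [Category.assoc]; exact h1.w)
  rw [show (g ⁻¹ᵁ V).ι ≫ pullback.fst f q = w ≫ (f ⁻¹ᵁ W).ι from (hW.lift_fst _ _ _).symm] at h1
  exact MorphismProperty.of_isPullback (P := MorphismProperty.isomorphisms Scheme.{u})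
    (h1.of_right (hW.lift_snd _ _ _) hW) (inferInstanceAs (IsIso (f ∣_ W)))

variable {𝔛 𝔜 : FSch.Sys.{u}} (hZ : 𝔛.IsFormal) (hX : 𝔜.IsFormal) (hZh : 𝔛.IsLocNoethFormal)
  (hXh : 𝔜.IsLocNoethFormal) {X Z : Scheme.{u}} (f : Z ⟶ X) [IsProper f]
  (c : ∀ n, 𝔜.X n ⟶ X) (hc : ∀ n, 𝔜.ι n ≫ c (n + 1) = c n) [∀ n, IsClosedImmersion (c n)]
  (zc : ∀ n, 𝔛.X n ⟶ Z) (hzc : ∀ n, 𝔛.ι n ≫ zc (n + 1) = zc n)
  (fh : 𝔛 ⟶ 𝔜) (hfh : FSch.IsAdicHom fh) (hcartf : ∀ n, IsPullback (zc n) ((fh : FSch.Hom 𝔛 𝔜).app n) f (c n))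
  (𝓜 : X.IdealSheafData) (hU : IsIso (f ∣_ 𝓜.support.compl))
  (𝔉 : FSch.ModF 𝔜 hX) (h𝔉 : FSch.IsCohF 𝔜 hX 𝔉)

include hZh hXh hzc hfh hcartf hU h𝔉 in
/-- A power of the ideal kills kernel and cokernel over one affine open. -/
theorem exists_pow_kills (U : X.affineOpens) : ∃ n : ℕ, ∀ a ∈ 𝓜.ideal U ^ n,
    Kills ((FSch.homMor fh hZ hX).adj.unit.app 𝔉) (trOpen c (U : X.Opens))
      ((FSch.schSharp 𝔜 hX c hc).hom.app (op (U : X.Opens)) a) := by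
  let AU := trOpen c (U : X.Opens)
  have hA : IsAffineOpen AU := U.2.preimage (c 0)
  obtain ⟨J, hN, hJc, hJ⟩ := exists_adic hXh hA
  haveI := hN
  haveI := hJc
  let hY' := Chart.isLocNoethFormal_restrictOpen hXh AU
  let hX' := Chart.isLocNoethFormal_restrictOpen hZh ((fh : FSch.Hom 𝔛 𝔜).app 0 ⁻¹ᵁ AU)
  let φ' := FSch.Hom.restrictOpen fh hZ hX AU
  let j := 𝔜.restrictOpenι hX AU
  let Y := Spec (CommRingCat.of (OSec hX AU))
  let r : ∀ k, (𝔜.restrictOpen hX AU).X k ⟶ Y := TargetChart.toSpec hX AU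
  haveI : ∀ k, IsClosedImmersion (r k) := TargetChart.isClosedImmersion_toSpec hX hXh hA
  let σ : Γ(X, U) ⟶ CommRingCat.of (OSec hX AU) := (FSch.schSharp 𝔜 hX c hc).hom.app (op (U : X.Opens))
  let q : Y ⟶ X := Spec.map σ ≫ U.2.fromSpec
  have hrq : ∀ k, r k ≫ q = (𝔜.lvU hX k AU).ι ≫ c k := fun k =>
    TargetChart.toSpec_comp hX hXh hA c U U.2 σ k (FSch.lvU_p 𝔜 hX c hc k U).ge (oP_schSharp 𝔜 hX c hc k U)
  -- the chart of the source
  let g := pullback.snd f q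
  let Lz : ∀ k, (𝔛.X k).Opens := fun k => 𝔛.lvU hZ k ((fh : FSch.Hom 𝔛 𝔜).app 0 ⁻¹ᵁ AU)
  have hwz : ∀ k, ((Lz k).ι ≫ zc k) ≫ f = ((φ' : FSch.Hom _ _).app k ≫ r k) ≫ q := fun k => by
    refine ((Category.assoc _ _ _).trans (congrArg ((Lz k).ι ≫ ·) (hcartf k).w)).trans ?_
    refine Eq.trans ?_ ((Category.assoc _ _ _).trans (congrArg ((φ' : FSch.Hom _ _).app k ≫ ·) (hrq k))).symm
    exact ((Category.assoc _ _ _).symm.trans (congrArg (· ≫ c k) (Scheme.Hom.resLE_comp_ι _ _).symm)).trans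
      (Category.assoc _ _ _)
  let c' : ∀ k, (𝔛.restrictOpen hZ ((fh : FSch.Hom 𝔛 𝔜).app 0 ⁻¹ᵁ AU)).X k ⟶ pullback f q :=
    fun k => pullback.lift ((Lz k).ι ≫ zc k) ((φ' : FSch.Hom _ _).app k ≫ r k) (hwz k)
  have hcart : ∀ k, IsPullback (c' k) ((φ' : FSch.Hom _ _).app k) g (r k) := fun k => by
    have h1 : IsPullback (Lz k).ι ((φ' : FSch.Hom _ _).app k) ((fh : FSch.Hom 𝔛 𝔜).app k) (𝔜.lvU hX k AU).ι :=
      (H24FSch.isPullback_resLE_of_eq ((fh : FSch.Hom 𝔛 𝔜).app k) (𝔜.lvU hX k AU) _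
        (FSch.Hom.lvU_preimage fh hZ hX k AU))
    have h2 := h1.paste_horiz (hcartf k)
    have h3 : IsPullback (c' k ≫ pullback.fst f q) ((φ' : FSch.Hom _ _).app k) f (r k ≫ q) := by
      rw [show c' k ≫ pullback.fst f q = (Lz k).ι ≫ zc k from pullback.lift_fst _ _ _, hrq k]
      exact h2
    exact IsPullback.of_right h3 (pullback.lift_snd _ _ (hwz k)) (IsPullback.of_hasPullback f q)
  haveI : ∀ k, IsClosedImmersion (c' k) := fun k =>
    MorphismProperty.of_isPullback (hcart k).flip (inferInstanceAs (IsClosedImmersion (r k)))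
  letI : Y.Over (Spec (CommRingCat.of (OSec hX AU))) := ⟨𝟙 _⟩
  have hk : ∀ k, (r k).ker = H24GE.idealOf Y J ^ (k + 1) := TargetChart.ker_toSpec hX hXh hA J hJ
  have hck : ∀ k, (c' k).ker = (H24GE.idealOf Y J).comap g ^ (k + 1) := fun k =>
    (H17.GrBase.ker_eq_comap (hcart k).flip).trans
      ((congrArg (Scheme.IdealSheafData.comap · g) (hk k)).trans (H24FSch.comap_pow' g (H24GE.idealOf Y J) k))
  have hc' : ∀ k, (𝔛.restrictOpen hZ ((fh : FSch.Hom 𝔛 𝔜).app 0 ⁻¹ᵁ AU)).ι k ≫ c' (k + 1) = c' k := fun k => by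
    apply pullback.hom_ext
    · refine (Category.assoc _ _ _).trans ((congrArg (_ ≫ ·) (pullback.lift_fst _ _ _)).trans ?_)
      refine Eq.trans ?_ (pullback.lift_fst _ _ _).symm
      exact (Category.assoc _ _ _).symm.trans ((congrArg (· ≫ zc (k + 1)) (Scheme.Hom.resLE_comp_ι _ _)).trans
        ((Category.assoc _ _ _).trans (congrArg ((Lz k).ι ≫ ·) (hzc k))))
    · refine (Category.assoc _ _ _).trans ((congrArg (_ ≫ ·) (pullback.lift_snd _ _ _)).trans ?_)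
      refine Eq.trans ?_ (pullback.lift_snd _ _ _).symm
      exact (Category.assoc _ _ _).symm.trans ((congrArg (· ≫ r (k + 1)) ((φ' : FSch.Hom _ _).comm k).symm).trans
        ((Category.assoc _ _ _).trans (congrArg ((φ' : FSch.Hom _ _).app k ≫ ·) (TargetChart.comp_toSpec hX k))))
  have hφ' : FSch.IsProperHom φ' :=
    ⟨Chart.isAdicHom_restrictOpen hZ hX fh hfh AU,
      Chart.isProper_restrictOpen hZ hX fh (MorphismProperty.of_isPullback (hcartf 0) ‹IsProper f›) AU⟩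
  have hsq : ∀ k, c' k ≫ g = (φ' : FSch.Hom _ _).app k ≫ r k := fun k => pullback.lift_snd _ _ _
  -- the ideal of the bad locus
  have e : (⊤ : Y.Opens) ≤ q ⁻¹ᵁ (U : X.Opens) := fun x _ => by
    show U.2.fromSpec (Spec.map σ x) ∈ (U : X.Opens)
    exact U.2.range_fromSpec.le (Set.mem_range_self (Spec.map σ x))
  let J' : Ideal Γ(Y, ⊤) := (𝓜.ideal U).map (q.appLE U ⊤ e).hom
  have hJ' : ∀ m ∈ J', IsIso (g ∣_ Y.basicOpen m) := fun m hm => by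
    refine isIso_morphismRestrict_snd f q 𝓜.support.compl _ fun x hx hxs => ?_
    have h0 := (Scheme.IdealSheafData.mem_support_iff_of_mem (e trivial : q x ∈ (U : X.Opens))).1 hxs
    have h1 : x ∈ Y.zeroLocus (U := ⊤) ((q.appLE U ⊤ e).hom '' (𝓜.ideal U : Set Γ(X, U))) := by
      rw [Scheme.mem_zeroLocus_iff]
      rintro _ ⟨a, ha, rfl⟩ hxa
      rw [Scheme.basicOpen_appLE] at hxa
      exact (Scheme.mem_zeroLocus_iff _ _ _).1 h0 a ha hxa.2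
    rw [← Scheme.zeroLocus_span] at h1
    exact (Scheme.mem_zeroLocus_iff _ _ _).1 h1 m hm hx
  haveI : SheafOfModules.IsFinitePresentation (R := ModSite.ringSh (𝔜.Osh hX)) 𝔉 := h𝔉
  obtain ⟨n, hn⟩ := FormalKill.exists_pow_kills hY' J r (TargetChart.comp_toSpec hX) hX' c' hc' hk g hck φ' hφ' hsq
    J' hJ' ((FSch.pullF j hY'.1 hX).obj 𝔉) (H15Site.PullLocPres.isFinitePresentation_pull _ 𝔉)
  refine ⟨n, fun a ha => UnitRestrict.kills_of_restrict hXh AU hZh fh 𝔉 h𝔉 _ ?_⟩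
  have heq : trOpen r (⊤ : Y.Opens) = (j : FSch.Hom _ _).app 0 ⁻¹ᵁ AU :=
    TopologicalSpace.Opens.ext (Set.ext fun x => ⟨fun _ => (Restrict.lvU_zero hXh AU).le x.2, fun _ => trivial⟩)
  refine kills_congr_open heq ?_
  have hmem : q.appLE U ⊤ e a ∈ J' ^ n := (Ideal.map_pow (q.appLE U ⊤ e).hom (𝓜.ideal U) n) ▸
    Ideal.mem_map_of_mem (q.appLE U ⊤ e).hom ha
  have key := hn _ hmem
  suffices hs : (FSch.schSharp (𝔜.restrictOpen hX AU) hY'.1 r (TargetChart.comp_toSpec hX)).hom.app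
      (op (⊤ : Y.Opens)) (q.appLE U ⊤ e a) =
      ((𝔜.restrictOpen hX AU).Osh hY'.1).obj.map (eqToHom (congrArg op heq.symm))
        ((FSch.Hom.sharp j hY'.1 hX).hom.app (op AU) (σ a)) by
    exact hs ▸ key
  refine oP_ext hY'.1 _ _ fun k => ?_
  refine (oP_schSharp _ hY'.1 r _ k ⊤ _).trans ?_
  rw [show (eqToHom (congrArg op heq.symm)) = (eqToHom heq).op from Subsingleton.elim _ _]
  refine Eq.trans ?_ (oP_map k (eqToHom heq) _).symm
  refine Eq.trans ?_ (congrArg _ (oP_sharp j hY'.1 hX k AU (σ a))).symm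
  rw [show oP hX k AU (σ a) = (c k).appLE U (𝔜.lvU hX k AU) (FSch.lvU_p 𝔜 hX c hc k U).ge a from
    oP_schSharp 𝔜 hX c hc k U a]
  simp only [← CommRingCat.comp_apply, Scheme.Hom.appLE_map, Scheme.Hom.appLE_comp_appLE]
  exact congr($(appLE_eq_of_eq (hrq k) U _ _) a)

end Groth.Agent.H24Formal3.AffineKill
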