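import Groth.Agent.H24Formal3.LimLevels
import Groth.Agent.H24Formal3.FPCrit
import Groth.Agent.H24FMod.OfLevels
import Groth.Agent.H24FMod.ComplSec

/-!
# A criterion for a morphism out of a completion of a coherent module to be an isomorphism
-/

set_option autoImplicit false
set_option linter.style.haveILetI false
set_option linter.unusedSectionVars false

universe u

attribute [-instance] CategoryTheory.catToReflQuiver

open CategoryTheory CategoryTheory.Limits AlgebraicGeometry TopologicalSpace Opposite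

namespace Groth.Agent.H24Formal3.BaseChangeCrit

open H24FMod H15Site.ModTensor H15Site.ModRel

variable {𝔜 : FSch.Sys.{u}} (hY : 𝔜.IsLocNoethFormal) {Y : Scheme.{u}} [IsLocallyNoetherian Y] (r : ∀ n, 𝔜.X n ⟶ Y)
  (hr : ∀ n, 𝔜.ι n ≫ r (n + 1) = r n) [∀ n, IsClosedImmersion (r n)]
  (T : ∀ n, Scheme.Modules.pullback (r (n + 1)) ⋙ Scheme.Modules.pullback (𝔜.ι n) ≅ Scheme.Modules.pullback (r n))
  (hT : ∀ n, T n = Scheme.Modules.pullbackComp (𝔜.ι n) (r (n + 1)) ≪≫ Scheme.Modules.pullbackCongr (hr n))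
  (𝓘 : Y.IdealSheafData)
  (hr𝓘 : ∀ n (V : Y.Opens) (hV : IsAffineOpen V), RingHom.ker ((r n).app V).hom = (𝓘.ideal ⟨V, hV⟩) ^ (n + 1))
  (G : Y.Modules) (hG : Coh.IsCoh G)

/-- The morphism to the scheme. -/
noncomputable abbrev SM : ModSite.RMor (𝔜.Osh hY.1) Y.sheaf := FSch.toSchemeMor 𝔜 hY.1 r hr

include hT in
/-- Sections of a coherent module in the completion. -/
theorem exists_completionSec (hG : Coh.IsCoh G) :
    ∃ e : (SM hY r hr).pull.obj G ≅ (pbSys r T G).realMod hY.1, ∀ (n : ℕ) (V : Y.Opens) (m : Γ(G, V)),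
      prS hY.1 (pbSys r T G).F (pbSys r T G).toPush n (trOpen r V) (secMap e.hom (trOpen r V)
        ((((SM hY r hr).adj.unit.app G).val.app (op V)).hom m)) = κ hY.1 r hr T G V n m := by
  obtain ⟨e, he⟩ := exists_pull_iso hY r hr T hT G hG
  refine ⟨e, fun n V m => ?_⟩
  have h0 : (SM hY r hr).adj.unit.app G ≫ (SM hY r hr).push.map e.hom = (SM hY r hr).adj.homEquiv _ _ e.hom :=
    (Adjunction.homEquiv_unit _ _ _ _).symm
  exact congr(((($((congrArg (· ≫ (SM hY r hr).push.map (FSch.realProj 𝔜 hY.1 (pbSys r T G).F (pbSys r T G).toPush n)) h0).trans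
    (he n)) : G ⟶ _).val.app (op V))).hom m)

variable (N : FSch.ModF 𝔜 hY.1) (Nk : ℕ → FSch.ModF 𝔜 hY.1) (v : ∀ k, N ⟶ Nk k) (τ : ∀ k, Nk (k + 1) ⟶ Nk k)
  (hv : ∀ k, v (k + 1) ≫ τ k = v k) (hlv : ∀ k, FPCrit.IsLevel hY k (Nk k))
  (hinj : ∀ (A : (𝔜.X 0).Opens), IsAffineOpen A → ∀ x : Sec hY.1 N A, (∀ k, secMap (v k) A x = 0) → x = 0)
  (hsurj : ∀ (A : (𝔜.X 0).Opens), IsAffineOpen A → ∀ z : ∀ k, Sec hY.1 (Nk k) A,
    (∀ k, secMap (τ k) A (z (k + 1)) = z k) → ∃ x : Sec hY.1 N A, ∀ k, secMap (v k) A x = z k)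
  (ρ : G ⟶ (SM hY r hr).push.obj N)
  (hK : ∀ (V : Y.Opens) (hV : IsAffineOpen V), ∃ c, ∀ k, c ≤ k → ∀ m : Γ(G, V),
    secMap (v k) (trOpen r V) ((ρ.val.app (op V)).hom m) = 0 →
      m ∈ 𝓘.ideal ⟨V, hV⟩ ^ (k + 1 - c) • (⊤ : Submodule Γ(Y, V) Γ(G, V)))
  (hS : ∀ (V : Y.Opens) (hV : IsAffineOpen V) (z : ∀ k, Sec hY.1 (Nk k) (trOpen r V)),
    (∀ k, secMap (τ k) (trOpen r V) (z (k + 1)) = z k) →
      ∃ b : AdicCompletion.AdicCauchySequence (𝓘.ideal ⟨V, hV⟩) Γ(G, V),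
        ∀ k, secMap (v k) (trOpen r V) ((ρ.val.app (op V)).hom (b (k + 1))) = z k)

/-- The transpose. -/
noncomputable abbrev ψ : (SM hY r hr).pull.obj G ⟶ N := ((SM hY r hr).adj.homEquiv _ _).symm ρ

theorem secMap_ψ_unit (V : Y.Opens) (m : Γ(G, V)) :
    secMap (ψ hY r hr G N ρ) (trOpen r V) ((((SM hY r hr).adj.unit.app G).val.app (op V)).hom m) = (ρ.val.app (op V)).hom m := by
  have h : (SM hY r hr).adj.unit.app G ≫ (SM hY r hr).push.map (ψ hY r hr G N ρ) = ρ :=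
    (Adjunction.homEquiv_unit _ _ _ _).symm.trans (Equiv.apply_symm_apply _ _)
  exact congr((($h : G ⟶ (SM hY r hr).push.obj N).val.app (op V)).hom m)

include hG hlv in
/-- The projection to a level only depends on the projection of the completion. -/
theorem proj_eq_of_prS_eq (e : (SM hY r hr).pull.obj G ≅ (pbSys r T G).realMod hY.1) (k : ℕ) (A : (𝔜.X 0).Opens)
    (y y' : Sec hY.1 ((SM hY r hr).pull.obj G) A)
    (h : prS hY.1 (pbSys r T G).F (pbSys r T G).toPush k A (secMap e.hom A y) =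
      prS hY.1 (pbSys r T G).F (pbSys r T G).toPush k A (secMap e.hom A y')) :
    secMap (v k) A (secMap (ψ hY r hr G N ρ) A y) = secMap (v k) A (secMap (ψ hY r hr G N ρ) A y') := by
  obtain ⟨P, -, ⟨ι⟩⟩ := hlv k
  have hcoh : (pbSys r T G).IsCoh := fun n => H17.ConsProp.isCoh_pullback _ hG
  obtain ⟨γ, hγ⟩ := exists_factor (hL := hY) hcoh (e.inv ≫ ψ hY r hr G N ρ ≫ v k ≫ ι.hom)
  have h2 : ψ hY r hr G N ρ ≫ v k ≫ ι.hom = e.hom ≫ FSch.realProj 𝔜 hY.1 (pbSys r T G).F (pbSys r T G).toPush k ≫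
      (FSch.levelMor 𝔜 hY.1 k).push.map γ :=
    ((congrArg (e.hom ≫ ·) hγ).trans (e.hom_inv_id_assoc _)).symm
  apply FPCrit.secMap_injective ι A
  refine (congr(secMap $h2 A y)).trans (Eq.trans ?_ (congr(secMap $h2 A y')).symm)
  exact congrArg (fun z => secMap ((FSch.levelMor 𝔜 hY.1 k).push.map γ) A z) h

include hT hr𝓘 hG hlv hinj hsurj hv hK hS in
theorem bijective_ψ (V : Y.Opens) (hV : IsAffineOpen V) :
    Function.Bijective (secMap (ψ hY r hr G N ρ) (trOpen r V)) := by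
  have hA : IsAffineOpen (trOpen r V) := hV.preimage (r 0)
  obtain ⟨e, he⟩ := exists_completionSec hY r hr T hT G hG
  have key : ∀ (y : Sec hY.1 ((SM hY r hr).pull.obj G) (trOpen r V)) (m : Γ(G, V)) (k : ℕ),
      κ hY.1 r hr T G V k m = prS hY.1 (pbSys r T G).F (pbSys r T G).toPush k (trOpen r V) (secMap e.hom _ y) →
      secMap (v k) (trOpen r V) (secMap (ψ hY r hr G N ρ) _ y) = secMap (v k) (trOpen r V) ((ρ.val.app (op V)).hom m) :=
    fun y m k hm => (proj_eq_of_prS_eq hY r hr T G hG N Nk v hlv ρ e k _ y _ (hm.symm.trans (he k V m).symm)).trans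
      (congrArg _ (secMap_ψ_unit hY r hr G N ρ V m))
  refine ⟨(injective_iff_map_eq_zero _).2 fun y hy => ?_, fun x => ?_⟩
  · obtain ⟨b, hb⟩ := exists_rep hY.1 r hr T hT 𝓘 hr𝓘 hV hG (secMap e.hom _ y)
    obtain ⟨c, hc⟩ := hK V hV
    apply FPCrit.secMap_injective e (trOpen r V)
    rw [map_zero]
    refine prS_ext hY.1 _ _ _ _ fun n => ?_
    refine (hb n).symm.trans (Eq.trans ?_ (map_zero _).symm)
    rw [(κ_isQuot hY.1 r hr T 𝓘 hr𝓘 hV hG n).2]
    have h1 : b (n + c + 1) ∈ 𝓘.ideal ⟨V, hV⟩ ^ (n + c + 1 - c) • (⊤ : Submodule Γ(Y, V) Γ(G, V)) := by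
      refine hc (n + c) (by omega) _ ((key y _ (n + c) (hb (n + c))).symm.trans ?_)
      rw [hy, map_zero]
    rw [show n + c + 1 - c = n + 1 by omega] at h1
    have h2 := SModEq.sub_mem.1 (b.property (show n + 1 ≤ n + c + 1 by omega))
    simpa using add_mem h2 h1
  · obtain ⟨b, hb⟩ := hS V hV (fun k => secMap (v k) _ x) fun k => congr(secMap $(hv k) _ x)
    obtain ⟨y', hy'⟩ := exists_section hY.1 r hr T hT 𝓘 hr𝓘 hV hG b
    obtain ⟨y, rfl⟩ : ∃ y, secMap e.hom (trOpen r V) y = y' := ⟨secMap e.inv _ y', congr(secMap $(e.inv_hom_id) _ y')⟩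
    refine ⟨y, sub_eq_zero.1 (hinj _ hA _ fun k => ?_)⟩
    rw [map_sub, key y _ k (hy' k).symm, hb k, sub_self]

include hT hr𝓘 hG hlv hinj hsurj hv hK hS in
/-- The transpose is an isomorphism. -/
theorem isIso_ψ : IsIso (ψ hY r hr G N ρ) := by
  let Tk := SheafOfModules.toSheaf.{u} (ModSite.ringSh (𝔜.Osh hY.1))
  haveI : IsIso (Tk.map (ψ hY r hr G N ρ)) := by
    haveI : IsIso (CategoryTheory.Functor.map Tk (ψ hY r hr G N ρ)) := by
      let B : Set ((𝔜.X 0).Opens) := {A | ∃ V : Y.Opens, IsAffineOpen V ∧ A = trOpen r V}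
      refine TopCat.Sheaf.isIso_iff_isIso_basis (B := fun i : B => i.1) ?_ fun ⟨A, V, hV, hA⟩ => ?_
      · rw [Opens.isBasis_iff_nbhd]
        intro U x hx
        obtain ⟨s, hs, hs'⟩ := exists_trOpen r (U := U)
        obtain ⟨W, g, hg, hxW⟩ := hs x hx
        obtain ⟨V, hV, hWV, hVU⟩ := hs' g hg
        exact ⟨trOpen r V, ⟨⟨_, V, hV, rfl⟩, rfl⟩, hWV hxW, hVU⟩
      · subst hA
        exact (ConcreteCategory.isIso_iff_bijective _).2
          (bijective_ψ hY r hr T hT 𝓘 hr𝓘 G hG N Nk v τ hv hlv hinj hsurj ρ hK hS V hV)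
    assumption
  haveI : Tk.ReflectsIsomorphisms := reflectsIsomorphisms_of_reflectsMonomorphisms_of_reflectsEpimorphisms Tk
  exact isIso_of_reflects_iso (ψ hY r hr G N ρ) Tk

end Groth.Agent.H24Formal3.BaseChangeCrit
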