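import Groth.Agent.H24Formal3.AffineCtrl
import Groth.Agent.H24FMod.Algebraize

/-!
# Higher direct images of coherent modules under proper morphisms of formal schemes are coherent
-/

set_option autoImplicit false
set_option linter.style.haveILetI false
set_option linter.unusedSectionVars false

universe u

attribute [-instance] CategoryTheory.catToReflQuiver

open AlgebraicGeometry CategoryTheory CategoryTheory.Limits TopologicalSpace Opposite

namespace Groth.Agent.H24Formal3.CohRpush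

open H24FMod H15Site.LocPres

variable {𝔛 𝔜 : FSch.Sys.{u}} (hX : 𝔛.IsLocNoethFormal) (hY : 𝔜.IsLocNoethFormal) (f : 𝔛 ⟶ 𝔜)
  [HasInjectiveResolutions (FSch.ModF 𝔛 hX.1)] (𝔉 : FSch.ModF 𝔛 hX.1) (q : ℕ)

theorem isAffineOpen_top_restrict (V : (𝔜.X 0).Opens) (hV : IsAffineOpen V) :
    IsAffineOpen (⊤ : ((𝔜.restrictOpen hY.1 V).X 0).Opens) := by
  haveI : IsAffine ((𝔜.restrictOpen hY.1 V).X 0) := by
    show IsAffine (𝔜.lvU hY.1 0 V : (𝔜.X 0).Opens).toScheme
    rw [Restrict.lvU_zero hY V]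
    exact hV
  exact isAffineOpen_top _

/-- Over an affine open of the target the higher direct image is coherent. -/
theorem isCohF_resF_rpush (hf : FSch.IsProperHom f) (h𝔉 : FSch.IsCohF 𝔛 hX.1 𝔉) (V : (𝔜.X 0).Opens)
    (hV : IsAffineOpen V) :
    FSch.IsCohF _ (Chart.isLocNoethFormal_restrictOpen hY V).1
      ((OpenRes.resF hY V).obj ((FSch.RpushF f hX.1 hY.1 q).obj 𝔉)) := by
  obtain ⟨A, _, J, g, e, hA, _, hg, rfl⟩ := Chart.exists_chart hX hY f hf V hV
  let hX' := Chart.isLocNoethFormal_restrictOpen hX ((f : FSch.Hom 𝔛 𝔜).app 0 ⁻¹ᵁ V)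
  let hY' := Chart.isLocNoethFormal_restrictOpen hY V
  let f' := FSch.Hom.restrictOpen f hX.1 hY.1 V
  have hf' : FSch.IsProperHom f' :=
    ⟨Chart.isAdicHom_restrictOpen hX.1 hY.1 f hf.1 V, Chart.isProper_restrictOpen hX.1 hY.1 f hf.2 V⟩
  haveI := OpenRes.hasInjectiveResolutions_restrict hX f V
  obtain ⟨w⟩ := OpenRes.nonempty_rpushRes hX hY f V q
  refine isCohF_of_iso (w.app 𝔉).symm ?_
  refine isFinitePresentation_of_lh fun W => ⟨⊤, GrothendieckTopology.top_mem _ _, fun Z _ _ => ?_⟩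
  exact FP.res (homOfLE le_top) (AffineCtrl.fp_top J hX' hY' f' e.hom ((OpenRes.resF hX _).obj 𝔉) q hf' hg
    (OpenRes.isCohF_resF hX _ 𝔉 h𝔉) (isAffineOpen_top_restrict hY V hV))

/-- Higher direct images of coherent modules under proper morphisms are coherent. -/
theorem isCohF_rpushF (hf : FSch.IsProperHom f) (h𝔉 : FSch.IsCohF 𝔛 hX.1 𝔉) :
    FSch.IsCohF 𝔜 hY.1 ((FSch.RpushF f hX.1 hY.1 q).obj 𝔉) := by
  refine isFinitePresentation_of_lh (lh_bind (P := fun W => ∃ V : (𝔜.X 0).Opens, IsAffineOpen V ∧ W ≤ V) ?_ ?_)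
  · refine lh_of_coversTop (X := fun W : (𝔜.X 0).affineOpens => W.1) ?_ ?_ fun W => ⟨W.1, W.2, le_rfl⟩
    · exact (Opens.coversTop_iff _ _).2 (iSup_affineOpens_eq_top _)
    · rintro W Z l ⟨V, hV, h⟩
      exact ⟨V, hV, (leOfHom l).trans h⟩
  · rintro W ⟨V, hV, h⟩
    obtain ⟨S, hS, hS'⟩ := OpenRes.lh_fp_le hY V ((FSch.RpushF f hX.1 hY.1 q).obj 𝔉)
      (isCohF_resF_rpush hX hY f 𝔉 q hf h𝔉 V hV)
    exact ⟨S.pullback (homOfLE h), (Opens.grothendieckTopology (𝔜.X 0)).pullback_stable (homOfLE h) hS,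
      fun Z g hg => hS' (g ≫ homOfLE h) hg⟩

end Groth.Agent.H24Formal3.CohRpush
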