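import Groth.Agent.H24FMod.PushHC
import Groth.Agent.H24FMod.FlatTo
import Groth.Agent.H15Site.ClosedPushAb
import Groth.Agent.H02CA.RDPostcomp
import Groth.Agent.H02CA.RestrScal.Precomp
import Groth.Agent.H10Coh.ToSheaf
import Groth.Agent.H10Coh.ModRes
import Groth.Prelude.Def_FSch6

/-!
# Derived direct images and the morphism from a formal scheme to a scheme
-/

set_option autoImplicit false
set_option linter.style.haveILetI false
set_option linter.unusedSectionVars false

universe u v v' v'' v''' u' u'' u''' u''''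

attribute [-instance] CategoryTheory.catToReflQuiver

open CategoryTheory CategoryTheory.Limits AlgebraicGeometry TopologicalSpace Opposite

namespace Groth.Agent.H24Formal3.PushSquare

section Generic

variable {A : Type u'} [Category.{v} A] [Abelian A] {B : Type u''} [Category.{v'} B] [Abelian B]
  {C : Type u'''} [Category.{v''} C] [Abelian C] {D : Type u''''} [Category.{v'''} D] [Abelian D]
  [HasInjectiveResolutions A] [HasInjectiveResolutions B]
  (i : A ⥤ B) (F : B ⥤ D) (G : A ⥤ C) (j : C ⥤ D) [i.Additive] [F.Additive] [G.Additive] [j.Additive]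
  [PreservesFiniteLimits i] [PreservesFiniteColimits i] [PreservesFiniteLimits F]
  [PreservesFiniteLimits j] [PreservesFiniteColimits j]

/-- Derived functors along a commutative square with exact sides. -/
theorem nonempty_square [EnoughInjectives B] (hi : ∀ I : A, Injective I → Injective (i.obj I))
    (w : G ⋙ j ≅ i ⋙ F) (p : ℕ) : Nonempty (G.rightDerived p ⋙ j ≅ i ⋙ F.rightDerived p) := by
  obtain ⟨e₁⟩ := H02CA.RestrScal.nonempty_precompIso i F (fun I hI => by
    haveI := hi I hI
    exact H16Derived.AcyclicLES.isAcyclic_of_injective F (i.obj I)) p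
  exact ⟨(H02CA.RDPostcomp.postcompIso G j p).symm ≪≫
    (⟨NatTrans.rightDerived w.hom p, NatTrans.rightDerived w.inv p,
      by rw [← NatTrans.rightDerived_comp, Iso.hom_inv_id, NatTrans.rightDerived_id],
      by rw [← NatTrans.rightDerived_comp, Iso.inv_hom_id, NatTrans.rightDerived_id]⟩ :
      (G ⋙ j).rightDerived p ≅ (i ⋙ F).rightDerived p) ≪≫ e₁⟩

end Generic

variable {𝔛 : FSch.Sys.{u}} (h : 𝔛.IsFormal) {X : Scheme.{u}} (c : ∀ n, 𝔛.X n ⟶ X)
  (hc : ∀ n, 𝔛.ι n ≫ c (n + 1) = c n)

theorem preservesFiniteColimits_schPush (hi : Topology.IsClosedEmbedding (c 0).base) :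
    PreservesFiniteColimits (FSch.toSchemeMor 𝔛 h c hc).push := by
  let P := (FSch.toSchemeMor 𝔛 h c hc).push
  let T := SheafOfModules.toSheaf.{u} (ModSite.ringSh X.sheaf)
  haveI : PreservesFiniteColimits T := H10Coh.preservesFiniteColimits_toSheaf _
  haveI : PreservesFiniteColimits (SheafOfModules.toSheaf.{u} (ModSite.ringSh (𝔛.Osh h))) :=
    H10Coh.preservesFiniteColimits_toSheaf _
  haveI : PreservesFiniteColimits (CohTop.push (c 0).base) := H15Site.ClosedPushAb.push_preservesFiniteColimits _ hi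
  haveI : PreservesFiniteColimits (P ⋙ T) := by
    change PreservesFiniteColimits (SheafOfModules.toSheaf.{u} (ModSite.ringSh (𝔛.Osh h)) ⋙ CohTop.push (c 0).base)
    exact comp_preservesFiniteColimits _ _
  haveI : T.ReflectsIsomorphisms := reflectsIsomorphisms_of_reflectsMonomorphisms_of_reflectsEpimorphisms T
  haveI : ∀ (K : Type) [SmallCategory K] [FinCategory K], ReflectsColimitsOfShape K T := fun _ _ _ =>
    reflectsColimitsOfShape_of_reflectsIsomorphisms
  haveI : ReflectsFiniteColimits T := { reflects := fun _ _ _ => inferInstance }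
  exact preservesFiniteColimits_of_reflects_of_preserves P T

theorem injective_schPush (hf : ModSite.RMor.IsFlat (FSch.toSchemeMor 𝔛 h c hc)) (I : FSch.ModF 𝔛 h) [Injective I] :
    Injective ((FSch.toSchemeMor 𝔛 h c hc).push.obj I) :=
  haveI : PreservesFiniteLimits (FSch.toSchemeMor 𝔛 h c hc).pull := hf
  (FSch.toSchemeMor 𝔛 h c hc).adj.map_injective I inferInstance

/-- Derived direct images commute with the morphisms to the schemes. -/
theorem nonempty_rpushSquare {𝔜 : FSch.Sys.{u}} (hY : 𝔜.IsFormal) (φ : 𝔛 ⟶ 𝔜) {Y : Scheme.{u}} (f : X ⟶ Y)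
    (r : ∀ n, 𝔜.X n ⟶ Y) (hr : ∀ n, 𝔜.ι n ≫ r (n + 1) = r n)
    (hsq : ∀ n, c n ≫ f = (φ : FSch.Hom 𝔛 𝔜).app n ≫ r n)
    (hi : Topology.IsClosedEmbedding (c 0).base) (hj : Topology.IsClosedEmbedding (r 0).base)
    (hf : ModSite.RMor.IsFlat (FSch.toSchemeMor 𝔛 h c hc))
    [HasInjectiveResolutions (FSch.ModF 𝔛 h)] [HasInjectiveResolutions X.Modules] (p : ℕ) :
    Nonempty (FSch.RpushF φ h hY p ⋙ (FSch.toSchemeMor 𝔜 hY r hr).push ≅
      (FSch.toSchemeMor 𝔛 h c hc).push ⋙ Coh.Rpush f p) := by
  let i : FSch.ModF 𝔛 h ⥤ X.Modules := (FSch.toSchemeMor 𝔛 h c hc).push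
  let j : FSch.ModF 𝔜 hY ⥤ Y.Modules := (FSch.toSchemeMor 𝔜 hY r hr).push
  haveI : PreservesFiniteColimits i := preservesFiniteColimits_schPush h c hc hi
  haveI : PreservesFiniteColimits j := preservesFiniteColimits_schPush hY r hr hj
  haveI : i.IsRightAdjoint := (FSch.toSchemeMor 𝔛 h c hc).adj.isRightAdjoint
  haveI : j.IsRightAdjoint := (FSch.toSchemeMor 𝔜 hY r hr).adj.isRightAdjoint
  haveI : (Scheme.Modules.pushforward f).IsRightAdjoint := (Scheme.Modules.pullbackPushforwardAdjunction f).isRightAdjoint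
  haveI : i.Additive := Functor.additive_of_preserves_binary_products _
  haveI : j.Additive := Functor.additive_of_preserves_binary_products _
  haveI : EnoughInjectives X.Modules := H10Coh.enoughInjMod X
  exact nonempty_square i (Scheme.Modules.pushforward f) (FSch.pushF φ h hY) j
    (fun I hI => @injective_schPush _ h _ c hc hf I hI) (FSch.schPushSq φ h hY f c hc r hr hsq).symm p

end Groth.Agent.H24Formal3.PushSquare
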