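import Groth.Agent.H24Formal3.SchRpushRes
import Groth.Agent.H24FMod.SysBridge
import Groth.Agent.LeadFF.Limit
import Groth.Agent.H10Coh.OpenSpec

/-!
# Formal functions for sections of higher direct images over an affine open
-/

set_option autoImplicit false
set_option linter.style.haveILetI false
set_option linter.unusedSectionVars false

universe u

attribute [-instance] CategoryTheory.catToReflQuiver

open AlgebraicGeometry CategoryTheory CategoryTheory.Limits TopologicalSpace Opposite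

namespace Groth.Agent.H24Formal3.TruncFormal

open H24Formal H24GE H24Formal.HomC

section Over

variable {A : Type u} [CommRing A] [IsNoetherianRing A] {X : Scheme.{u}} [X.Over (Spec (CommRingCat.of A))]
  [IsProper (X ↘ Spec (CommRingCat.of A))] (I : Ideal A) {M : X.Modules} (hM : Coh.IsCoh M) {P : ℕ → X.Modules}
  (hP : ∀ k, Coh.IsCoh (P k)) (hk : ∀ k, Formal.KilledBy (I ^ (k + 1)) (P k)) (η : ∀ k, M ⟶ P k)
  (t : ∀ k, P (k + 1) ⟶ P k) (ht : ∀ k, η (k + 1) ≫ t k = η k)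
  (hs : ∀ k (V : X.affineOpens), Function.Surjective ((η k).app V.1))
  (hz : ∀ k (V : X.affineOpens) (z : Γ(M, V.1)), (η k).app V.1 z = 0 →
    z ∈ secIdeal I V.1 ^ (k + 1) • (⊤ : Submodule Γ(X, V.1) Γ(M, V.1)))
  (p : ℕ)

include hM hP hk hs hz in
theorem exists_truncIso :
    ∃ d : ∀ k, Formal.modPow I (k + 1) M ≅ P k, ∀ k, Formal.modPowπ I (k + 1) M ≫ (d k).hom = η k := by
  haveI : IsLocallyNoetherian X := LocallyOfFiniteType.isLocallyNoetherian (X ↘ Spec (CommRingCat.of A))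
  choose h hi using fun k => H24FMod.exists_isIso_desc I (IsNoetherian.noetherian I) k hM (hP k) (hk k) (η k)
    (hs k) (hz k)
  exact ⟨fun k => @asIso _ _ _ _ _ (hi k), fun k => cokernel.π_desc _ _ _⟩

include hM hP hk hs hz in
/-- The classes vanishing at a level are small. -/
theorem exists_small :
    ∃ c, ∀ k, c ≤ k → ∀ x : Coh.HH X M p, LeadFF.Hm (η k) p x = 0 →
      x ∈ I ^ (k + 1 - c) • (⊤ : Submodule A (Coh.HH X M p)) := by
  obtain ⟨d, hd⟩ := exists_truncIso I hM hP hk η hs hz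
  obtain ⟨c, hc⟩ := LeadFF.exists_ker_small I M (LeadFF.properCoh_of_isProper (X ↘ Spec (CommRingCat.of A)) hM) p
  refine ⟨c, fun k hck x hx => hc k (by omega) x ?_⟩
  show LeadFF.Hm (Formal.modPowπ I (k + 1) M) p x = 0
  refine (LeadFF.Hm_id _ p _).symm.trans ?_
  rw [← (d k).hom_inv_id, LeadFF.Hm_comp, ← LeadFF.Hm_comp (Formal.modPowπ I (k + 1) M), hd, hx, map_zero]

include hM hP hk hs hz ht in
/-- Compatible classes at the levels come from a Cauchy sequence of classes. -/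
theorem exists_cauchy (z : ∀ k, Coh.HH X (P k) p) (hzc : ∀ k, LeadFF.Hm (t k) p (z (k + 1)) = z k) :
    ∃ b : AdicCompletion.AdicCauchySequence I (Coh.HH X M p), ∀ k, LeadFF.Hm (η k) p (b (k + 1)) = z k := by
  obtain ⟨d, hd⟩ := exists_truncIso I hM hP hk η hs hz
  have hdt : ∀ k, (d (k + 1)).hom ≫ t k = Formal.modPowTrans I (k + 1) M ≫ (d k).hom := fun k => by
    haveI : Epi (Formal.modPowπ I (k + 1 + 1) M) := coequalizer.π_epi
    rw [← cancel_epi (Formal.modPowπ I (k + 1 + 1) M), ← Category.assoc, hd, ht, ← Category.assoc,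
      Formal.modPowπ_trans, hd]
  have hdt' : ∀ k, (d (k + 1)).inv ≫ Formal.modPowTrans I (k + 1) M = t k ≫ (d k).inv := fun k => by
    rw [Iso.inv_comp_eq, ← Category.assoc, Iso.eq_comp_inv]
    exact (hdt k).symm
  let z' : Formal.HHlim I M p := ⟨fun k => LeadFF.Hm (d k).inv p (z k), fun k => by
    show LeadFF.Hm (Formal.modPowTrans I (k + 1) M) p (LeadFF.Hm (d (k + 1)).inv p (z (k + 1))) = _
    rw [← LeadFF.Hm_comp, hdt', LeadFF.Hm_comp, hzc]⟩
  obtain ⟨x, hx⟩ := LeadFF.fromCompletion_surjective I M p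
    (LeadFF.properCoh_of_isProper (X ↘ Spec (CommRingCat.of A)) hM) z'
  obtain ⟨b, rfl⟩ := AdicCompletion.mk_surjective I _ x
  refine ⟨b, fun k => ?_⟩
  have h := congrFun (congrArg Subtype.val hx) k
  change LeadFF.Hm (Formal.modPowπ I (k + 1) M) p (b (k + 1)) = LeadFF.Hm (d k).inv p (z k) at h
  rw [← hd k, LeadFF.Hm_comp, h, ← LeadFF.Hm_comp, Iso.inv_hom_id, LeadFF.Hm_id]

end Over

section Linear

variable {R M N : Type*} [CommRing R] [AddCommGroup M] [Module R M] [AddCommGroup N] [Module R N] (I : Ideal R)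
  (L : M →ₗ[R] N)

theorem map_mem_pow {n : ℕ} {x : M} (hx : x ∈ I ^ n • (⊤ : Submodule R M)) : L x ∈ I ^ n • (⊤ : Submodule R N) := by
  have h := Submodule.mem_map_of_mem (f := L) hx
  rw [Submodule.map_smul''] at h
  exact Submodule.smul_mono le_rfl le_top h

/-- The image of a Cauchy sequence. -/
noncomputable def mapCauchy (b : AdicCompletion.AdicCauchySequence I M) : AdicCompletion.AdicCauchySequence I N :=
  AdicCompletion.AdicCauchySequence.mk I N (fun n => L (b n)) fun n => by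
    rw [SModEq.sub_mem, ← map_sub]
    exact map_mem_pow I L (SModEq.sub_mem.1 (b.property (Nat.le_succ n)))

end Linear

section Base

variable {X Y : Scheme.{u}} (f : X ⟶ Y) [IsProper f] [IsLocallyNoetherian Y] [HasInjectiveResolutions X.Modules]
  {V : Y.Opens} (hV : IsAffineOpen V) (I : Ideal Γ(Y, V))
  {F : X.Modules} (hF : Coh.IsCoh F) {P : ℕ → X.Modules} (hP : ∀ k, Coh.IsCoh (P k)) (η : ∀ k, F ⟶ P k)
  (t : ∀ k, P (k + 1) ⟶ P k) (ht : ∀ k, η (k + 1) ≫ t k = η k)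
  (hq : ∀ k (W : X.Opens), IsAffineOpen W → ∀ l : W ≤ f ⁻¹ᵁ V, Function.Surjective ((η k).app W) ∧
    ∀ z : Γ(F, W), (η k).app W z = 0 ↔
      z ∈ (I.map (f.appLE V W l).hom) ^ (k + 1) • (⊤ : Submodule Γ(X, W) Γ(F, W)))
  (p : ℕ)

omit [IsLocallyNoetherian Y] [HasInjectiveResolutions X.Modules] [IsProper f] in
theorem secIdeal_preimage (W : ((f ⁻¹ᵁ V).toScheme).Opens) :
    letI := LeadBC.preOver f hV
    (show Ideal Γ(X, (f ⁻¹ᵁ V).ι ''ᵁ W) from secIdeal I W) =
      I.map (f.appLE V ((f ⁻¹ᵁ V).ι ''ᵁ W) ((f ⁻¹ᵁ V).ι_image_le W)).hom := by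
  letI := LeadBC.preOver f hV
  show I.map (scalA Γ(Y, V) W) = _
  refine congrArg (fun r => I.map r) (RingHom.ext fun a => ?_)
  show (f ⁻¹ᵁ V).toScheme.presheaf.map (homOfLE (le_top : W ≤ ⊤)).op (show Γ((f ⁻¹ᵁ V).toScheme, ⊤) from
    Coh.toGlobal (A := Γ(Y, V)) ((f ⁻¹ᵁ V).toScheme ↘ Spec (CommRingCat.of Γ(Y, V))) a) = _
  rw [LeadBC.toGlobal_preOver f hV]
  refine (H10Coh.scalar_eq (f ⁻¹ᵁ V) (f.app V a) W ((f ⁻¹ᵁ V).ι_image_le W)).trans ?_
  rfl

omit [IsLocallyNoetherian Y] [HasInjectiveResolutions X.Modules] [IsProper f] in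
include hq in
/-- The truncations restricted to the preimage. -/
theorem restr_hq (k : ℕ) (W : ((f ⁻¹ᵁ V).toScheme).Opens) (hW : IsAffineOpen W) :
    letI := LeadBC.preOver f hV
    Function.Surjective (((Scheme.Modules.restrictFunctor (f ⁻¹ᵁ V).ι).map (η k)).app W) ∧
      ∀ z : Γ(F.restrict (f ⁻¹ᵁ V).ι, W), ((Scheme.Modules.restrictFunctor (f ⁻¹ᵁ V).ι).map (η k)).app W z = 0 ↔
        z ∈ secIdeal I W ^ (k + 1) • (⊤ : Submodule Γ((f ⁻¹ᵁ V).toScheme, W) Γ(F.restrict (f ⁻¹ᵁ V).ι, W)) := by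
  letI := LeadBC.preOver f hV
  let U := f ⁻¹ᵁ V
  obtain ⟨h1, h2⟩ := hq k (U.ι ''ᵁ W) (hW.image_of_isOpenImmersion U.ι) (U.ι_image_le W)
  refine ⟨h1, fun z => (h2 z).trans ?_⟩
  rw [← secIdeal_preimage f hV I W]
  have hs : ∀ (r : Γ(U.toScheme, W)) (m : Γ(F.restrict U.ι, W)),
      (show Γ(F, U.ι ''ᵁ W) from r • m) = (show Γ(X, U.ι ''ᵁ W) from r) • (show Γ(F, U.ι ''ᵁ W) from m) := fun r m => by
    have hid : (U.ι.appIso W).inv r = (show Γ(X, U.ι ''ᵁ W) from r) := by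
      rw [Scheme.Opens.ι_appIso]; rfl
    exact congrArg (fun c : Γ(X, U.ι ''ᵁ W) => c • (show Γ(F, U.ι ''ᵁ W) from m)) hid
  constructor
  · intro hz
    refine Submodule.smul_induction_on (p := fun m : Γ(F, U.ι ''ᵁ W) => (show Γ(F.restrict U.ι, W) from m) ∈
      secIdeal I W ^ (k + 1) • (⊤ : Submodule Γ(U.toScheme, W) Γ(F.restrict U.ι, W))) hz (fun r hr m _ => ?_)
      fun a b ha hb => add_mem ha hb
    rw [← hs r m]
    exact Submodule.smul_mem_smul hr trivial
  · intro hz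
    refine Submodule.smul_induction_on (p := fun m : Γ(F.restrict U.ι, W) => (show Γ(F, U.ι ''ᵁ W) from m) ∈
      (show Ideal Γ(X, U.ι ''ᵁ W) from secIdeal I W) ^ (k + 1) • (⊤ : Submodule Γ(X, U.ι ''ᵁ W) Γ(F, U.ι ''ᵁ W))) hz
      (fun r hr m _ => ?_) fun a b ha hb => add_mem ha hb
    rw [hs r m]
    exact Submodule.smul_mem_smul hr trivial

omit [HasInjectiveResolutions X.Modules] in
include hV hP hq in
theorem restr_killed (k : ℕ) :
    letI := LeadBC.preOver f hV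
    Formal.KilledBy (A := Γ(Y, V)) (I ^ (k + 1)) ((P k).restrict (f ⁻¹ᵁ V).ι) := by
  letI := LeadBC.preOver f hV
  intro a ha
  haveI := (hP k).1
  refine H17.AffHom.hom_ext fun W y => ?_
  obtain ⟨h1, h2⟩ := restr_hq f hV I η hq k W.1 W.2
  obtain ⟨x, rfl⟩ := h1 y
  show scalA Γ(Y, V) W.1 a • (show Γ((P k).restrict (f ⁻¹ᵁ V).ι, W.1) from
    ((Scheme.Modules.restrictFunctor (f ⁻¹ᵁ V).ι).map (η k)).app W.1 x) = 0
  refine (Scheme.Modules.Hom.app_smul _ _ _).symm.trans ((h2 _).2 (Submodule.smul_mem_smul ?_ trivial))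
  rw [← secIdeal_pow]
  exact Ideal.mem_map_of_mem _ ha

include hV hF hP ht hq in
set_option maxHeartbeats 800000 in
/-- Sections vanishing at a level are small, and compatible sections at the levels come from Cauchy sequences. -/
theorem exists_formalFun :
    (∃ c, ∀ k, c ≤ k → ∀ m : Γ((Coh.Rpush f p).obj F, V), ((Coh.Rpush f p).map (η k)).app V m = 0 →
        m ∈ I ^ (k + 1 - c) • (⊤ : Submodule Γ(Y, V) Γ((Coh.Rpush f p).obj F, V))) ∧
    ∀ z : ∀ k, Γ((Coh.Rpush f p).obj (P k), V), (∀ k, ((Coh.Rpush f p).map (t k)).app V (z (k + 1)) = z k) →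
      ∃ b : AdicCompletion.AdicCauchySequence I Γ((Coh.Rpush f p).obj F, V),
        ∀ k, ((Coh.Rpush f p).map (η k)).app V (b (k + 1)) = z k := by
  let U := f ⁻¹ᵁ V
  letI := LeadBC.preOver f hV
  haveI : EnoughInjectives U.toScheme.Modules := H10Coh.enoughInjMod _
  haveI : IsNoetherianRing Γ(Y, V) := IsLocallyNoetherian.component_noetherian ⟨V, hV⟩
  haveI : IsProper (f ∣_ V) := MorphismProperty.of_isPullback (P := @IsProper) (isPullback_morphismRestrict f V).flip inferInstance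
  haveI : IsProper (U.toScheme ↘ Spec (CommRingCat.of Γ(Y, V))) :=
    inferInstanceAs (IsProper ((f ∣_ V) ≫ hV.isoSpec.hom))
  obtain ⟨ε, hεn, hεb, hεl⟩ := SchRpushRes.exists_secEquiv f hV p
  let R := Scheme.Modules.restrictFunctor U.ι
  have hR : ∀ M : X.Modules, Coh.IsCoh M → Coh.IsCoh (R.obj M) := fun M hM =>
    H10Coh.isCoh_restrict U.ι M hM
  have hb : Function.Bijective (ε F) := hεb F hF.1
  let L : Coh.HH U.toScheme (R.obj F) p →ₗ[Γ(Y, V)] Γ((Coh.Rpush f p).obj F, V) :=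
    { toFun := ε F, map_add' := map_add _, map_smul' := hεl F }
  have hk := restr_killed f hV I hP η hq
  have hs := fun k (W : U.toScheme.affineOpens) => (restr_hq f hV I η hq k W.1 W.2).1
  have hz := fun k (W : U.toScheme.affineOpens) z => ((restr_hq f hV I η hq k W.1 W.2).2 z).1
  constructor
  · obtain ⟨c, hc⟩ := exists_small I (hR F hF) (fun k => hR _ (hP k)) hk (fun k => R.map (η k)) hs hz p
    refine ⟨c, fun k hk m hm => ?_⟩
    obtain ⟨x, rfl⟩ := hb.2 m
    refine map_mem_pow I L (hc k hk x ((hεb (P k) (hP k).1).1 ?_))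
    exact (hεn F (P k) (η k) x).trans (hm.trans (map_zero _).symm)
  · intro z hzc
    choose w hw using fun k => (hεb (P k) (hP k).1).2 (z k)
    obtain ⟨b, hb'⟩ := exists_cauchy I (hR F hF) (fun k => hR _ (hP k)) hk (fun k => R.map (η k)) (fun k => R.map (t k))
      (fun k => (R.map_comp _ _).symm.trans (congrArg R.map (ht k))) hs hz p w fun k => (hεb (P k) (hP k).1).1 (by
        rw [hεn _ _ (t k), hw, hw, hzc])
    refine ⟨mapCauchy I L b, fun k => ?_⟩
    exact (hεn F (P k) (η k) (b (k + 1))).symm.trans ((congrArg (ε (P k)) (hb' k)).trans (hw k))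

end Base

end Groth.Agent.H24Formal3.TruncFormal
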