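import Groth.Agent.H24Formal3.BaseChangeCrit
import Groth.Agent.H24Formal3.TruncFormal
import Groth.Agent.H24Formal3.PushSquare
import Groth.Agent.H24Formal3.CohRpush
import Groth.Agent.H10Coh.Proper2

/-!
# Completion commutes with higher direct images along proper morphisms
-/

set_option autoImplicit false
set_option linter.style.haveILetI false
set_option linter.unusedSectionVars false

universe u

attribute [-instance] CategoryTheory.catToReflQuiver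

open CategoryTheory CategoryTheory.Limits AlgebraicGeometry TopologicalSpace Opposite

namespace Groth.Agent.H24Formal3.BaseChangeFF

open H24FMod H24FMod.GrF RpushLevels LimLevels

section Abstract

universe v₁ v₂ w₁ w₂

variable {C : Type w₁} [Category.{v₁} C] {D : Type w₂} [Category.{v₂} D] {L : C ⥤ D} {R : D ⥤ C} (adj : L ⊣ R)

theorem transfer {F : C} {M M' N : D} (a : L.obj F ⟶ M) (b : M ⟶ N) (e : L.obj F ⟶ M') (q : M' ⟶ N) (h : a ≫ b = e ≫ q)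
    {P : C} (cmp : P ≅ R.obj N) (lvl : F ⟶ P) (h' : adj.homEquiv _ _ e ≫ R.map q = lvl ≫ cmp.hom) :
    (adj.unit.app F ≫ R.map a) ≫ R.map b ≫ cmp.inv = lvl := by
  have h'' : adj.unit.app F ≫ R.map e ≫ R.map q = lvl ≫ cmp.hom := by
    rw [← h', adj.homEquiv_unit, Category.assoc]
  rw [Category.assoc, ← R.map_comp_assoc, h, R.map_comp_assoc, reassoc_of% h'', Iso.hom_inv_id, Category.comp_id]

theorem homEquiv_mapIso_trans {M M' : C} {P : D} (e : M ⟶ M') (q : M' ⟶ R.obj P) :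
    adj.homEquiv _ _ (L.map e ≫ (adj.homEquiv _ _).symm q) = e ≫ q := by
  rw [adj.homEquiv_naturality_left, Equiv.apply_symm_apply]

theorem step {F A₁ A₀ P₁ P₀ : C} {a₁ : F ⟶ A₁} {a₀ : F ⟶ A₀} (l : A₁ ⟶ A₀) (hl : a₁ ≫ l = a₀) (α₁ : A₁ ≅ P₁)
    (α₀ : A₀ ≅ P₀) {η₁ : F ⟶ P₁} {η₀ : F ⟶ P₀} (h₁ : a₁ ≫ α₁.hom = η₁) (h₀ : a₀ ≫ α₀.hom = η₀) :
    η₁ ≫ α₁.inv ≫ l ≫ α₀.hom = η₀ := by
  subst hl h₁ h₀
  simp

universe v₃ v₄ w₃ w₄

variable {A : Type w₃} [Category.{v₃} A] {B : Type w₄} [Category.{v₄} B] (i : A ⥤ C) (Q : C ⥤ D) (Q' : A ⥤ B) (j : B ⥤ D)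
  (E : Q' ⋙ j ≅ i ⋙ Q)

theorem ρ_step {F : C} {M M' : A} (η : F ⟶ i.obj M) (g : M ⟶ M') {P : C} (α : i.obj M' ≅ P) (lvl : F ⟶ P)
    (h : (η ≫ i.map g) ≫ α.hom = lvl) :
    (Q.map η ≫ E.inv.app M) ≫ j.map (Q'.map g) = Q.map lvl ≫ Q.map α.inv ≫ E.inv.app M' := by
  have hn : E.inv.app M ≫ j.map (Q'.map g) = Q.map (i.map g) ≫ E.inv.app M' := (E.inv.naturality g).symm
  subst h
  simp [hn]

theorem β_step {M₁ M₀ : A} (g : M₁ ⟶ M₀) {P₁ P₀ : C} (α₁ : i.obj M₁ ≅ P₁) (α₀ : i.obj M₀ ≅ P₀) :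
    (Q.map α₁.inv ≫ E.inv.app M₁) ≫ j.map (Q'.map g) =
      Q.map (α₁.inv ≫ i.map g ≫ α₀.hom) ≫ Q.map α₀.inv ≫ E.inv.app M₀ := by
  have hn : E.inv.app M₁ ≫ j.map (Q'.map g) = Q.map (i.map g) ≫ E.inv.app M₀ := (E.inv.naturality g).symm
  simp [hn]

end Abstract

variable {𝔛 : FSch.Sys.{u}} (hX : 𝔛.IsLocNoethFormal) {X : Scheme.{u}} [IsLocallyNoetherian X] (c : ∀ n, 𝔛.X n ⟶ X)
  (hc : ∀ n, 𝔛.ι n ≫ c (n + 1) = c n) [∀ n, IsClosedImmersion (c n)]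
  (T : ∀ n, Scheme.Modules.pullback (c (n + 1)) ⋙ Scheme.Modules.pullback (𝔛.ι n) ≅ Scheme.Modules.pullback (c n))
  (hT : ∀ n, T n = Scheme.Modules.pullbackComp (𝔛.ι n) (c (n + 1)) ≪≫ Scheme.Modules.pullbackCongr (hc n))
  (F : X.Modules) (hF : Coh.IsCoh F)

/-- The completion of a module. -/
noncomputable abbrev Fh : FSch.ModF 𝔛 hX.1 := (FSch.toSchemeMor 𝔛 hX.1 c hc).pull.obj F

/-- The completion maps to the levels, on the scheme. -/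
noncomputable abbrev toLevel (k : ℕ) : F ⟶ (FSch.toSchemeMor 𝔛 hX.1 c hc).push.obj (G hX (Fh hX c hc F) k) :=
  (FSch.toSchemeMor 𝔛 hX.1 c hc).adj.unit.app F ≫
    (FSch.toSchemeMor 𝔛 hX.1 c hc).push.map (GrF.u hX (Fh hX c hc F) k)

include hT hF in
/-- The levels of the completion are the restrictions to the thickenings. -/
theorem exists_levelComp (k : ℕ) :
    ∃ α : (FSch.toSchemeMor 𝔛 hX.1 c hc).push.obj (G hX (Fh hX c hc F) k) ≅
        (Scheme.Modules.pushforward (c k)).obj ((pbSys c T F).F k),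
      toLevel hX c hc F k ≫ α.hom = lvUnit c T F k := by
  let S := FSch.toSchemeMor 𝔛 hX.1 c hc
  let u := FSch.levelMor 𝔛 hX.1 k
  obtain ⟨e, he⟩ := exists_pull_iso hX c hc T hT F hF
  let q := FSch.realProj 𝔛 hX.1 (pbSys c T F).F (pbSys c T F).toPush k
  let θ : u.pull.obj (Fh hX c hc F) ≅ (pbSys c T F).F k :=
    u.pull.mapIso e ≪≫ @asIso _ _ _ _ _
      (isIso_pull_to_level (hL := hX) (𝔐 := pbSys c T F) (fun n => H17.ConsProp.isCoh_pullback _ hF) k)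
  haveI := H24FMod.isIso_schPushCompare hX c hc k ((pbSys c T F).F k)
  let cmp := asIso ((FSch.schPushCompare 𝔛 hX.1 c hc k).app ((pbSys c T F).F k))
  refine ⟨S.push.mapIso (u.push.mapIso θ) ≪≫ cmp.symm, ?_⟩
  have h1 : GrF.u hX (Fh hX c hc F) k ≫ u.push.map θ.hom = e.hom ≫ q :=
    (Adjunction.homEquiv_unit _ _ _ _).symm.trans (homEquiv_mapIso_trans u.adj e.hom q)
  exact transfer S.adj (GrF.u hX (Fh hX c hc F) k) (u.push.map θ.hom) e.hom q h1 cmp (lvUnit c T F k) (he k)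

variable (𝓚 : X.IdealSheafData)
  (hc𝓚 : ∀ n (W : X.Opens) (hW : IsAffineOpen W), RingHom.ker ((c n).app W).hom = (𝓚.ideal ⟨W, hW⟩) ^ (n + 1))

include hX hc hc𝓚 hF in
/-- The restriction to a thickening is the truncation on affine opens. -/
theorem lvUnit_isQuot (k : ℕ) (W : X.Opens) (hW : IsAffineOpen W) :
    Function.Surjective ((lvUnit c T F k).app W) ∧ ∀ z : Γ(F, W), (lvUnit c T F k).app W z = 0 ↔
      z ∈ 𝓚.ideal ⟨W, hW⟩ ^ (k + 1) • (⊤ : Submodule Γ(X, W) Γ(F, W)) := by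
  obtain ⟨hs, hk⟩ := κ_isQuot hX.1 c hc T 𝓚 hc𝓚 hW hF k
  have hb := bijective_res_of_le_le ((pbSys c T F).F k) (lvU_trOpen hX.1 c hc k W).le (lvU_trOpen hX.1 c hc k W).ge
  refine ⟨fun y => ?_, fun z => Iff.trans ⟨fun h => ?_, fun h => ?_⟩ (hk z)⟩
  · obtain ⟨m, hm⟩ := hs (((pbSys c T F).F k).presheaf.map (homOfLE (lvU_trOpen hX.1 c hc k W).le).op y)
    exact ⟨m, hb.1 hm⟩
  · exact (congrArg (((pbSys c T F).F k).presheaf.map (homOfLE (lvU_trOpen hX.1 c hc k W).le).op) h).trans (map_zero _)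
  · exact hb.1 (h.trans (map_zero _).symm)

variable {𝔜 : FSch.Sys.{u}} (hY : 𝔜.IsLocNoethFormal) {Y : Scheme.{u}} [IsLocallyNoetherian Y] (r : ∀ n, 𝔜.X n ⟶ Y)
  (hr : ∀ n, 𝔜.ι n ≫ r (n + 1) = r n) [∀ n, IsClosedImmersion (r n)]
  (T' : ∀ n, Scheme.Modules.pullback (r (n + 1)) ⋙ Scheme.Modules.pullback (𝔜.ι n) ≅ Scheme.Modules.pullback (r n))
  (hT' : ∀ n, T' n = Scheme.Modules.pullbackComp (𝔜.ι n) (r (n + 1)) ≪≫ Scheme.Modules.pullbackCongr (hr n))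
  (𝓘 : Y.IdealSheafData)
  (hr𝓘 : ∀ n (V : Y.Opens) (hV : IsAffineOpen V), RingHom.ker ((r n).app V).hom = (𝓘.ideal ⟨V, hV⟩) ^ (n + 1))
  (f : X ⟶ Y) [IsProper f]
  (h𝓚 : ∀ (V : Y.Opens) (hV : IsAffineOpen V) (W : X.Opens) (hW : IsAffineOpen W) (l : W ≤ f ⁻¹ᵁ V),
    𝓚.ideal ⟨W, hW⟩ = (𝓘.ideal ⟨V, hV⟩).map (f.appLE V W l).hom)
  (φ : 𝔛 ⟶ 𝔜) (hφ : FSch.IsProperHom φ) (hsq : ∀ n, c n ≫ f = (φ : FSch.Hom 𝔛 𝔜).app n ≫ r n)
  [HasInjectiveResolutions (FSch.ModF 𝔛 hX.1)] [HasInjectiveResolutions X.Modules]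

include hT hF hc𝓚 hT' hr𝓘 h𝓚 hφ hsq in
set_option maxHeartbeats 1600000 in
/-- The completion of a higher direct image is the higher direct image of the completion. -/
theorem nonempty_bcIso (p : ℕ) :
    Nonempty ((FSch.toSchemeMor 𝔜 hY.1 r hr).pull.obj ((Coh.Rpush f p).obj F) ≅
      (FSch.RpushF φ hX.1 hY.1 p).obj (Fh hX c hc F)) := by
  let S := FSch.toSchemeMor 𝔛 hX.1 c hc
  let S' := FSch.toSchemeMor 𝔜 hY.1 r hr
  let 𝔉 := Fh hX c hc F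
  haveI : SheafOfModules.IsFinitePresentation (R := ModSite.ringSh X.sheaf) F := isFinitePresentation_of_isCoh hF
  have h𝔉 : FSch.IsCohF 𝔛 hX.1 𝔉 := H15Site.PullLocPres.isFinitePresentation_pull S F
  obtain ⟨E⟩ := PushSquare.nonempty_rpushSquare hX.1 c hc hY.1 φ f r hr hsq (c 0).isClosedEmbedding (r 0).isClosedEmbedding
    (isFlat_toSchemeMor hX c hc 𝓚 hc𝓚) p
  choose α hα using exists_levelComp hX c hc T hT F hF
  let P : ℕ → X.Modules := fun k => (Scheme.Modules.pushforward (c k)).obj ((pbSys c T F).F k)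
  let η : ∀ k, F ⟶ P k := lvUnit c T F
  let t : ∀ k, P (k + 1) ⟶ P k := fun k => (α (k + 1)).inv ≫ S.push.map (L hX 𝔉 k) ≫ (α k).hom
  have ht : ∀ k, η (k + 1) ≫ t k = η k := fun k =>
    step (S.push.map (L hX 𝔉 k)) ((Category.assoc _ _ _).trans (congrArg (S.adj.unit.app F ≫ ·)
      ((S.push.map_comp _ _).symm.trans (congrArg S.push.map (u_L hX 𝔉 k))))) (α (k + 1)) (α k) (hα (k + 1)) (hα k)
  let R := Coh.Rpush f p
  let N := rF hX hY φ 𝔉 p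
  let ρ : R.obj F ⟶ S'.push.obj N := R.map (S.adj.unit.app F) ≫ E.inv.app 𝔉
  let β : ∀ k, R.obj (P k) ≅ S'.push.obj (rG hX hY φ 𝔉 p k) := fun k =>
    R.mapIso (α k).symm ≪≫ (E.app (G hX 𝔉 k)).symm
  have hρ : ∀ k, ρ ≫ S'.push.map (ru hX hY φ 𝔉 p k) = R.map (η k) ≫ (β k).hom := fun k =>
    ρ_step S.push R (FSch.RpushF φ hX.1 hY.1 p) S'.push E (S.adj.unit.app F) (GrF.u hX 𝔉 k) (α k) (η k) (hα k)
  have hβ : ∀ k, (β (k + 1)).hom ≫ S'.push.map (rL hX hY φ 𝔉 p k) = R.map (t k) ≫ (β k).hom := fun k =>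
    β_step S.push R (FSch.RpushF φ hX.1 hY.1 p) S'.push E (L hX 𝔉 k) (α (k + 1)) (α k)
  have hbs : ∀ k (V : Y.Opens), Function.Bijective ((β k).hom.app V) := fun k V =>
    Function.bijective_iff_has_inverse.2 ⟨(β k).inv.app V,
      fun z => congr($(congrArg (fun ψ => Scheme.Modules.Hom.app ψ V) (β k).hom_inv_id) z),
      fun z => congr($(congrArg (fun ψ => Scheme.Modules.Hom.app ψ V) (β k).inv_hom_id) z)⟩
  have hρs : ∀ k (V : Y.Opens) (m : Γ(R.obj F, V)), secMap (ru hX hY φ 𝔉 p k) (trOpen r V) ((ρ.val.app (op V)).hom m) =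
      (β k).hom.app V ((R.map (η k)).app V m) := fun k V m =>
    congr($(congrArg (fun ψ => Scheme.Modules.Hom.app ψ V) (hρ k)) m)
  have hcohP : ∀ k, Coh.IsCoh (P k) := fun k =>
    H10Coh.isCoh_push_of_isFinite (c k) _ (H17.ConsProp.isCoh_pullback _ hF)
  have hFF := fun (V : Y.Opens) (hV : IsAffineOpen V) =>
    TruncFormal.exists_formalFun f hV (𝓘.ideal ⟨V, hV⟩) hF hcohP η t ht (fun k W hW l => by
      obtain ⟨h1, h2⟩ := lvUnit_isQuot hX c hc T F hF 𝓚 hc𝓚 k W hW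
      exact ⟨h1, fun z => by rw [← h𝓚 V hV W hW l]; exact h2 z⟩) p
  haveI := hφ.2
  have hlv : ∀ k, FPCrit.IsLevel hY k (rG hX hY φ 𝔉 p k) := fun k =>
    FormalLevels.exists_qcoh_level hX hY φ 𝔉 h𝔉 inferInstance p k
  haveI := isIso_toLim hX hY φ 𝔉 hφ h𝔉 (q := p)
  let J := asIso (toLim hX hY φ 𝔉 p)
  have hsurj : ∀ (A : (𝔜.X 0).Opens), IsAffineOpen A → ∀ z : ∀ k, Sec hY.1 (rG hX hY φ 𝔉 p k) A,
      (∀ k, secMap (rL hX hY φ 𝔉 p k) A (z (k + 1)) = z k) →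
        ∃ x : Sec hY.1 N A, ∀ k, secMap (ru hX hY φ 𝔉 p k) A x = z k := fun A _ z hz => by
    obtain ⟨t₀, ht₀⟩ := exists_limit_section (Functor.ofOpSequence (rL hX hY φ 𝔉 p)) A z fun n => by
      rw [Functor.ofOpSequence_map_homOfLE_succ]
      exact hz n
    refine ⟨secMap J.inv A t₀, fun k => ?_⟩
    refine (secMap_π_toLim hX hY φ 𝔉 k A _).symm.trans (Eq.trans ?_ (ht₀ k))
    exact congrArg _ (congr(secMap $(J.inv_hom_id) A t₀))
  have hinj : ∀ (A : (𝔜.X 0).Opens), IsAffineOpen A → ∀ x : Sec hY.1 N A,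
      (∀ k, secMap (ru hX hY φ 𝔉 p k) A x = 0) → x = 0 := fun A _ x hx => by
    apply FPCrit.secMap_injective J A
    rw [map_zero]
    refine limit_section_ext (Functor.ofOpSequence (rL hX hY φ 𝔉 p)) A _ _ fun k => ?_
    exact ((secMap_π_toLim hX hY φ 𝔉 k A x).trans (hx k)).trans (map_zero _).symm
  haveI := BaseChangeCrit.isIso_ψ hY r hr T' hT' 𝓘 hr𝓘 (R.obj F) (H10Coh.isCoh_rpush f F hF p) N
    (rG hX hY φ 𝔉 p) (ru hX hY φ 𝔉 p) (rL hX hY φ 𝔉 p) (ru_rL hX hY φ 𝔉 p) hlv hinj hsurj ρ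
    (fun V hV => by
      obtain ⟨⟨d, hd⟩, -⟩ := hFF V hV
      exact ⟨d, fun k hk m hm => hd k hk m ((hbs k V).1 ((hρs k V m).symm.trans (hm.trans (map_zero _).symm)))⟩)
    (fun V hV z hz => by
      obtain ⟨-, hd⟩ := hFF V hV
      choose w hw using fun k => (hbs k V).2 (z k)
      obtain ⟨b, hb⟩ := hd w fun k => (hbs k V).1 ((congr($(congrArg (fun ψ => Scheme.Modules.Hom.app ψ V) (hβ k)) (w (k + 1)))).symm.trans
        (((congrArg (secMap (rL hX hY φ 𝔉 p k) (trOpen r V)) (hw (k + 1))).trans (hz k)).trans (hw k).symm))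
      exact ⟨b, fun k => (hρs k V _).trans ((congrArg _ (hb k)).trans (hw k))⟩)
  exact ⟨asIso (BaseChangeCrit.ψ hY r hr (R.obj F) N ρ)⟩

end Groth.Agent.H24Formal3.BaseChangeFF
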