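import Groth.Agent.H24Formal3.Chart
import Groth.Agent.H24FMod.PullSys
import Groth.Agent.H24FMod.GrLim
import Groth.Agent.H10Coh.OpenEmb
import Groth.Agent.H17.PullSectLocal
import Groth.Agent.LeadUV.Adic

/-!
# The levels of a coherent module restricted to an open
-/

set_option autoImplicit false
set_option linter.style.haveILetI false
set_option linter.unusedSectionVars false

universe u

attribute [-instance] CategoryTheory.catToReflQuiver

open AlgebraicGeometry CategoryTheory CategoryTheory.Limits TopologicalSpace Opposite CategoryTheory.Abelian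

namespace Groth.Agent.H24Formal3.Restrict

attribute [local instance 10000] H10Coh.hasSheafifyAb H10Coh.hasWeakSheafifyAb H10Coh.hasExtAb H10Coh.enoughInjAb

open H24FMod

variable {𝔛 : FSch.Sys.{u}} (hX : 𝔛.IsLocNoethFormal) (U : (𝔛.X 0).Opens) (𝔉 : FSch.ModF 𝔛 hX.1)

/-- The restricted system of modules. -/
noncomputable abbrev resSys : FSch.ModSys (𝔛.restrictOpen hX.1 U) :=
  FSch.ModSys.pullback (𝔛.restrictOpenι hX.1 U) (pullSys hX 𝔉)

/-- The restricted module. -/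
noncomputable abbrev resMod : FSch.ModF (𝔛.restrictOpen hX.1 U) (Chart.isLocNoethFormal_restrictOpen hX U).1 :=
  (resSys hX U 𝔉).realMod (Chart.isLocNoethFormal_restrictOpen hX U).1

theorem isCoh_resSys (h𝔉 : FSch.IsCohF 𝔛 hX.1 𝔉) : (resSys hX U 𝔉).IsCoh := fun n =>
  LeadUV.isCoh_pullback' _ (isCoh_pullSys hX h𝔉 n)

theorem isCohF_resMod (h𝔉 : FSch.IsCohF 𝔛 hX.1 𝔉) :
    FSch.IsCohF _ (Chart.isLocNoethFormal_restrictOpen hX U).1 (resMod hX U 𝔉) :=
  isCohF_realMod (hL := Chart.isLocNoethFormal_restrictOpen hX U) (isCoh_resSys hX U 𝔉 h𝔉)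

/-- The embedding of the underlying spaces. -/
noncomputable abbrev jb : ((𝔛.restrictOpen hX.1 U).X 0).carrier ⟶ (𝔛.X 0).carrier := (𝔛.lvU hX.1 0 U).ι.base

theorem isOpenEmbedding_jb : Topology.IsOpenEmbedding (jb hX U) := (𝔛.lvU hX.1 0 U).ι.isOpenEmbedding

theorem lvU_zero (W : (𝔛.X 0).Opens) : 𝔛.lvU hX.1 0 W = W := by
  show (TopologicalSpace.Opens.map (𝔛.gInv hX.1 0)).obj W = W
  rw [show 𝔛.gInv hX.1 0 = 𝟙 _ from (Category.comp_id _).symm.trans (𝔛.gInv_toX_base hX.1 0)]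
  rfl

theorem im_le (W : Opens ((𝔛.restrictOpen hX.1 U).X 0).carrier) : H10Coh.im (isOpenEmbedding_jb hX U) W ≤ U := by
  rintro _ ⟨y, -, rfl⟩
  exact (lvU_zero hX U).le y.2

theorem im_top : H10Coh.im (isOpenEmbedding_jb hX U) ⊤ = U := by
  refine le_antisymm (im_le hX U ⊤) fun x hx => ?_
  exact ⟨⟨x, (lvU_zero hX U).ge hx⟩, trivial, rfl⟩

theorem preimage_im (W : Opens ((𝔛.restrictOpen hX.1 U).X 0).carrier) :
    (Opens.map (jb hX U)).obj (H10Coh.im (isOpenEmbedding_jb hX U) W) = W :=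
  Opens.ext (Set.preimage_image_eq _ (isOpenEmbedding_jb hX U).injective)

/-- The map from a level to the restricted level. -/
noncomputable def toRes (k : ℕ) :
    (FSch.levelMor 𝔛 hX.1 k).push.obj ((pullSys hX 𝔉).F k) ⟶
      (FSch.pushF (𝔛.restrictOpenι hX.1 U) (Chart.isLocNoethFormal_restrictOpen hX U).1 hX.1).obj
        ((FSch.levelMor _ (Chart.isLocNoethFormal_restrictOpen hX U).1 k).push.obj ((resSys hX U 𝔉).F k)) :=
  (FSch.levelMor 𝔛 hX.1 k).push.map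
      ((ModSite.RMor.ofScheme ((𝔛.restrictOpenι hX.1 U : FSch.Hom _ _).app k)).adj.unit.app ((pullSys hX 𝔉).F k)) ≫
    (FSch.lvPushSq (𝔛.restrictOpenι hX.1 U) (Chart.isLocNoethFormal_restrictOpen hX U).1 hX.1 k).inv.app
      ((resSys hX U 𝔉).F k)

theorem toRes_app (k : ℕ) (W : (𝔛.X 0).Opens) (x : Γ((pullSys hX 𝔉).F k, 𝔛.lvU hX.1 k W)) :
    ((toRes hX U 𝔉 k).val.app (op W)).hom x =
      pullSec (𝔛.restrictOpenι hX.1 U) (pullSys hX 𝔉) (Chart.isLocNoethFormal_restrictOpen hX U).1 hX.1 k W x :=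
  congrArg (fun z => ((resSys hX U 𝔉).F k).presheaf.map z
      (OmegaSh.pullSect ((𝔛.restrictOpenι hX.1 U : FSch.Hom _ _).app k) ((pullSys hX 𝔉).F k) (𝔛.lvU hX.1 k W) x))
    (Subsingleton.elim _ _)

theorem bijective_pullSec (k : ℕ) (W : (𝔛.X 0).Opens) (hW : W ≤ U) :
    Function.Bijective
      (pullSec (𝔛.restrictOpenι hX.1 U) (pullSys hX 𝔉) (Chart.isLocNoethFormal_restrictOpen hX U).1 hX.1 k W) := by
  have h1 := H17.PullSect.bijective_pullSect (𝔛.lvU hX.1 k U).ι ((pullSys hX 𝔉).F k)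
    (W := 𝔛.lvU hX.1 k W) ((lvU_mono hX.1 k hW).trans (Scheme.Opens.opensRange_ι _).ge)
  have e := FSch.Hom.lvU_preimage (𝔛.restrictOpenι hX.1 U) (Chart.isLocNoethFormal_restrictOpen hX U).1 hX.1 k W
  exact (bijective_res_of_le_le ((resSys hX U 𝔉).F k) e.ge e.le).comp h1

/-- The transition of a system on the common space. -/
noncomputable abbrev stepS {𝔜 : FSch.Sys.{u}} (hY : 𝔜.IsLocNoethFormal) (S : FSch.ModSys 𝔜) (k : ℕ) :
    (FSch.levelMor 𝔜 hY.1 (k + 1)).push.obj (S.F (k + 1)) ⟶ (FSch.levelMor 𝔜 hY.1 k).push.obj (S.F k) :=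
  (FSch.levelMor 𝔜 hY.1 (k + 1)).push.map (S.toPush k) ≫ (FSch.pushCompare 𝔜 hY.1 k).app (S.F k)

/-- The abelian sheaf of a level of a system. -/
noncomputable abbrev shS {𝔜 : FSch.Sys.{u}} (hY : 𝔜.IsLocNoethFormal) (S : FSch.ModSys 𝔜) (k : ℕ) :
    CohTop.Ab (𝔜.X 0).carrier :=
  (SheafOfModules.toSheaf.{u} (ModSite.ringSh (𝔜.Osh hY.1))).obj ((FSch.levelMor 𝔜 hY.1 k).push.obj (S.F k))

/-- The abelian sheaf of a transition of a system. -/
noncomputable abbrev shT {𝔜 : FSch.Sys.{u}} (hY : 𝔜.IsLocNoethFormal) (S : FSch.ModSys 𝔜) (k : ℕ) :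
    shS hY S (k + 1) ⟶ shS hY S k :=
  (SheafOfModules.toSheaf.{u} (ModSite.ringSh (𝔜.Osh hY.1))).map (stepS hY S k)

/-- A map to a direct image gives a map of the restriction. -/
theorem resMap_naturality {X Y : TopCat.{u}} {j : X ⟶ Y} (hj : Topology.IsOpenEmbedding j) (F : CohTop.Ab Y)
    (G : CohTop.Ab X) (φ : F ⟶ (CohTop.push j).obj G) (e : ∀ W, W ≤ (Opens.map j).obj (H10Coh.im hj W))
    (W W' : (Opens X)ᵒᵖ) (i : W ⟶ W') :
    ((H10Coh.Rf hj).obj F).obj.map i ≫ φ.hom.app (op (H10Coh.im hj W'.unop)) ≫ G.obj.map (homOfLE (e W'.unop)).op =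
      (φ.hom.app (op (H10Coh.im hj W.unop)) ≫ G.obj.map (homOfLE (e W.unop)).op) ≫ G.obj.map i := by
  have h := φ.hom.naturality (hj.isOpenMap.functor.map i.unop).op
  refine (Category.assoc _ _ _).symm.trans ((congrArg (· ≫ G.obj.map (homOfLE (e W'.unop)).op) h).trans ?_)
  refine (Category.assoc _ _ _).trans (Eq.trans ?_ (Category.assoc _ _ _).symm)
  refine congrArg (φ.hom.app (op (H10Coh.im hj W.unop)) ≫ ·) ?_
  show G.obj.map _ ≫ G.obj.map _ = _ ≫ _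
  rw [← Functor.map_comp, ← Functor.map_comp]
  exact congrArg _ (Subsingleton.elim _ _)

/-- A map to a direct image gives a map of the restriction. -/
noncomputable def resMap {X Y : TopCat.{u}} {j : X ⟶ Y} (hj : Topology.IsOpenEmbedding j) {F : CohTop.Ab Y}
    {G : CohTop.Ab X} (φ : F ⟶ (CohTop.push j).obj G) (e : ∀ W, W ≤ (Opens.map j).obj (H10Coh.im hj W)) :
    (H10Coh.Rf hj).obj F ⟶ G :=
  ⟨{ app := fun W => φ.hom.app (op (H10Coh.im hj W.unop)) ≫ G.obj.map (homOfLE (e W.unop)).op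
     naturality := fun W W' i => resMap_naturality hj F G φ e W W' i }⟩

theorem resMap_comm {X Y : TopCat.{u}} {j : X ⟶ Y} (hj : Topology.IsOpenEmbedding j) {F F' : CohTop.Ab Y}
    {G G' : CohTop.Ab X} (φ : F ⟶ (CohTop.push j).obj G) (φ' : F' ⟶ (CohTop.push j).obj G')
    (e : ∀ W, W ≤ (Opens.map j).obj (H10Coh.im hj W)) (t : F ⟶ F') (t' : G ⟶ G')
    (h : t ≫ φ' = φ ≫ (CohTop.push j).map t') :
    (H10Coh.Rf hj).map t ≫ resMap hj φ' e = resMap hj φ e ≫ t' := by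
  apply Sheaf.hom_ext
  refine NatTrans.ext (funext fun W => ?_)
  let A := H10Coh.im hj W.unop
  show t.hom.app (op A) ≫ φ'.hom.app (op A) ≫ G'.obj.map (homOfLE (e W.unop)).op =
    (φ.hom.app (op A) ≫ G.obj.map (homOfLE (e W.unop)).op) ≫ t'.hom.app W
  refine (Category.assoc _ _ _).symm.trans
    ((congrArg (fun q : F ⟶ (CohTop.push j).obj G' => q.hom.app (op A) ≫ G'.obj.map (homOfLE (e W.unop)).op) h).trans ?_)
  refine (Category.assoc _ _ _).trans (Eq.trans ?_ (Category.assoc _ _ _).symm)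
  exact congrArg (φ.hom.app (op A) ≫ ·) (t'.hom.naturality (homOfLE (e W.unop)).op).symm

theorem isIso_resMap {X Y : TopCat.{u}} {j : X ⟶ Y} (hj : Topology.IsOpenEmbedding j) {F : CohTop.Ab Y}
    {G : CohTop.Ab X} (φ : F ⟶ (CohTop.push j).obj G) (e : ∀ W, W ≤ (Opens.map j).obj (H10Coh.im hj W))
    (he : ∀ W, (Opens.map j).obj (H10Coh.im hj W) ≤ W)
    (hφ : ∀ W, Function.Bijective (φ.hom.app (op (H10Coh.im hj W))).hom) : IsIso (resMap hj φ e) := by
  haveI : ∀ W : (Opens X)ᵒᵖ, IsIso ((resMap hj φ e).hom.app W) := fun W => by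
    show IsIso (φ.hom.app (op (H10Coh.im hj W.unop)) ≫ G.obj.map (homOfLE (e W.unop)).op)
    haveI := (ConcreteCategory.isIso_iff_bijective _).2 (hφ W.unop)
    haveI : IsIso (homOfLE (e W.unop)) := ⟨homOfLE (he W.unop), Subsingleton.elim _ _, Subsingleton.elim _ _⟩
    haveI : IsIso (homOfLE (e W.unop)).op := isIso_op _
    haveI : IsIso (G.obj.map (homOfLE (e W.unop)).op) := Functor.map_isIso G.obj (homOfLE (e W.unop)).op
    exact IsIso.comp_isIso' ((ConcreteCategory.isIso_iff_bijective _).2 (hφ W.unop)) (Functor.map_isIso G.obj (homOfLE (e W.unop)).op)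
  haveI : IsIso ((sheafToPresheaf (Opens.grothendieckTopology X) AddCommGrpCat.{u}).map (resMap hj φ e)) :=
    NatIso.isIso_of_isIso_app (resMap hj φ e).hom
  exact isIso_of_reflects_iso _ (sheafToPresheaf (Opens.grothendieckTopology X) AddCommGrpCat.{u})

/-- The map on abelian sheaves from a level to the restricted level. -/
noncomputable abbrev shRes (k : ℕ) :
    shS hX (pullSys hX 𝔉) k ⟶ (CohTop.push (jb hX U)).obj
      (shS (Chart.isLocNoethFormal_restrictOpen hX U) (resSys hX U 𝔉) k) :=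
  (SheafOfModules.toSheaf.{u} (ModSite.ringSh (𝔛.Osh hX.1))).map (toRes hX U 𝔉 k)

theorem tr_toRes (k : ℕ) (W : (𝔛.X 0).Opens) (x : Γ((pullSys hX 𝔉).F (k + 1), 𝔛.lvU hX.1 (k + 1) W)) :
    ((toRes hX U 𝔉 k).val.app (op W)).hom (tr hX.1 (pullSys hX 𝔉).F (pullSys hX 𝔉).toPush k W x) =
      tr (Chart.isLocNoethFormal_restrictOpen hX U).1 (resSys hX U 𝔉).F (resSys hX U 𝔉).toPush k
        (((𝔛.restrictOpenι hX.1 U : FSch.Hom _ _).app 0) ⁻¹ᵁ W)
        (pullSec (𝔛.restrictOpenι hX.1 U) (pullSys hX 𝔉) (Chart.isLocNoethFormal_restrictOpen hX U).1 hX.1 (k + 1) W x) :=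
  (toRes_app hX U 𝔉 k W _).trans
    (tr_pullSec (𝔛.restrictOpenι hX.1 U) (pullSys hX 𝔉) (Chart.isLocNoethFormal_restrictOpen hX U).1 hX.1 k W x).symm

theorem toRes_step (k : ℕ) :
    stepS hX (pullSys hX 𝔉) k ≫ toRes hX U 𝔉 k = toRes hX U 𝔉 (k + 1) ≫
      (FSch.pushF (𝔛.restrictOpenι hX.1 U) (Chart.isLocNoethFormal_restrictOpen hX U).1 hX.1).map
        (stepS (Chart.isLocNoethFormal_restrictOpen hX U) (resSys hX U 𝔉) k) :=
  hom_ext_sec fun W x => (tr_toRes hX U 𝔉 k W x).trans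
    (congrArg (tr (Chart.isLocNoethFormal_restrictOpen hX U).1 (resSys hX U 𝔉).F (resSys hX U 𝔉).toPush k _)
      (toRes_app hX U 𝔉 (k + 1) W x).symm)

theorem shT_shRes (k : ℕ) :
    shT hX (pullSys hX 𝔉) k ≫ shRes hX U 𝔉 k = shRes hX U 𝔉 (k + 1) ≫
      (CohTop.push (jb hX U)).map (shT (Chart.isLocNoethFormal_restrictOpen hX U) (resSys hX U 𝔉) k) :=
  (((SheafOfModules.toSheaf.{u} (ModSite.ringSh (𝔛.Osh hX.1))).map_comp _ _).symm.trans
    (congrArg (SheafOfModules.toSheaf.{u} (ModSite.ringSh (𝔛.Osh hX.1))).map (toRes_step hX U 𝔉 k))).trans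
      ((SheafOfModules.toSheaf.{u} (ModSite.ringSh (𝔛.Osh hX.1))).map_comp _ _)

theorem bijective_shRes (k : ℕ) (A : (𝔛.X 0).Opens) (hA : A ≤ U) :
    Function.Bijective ((shRes hX U 𝔉 k).hom.app (op A)).hom := by
  have hb := bijective_pullSec hX U 𝔉 k A hA
  rw [← funext (toRes_app hX U 𝔉 k A)] at hb
  exact hb

/-- The restriction of a level is the restricted level. -/
theorem exists_resIso :
    ∃ ρ : ∀ k, (H10Coh.Rf (isOpenEmbedding_jb hX U)).obj (shS hX (pullSys hX 𝔉) k) ≅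
        shS (Chart.isLocNoethFormal_restrictOpen hX U) (resSys hX U 𝔉) k,
      ∀ k, (H10Coh.Rf (isOpenEmbedding_jb hX U)).map (shT hX (pullSys hX 𝔉) k) ≫ (ρ k).hom =
        (ρ (k + 1)).hom ≫ shT (Chart.isLocNoethFormal_restrictOpen hX U) (resSys hX U 𝔉) k :=
  ⟨fun k => @asIso _ _ _ _ (resMap (isOpenEmbedding_jb hX U) (shRes hX U 𝔉 k) fun W => (preimage_im hX U W).ge)
      (isIso_resMap _ _ _ (fun W => (preimage_im hX U W).le) fun W => bijective_shRes hX U 𝔉 k _ (im_le hX U W)),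
    fun k => resMap_comm _ (shRes hX U 𝔉 (k + 1)) (shRes hX U 𝔉 k) (fun W => (preimage_im hX U W).ge) _ _
      (shT_shRes hX U 𝔉 k)⟩

/-- The levels of a coherent module and of its system. -/
theorem exists_levelIso {𝔜 : FSch.Sys.{u}} (hY : 𝔜.IsLocNoethFormal) (S : FSch.ModSys 𝔜) (hS : S.IsCoh) :
    ∃ η : ∀ k, GrF.G hY (S.realMod hY.1) k ≅ (FSch.levelMor 𝔜 hY.1 k).push.obj (S.F k),
      ∀ k, GrF.L hY (S.realMod hY.1) k ≫ (η k).hom = (η (k + 1)).hom ≫ stepS hY S k := by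
  let d : ∀ k, (FSch.levelMor 𝔜 hY.1 k).pull.obj (S.realMod hY.1) ⟶ S.F k := fun k =>
    ((FSch.levelMor 𝔜 hY.1 k).adj.homEquiv _ _).symm (FSch.realProj 𝔜 hY.1 S.F S.toPush k)
  haveI : ∀ k, IsIso (d k) := fun k => isIso_pull_to_level (hL := hY) hS k
  have hd : ∀ k, GrF.u hY (S.realMod hY.1) k ≫ (FSch.levelMor 𝔜 hY.1 k).push.map (d k) =
      FSch.realProj 𝔜 hY.1 S.F S.toPush k := fun k =>
    ((FSch.levelMor 𝔜 hY.1 k).adj.homEquiv_unit _ _ _).symm.trans (Equiv.apply_symm_apply _ _)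
  refine ⟨fun k => (FSch.levelMor 𝔜 hY.1 k).push.mapIso (asIso (d k)), fun k => ?_⟩
  haveI := GrF.epi_u hY (S.realMod hY.1) (isCohF_realMod (hL := hY) hS) (k + 1)
  refine (cancel_epi (GrF.u hY (S.realMod hY.1) (k + 1))).1 ?_
  rw [← Category.assoc, GrF.u_L, ← Category.assoc]
  refine (hd k).trans ((FSch.realProj_map 𝔜 hY.1 S.F S.toPush k).symm.trans ?_)
  exact congrArg (· ≫ stepS hY S k) (hd (k + 1)).symm

theorem L_eq_stepS (h𝔉 : FSch.IsCohF 𝔛 hX.1 𝔉) (k : ℕ) : GrF.L hX 𝔉 k = stepS hX (pullSys hX 𝔉) k := by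
  haveI := GrF.epi_u hX 𝔉 h𝔉 (k + 1)
  exact (cancel_epi (GrF.u hX 𝔉 (k + 1))).1 ((GrF.u_L hX 𝔉 k).trans (unit_step hX 𝔉 k).symm)

end Groth.Agent.H24Formal3.Restrict
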