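import Groth.Agent.H24Formal3.BaseChangeFF
import Groth.Agent.H24Formal3.Restrict

/-!
# The base-change map of a completion in degree zero
-/

set_option autoImplicit false
set_option linter.style.haveILetI false
set_option linter.unusedSectionVars false

universe u

attribute [-instance] CategoryTheory.catToReflQuiver

open CategoryTheory CategoryTheory.Limits AlgebraicGeometry TopologicalSpace Opposite

namespace Groth.Agent.H24Formal3.BaseChangeZero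

open H24FMod H24FMod.GrF

section Levels

variable {𝔛 : FSch.Sys.{u}} (hX : 𝔛.IsLocNoethFormal) {𝔜 : FSch.Sys.{u}} (hY : 𝔜.IsLocNoethFormal) (φ : 𝔛 ⟶ 𝔜)
  (hφ : QuasiCompact ((φ : FSch.Hom 𝔛 𝔜).app 0)) (𝔉 : FSch.ModF 𝔛 hX.1) (h𝔉 : FSch.IsCohF 𝔛 hX.1 𝔉)

include hφ h𝔉 in
/-- Direct images of the levels are levels. -/
theorem isLevel_push (k : ℕ) : FPCrit.IsLevel hY k ((FSch.pushF φ hX.1 hY.1).obj (G hX 𝔉 k)) := by
  haveI := FormalLevels.quasiCompact_app hX hY φ hφ k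
  haveI := FormalLevels.quasiSeparated_app hX φ k
  haveI := FormalLevels.qcoh_level hX 𝔉 h𝔉 k
  haveI : ((FSch.levelMor 𝔛 hX.1 k).pull.obj 𝔉 : (𝔛.X k).Modules).IsQuasicoherent :=
    FormalLevels.qcoh_level hX 𝔉 h𝔉 k
  exact ⟨(Scheme.Modules.pushforward ((φ : FSch.Hom 𝔛 𝔜).app k)).obj ((FSch.levelMor 𝔛 hX.1 k).pull.obj 𝔉),
    H10Coh.isQuasicoherent_pushforward _ _,
    ⟨(FSch.lvPushSq φ hX.1 hY.1 k).app ((FSch.levelMor 𝔛 hX.1 k).pull.obj 𝔉)⟩⟩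

include h𝔉 in
/-- A coherent module has the sections of the limit of its levels. -/
theorem eq_zero_of_levels (A : (𝔛.X 0).Opens) (x : Sec hX.1 𝔉 A) (h : ∀ k, secMap (GrF.u hX 𝔉 k) A x = 0) : x = 0 := by
  haveI := isIso_toReal hX h𝔉
  apply FPCrit.secMap_injective (asIso (toReal hX 𝔉)) A
  rw [map_zero]
  refine prS_ext hX.1 _ _ _ _ fun k => ?_
  exact ((congr(secMap $(toReal_proj hX 𝔉 k) A x)).trans (h k)).trans (map_zero _).symm

include h𝔉 in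
theorem exists_of_levels (A : (𝔛.X 0).Opens) (z : ∀ k, Sec hX.1 (G hX 𝔉 k) A)
    (hz : ∀ k, secMap (L hX 𝔉 k) A (z (k + 1)) = z k) : ∃ x : Sec hX.1 𝔉 A, ∀ k, secMap (GrF.u hX 𝔉 k) A x = z k := by
  haveI := isIso_toReal hX h𝔉
  obtain ⟨y, hy⟩ := exists_prS hX.1 (pullSys hX 𝔉).F (pullSys hX 𝔉).toPush A z fun k => by
    refine Eq.trans ?_ (hz k)
    rw [Restrict.L_eq_stepS hX 𝔉 h𝔉 k]
    rfl
  refine ⟨secMap (inv (toReal hX 𝔉)) A y, fun k => ?_⟩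
  refine (congr(secMap $(toReal_proj hX 𝔉 k) A (secMap (inv (toReal hX 𝔉)) A y))).symm.trans (Eq.trans ?_ (hy k))
  exact congrArg (secMap (FSch.realProj 𝔛 hX.1 (pullSys hX 𝔉).F (pullSys hX 𝔉).toPush k) A)
    (congr(secMap $(IsIso.inv_hom_id (toReal hX 𝔉)) A y))

end Levels

/-- Sections of a morphism of modules, linearly. -/
noncomputable def linApp {Y : Scheme.{u}} {M N : Y.Modules} (ψ : M ⟶ N) (V : Y.Opens) : Γ(M, V) →ₗ[Γ(Y, V)] Γ(N, V) where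
  toFun := ψ.app V
  map_add' := map_add _
  map_smul' a x := Scheme.Modules.Hom.app_smul ψ a x

variable {𝔛 : FSch.Sys.{u}} (hX : 𝔛.IsLocNoethFormal) {X : Scheme.{u}} [IsLocallyNoetherian X] (c : ∀ n, 𝔛.X n ⟶ X)
  (hc : ∀ n, 𝔛.ι n ≫ c (n + 1) = c n) [∀ n, IsClosedImmersion (c n)]
  (T : ∀ n, Scheme.Modules.pullback (c (n + 1)) ⋙ Scheme.Modules.pullback (𝔛.ι n) ≅ Scheme.Modules.pullback (c n))
  (hT : ∀ n, T n = Scheme.Modules.pullbackComp (𝔛.ι n) (c (n + 1)) ≪≫ Scheme.Modules.pullbackCongr (hc n))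
  (F : X.Modules) (hF : Coh.IsCoh F) (𝓚 : X.IdealSheafData)
  (hc𝓚 : ∀ n (W : X.Opens) (hW : IsAffineOpen W), RingHom.ker ((c n).app W).hom = (𝓚.ideal ⟨W, hW⟩) ^ (n + 1))
  {𝔜 : FSch.Sys.{u}} (hY : 𝔜.IsLocNoethFormal) {Y : Scheme.{u}} [IsLocallyNoetherian Y] (r : ∀ n, 𝔜.X n ⟶ Y)
  (hr : ∀ n, 𝔜.ι n ≫ r (n + 1) = r n) [∀ n, IsClosedImmersion (r n)]
  (T' : ∀ n, Scheme.Modules.pullback (r (n + 1)) ⋙ Scheme.Modules.pullback (𝔜.ι n) ≅ Scheme.Modules.pullback (r n))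
  (hT' : ∀ n, T' n = Scheme.Modules.pullbackComp (𝔜.ι n) (r (n + 1)) ≪≫ Scheme.Modules.pullbackCongr (hr n))
  (𝓘 : Y.IdealSheafData)
  (hr𝓘 : ∀ n (V : Y.Opens) (hV : IsAffineOpen V), RingHom.ker ((r n).app V).hom = (𝓘.ideal ⟨V, hV⟩) ^ (n + 1))
  (f : X ⟶ Y) [IsProper f]
  (h𝓚 : ∀ (V : Y.Opens) (hV : IsAffineOpen V) (W : X.Opens) (hW : IsAffineOpen W) (l : W ≤ f ⁻¹ᵁ V),
    𝓚.ideal ⟨W, hW⟩ = (𝓘.ideal ⟨V, hV⟩).map (f.appLE V W l).hom)
  (φ : 𝔛 ⟶ 𝔜) (hφ : FSch.IsProperHom φ) (hsq : ∀ n, c n ≫ f = (φ : FSch.Hom 𝔛 𝔜).app n ≫ r n)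

include hT hF hc𝓚 hT' hr𝓘 h𝓚 hφ hsq in
set_option maxHeartbeats 1600000 in
/-- The base-change map of the completion is an isomorphism on coherent modules. -/
theorem isIso_schBcMap : IsIso (FSch.schBcMap φ hX.1 hY.1 f c hc r hr hsq F) := by
  let S := FSch.toSchemeMor 𝔛 hX.1 c hc
  let S' := FSch.toSchemeMor 𝔜 hY.1 r hr
  let 𝔉 := BaseChangeFF.Fh hX c hc F
  haveI : SheafOfModules.IsFinitePresentation (R := ModSite.ringSh X.sheaf) F := isFinitePresentation_of_isCoh hF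
  have h𝔉 : FSch.IsCohF 𝔛 hX.1 𝔉 := H15Site.PullLocPres.isFinitePresentation_pull S F
  haveI : EnoughInjectives X.Modules := H10Coh.enoughInjMod X
  let Q := Scheme.Modules.pushforward f
  let Q' := FSch.pushF φ hX.1 hY.1
  haveI : Q.IsRightAdjoint := (Scheme.Modules.pullbackPushforwardAdjunction f).isRightAdjoint
  let z := Q.rightDerivedZeroIsoSelf
  let E : Q' ⋙ S'.push ≅ S.push ⋙ Q := (FSch.schPushSq φ hX.1 hY.1 f c hc r hr hsq).symm
  choose α hα using BaseChangeFF.exists_levelComp hX c hc T hT F hF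
  let P : ℕ → X.Modules := fun k => (Scheme.Modules.pushforward (c k)).obj ((pbSys c T F).F k)
  let η : ∀ k, F ⟶ P k := lvUnit c T F
  let t : ∀ k, P (k + 1) ⟶ P k := fun k => (α (k + 1)).inv ≫ S.push.map (L hX 𝔉 k) ≫ (α k).hom
  have ht : ∀ k, η (k + 1) ≫ t k = η k := fun k =>
    BaseChangeFF.step (S.push.map (L hX 𝔉 k)) ((Category.assoc _ _ _).trans (congrArg (S.adj.unit.app F ≫ ·)
      ((S.push.map_comp _ _).symm.trans (congrArg S.push.map (u_L hX 𝔉 k))))) (α (k + 1)) (α k) (hα (k + 1)) (hα k)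
  let N := Q'.obj 𝔉
  let ρ : Q.obj F ⟶ S'.push.obj N := Q.map (S.adj.unit.app F) ≫ E.inv.app 𝔉
  let β : ∀ k, Q.obj (P k) ≅ S'.push.obj (Q'.obj (G hX 𝔉 k)) := fun k =>
    Q.mapIso (α k).symm ≪≫ (E.app (G hX 𝔉 k)).symm
  have hρ : ∀ k, ρ ≫ S'.push.map (Q'.map (GrF.u hX 𝔉 k)) = Q.map (η k) ≫ (β k).hom := fun k =>
    BaseChangeFF.ρ_step S.push Q Q' S'.push E (S.adj.unit.app F) (GrF.u hX 𝔉 k) (α k) (η k) (hα k)
  have hβ : ∀ k, (β (k + 1)).hom ≫ S'.push.map (Q'.map (L hX 𝔉 k)) = Q.map (t k) ≫ (β k).hom := fun k =>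
    BaseChangeFF.β_step S.push Q Q' S'.push E (L hX 𝔉 k) (α (k + 1)) (α k)
  have hbs : ∀ k (V : Y.Opens), Function.Bijective ((β k).hom.app V) := fun k V =>
    Function.bijective_iff_has_inverse.2 ⟨(β k).inv.app V,
      fun z => congr($(congrArg (fun ψ => Scheme.Modules.Hom.app ψ V) (β k).hom_inv_id) z),
      fun z => congr($(congrArg (fun ψ => Scheme.Modules.Hom.app ψ V) (β k).inv_hom_id) z)⟩
  have hρs : ∀ k (V : Y.Opens) (m : Γ(Q.obj F, V)), secMap (Q'.map (GrF.u hX 𝔉 k)) (trOpen r V) ((ρ.val.app (op V)).hom m) =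
      (β k).hom.app V ((Q.map (η k)).app V m) := fun k V m =>
    congr($(congrArg (fun ψ => Scheme.Modules.Hom.app ψ V) (hρ k)) m)
  have hz1 : ∀ (M : X.Modules) (V : Y.Opens) (m : Γ((Q.rightDerived 0).obj M, V)),
      (z.inv.app M).app V ((z.hom.app M).app V m) = m := fun M V m =>
    congr($(congrArg (fun ψ => Scheme.Modules.Hom.app ψ V) (z.hom_inv_id_app M)) m)
  have hz2 : ∀ (M : X.Modules) (V : Y.Opens) (m : Γ(Q.obj M, V)),
      (z.hom.app M).app V ((z.inv.app M).app V m) = m := fun M V m =>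
    congr($(congrArg (fun ψ => Scheme.Modules.Hom.app ψ V) (z.inv_hom_id_app M)) m)
  have hzn : ∀ {M M' : X.Modules} (ψ : M ⟶ M') (V : Y.Opens) (m : Γ(Q.obj M, V)),
      ((Q.rightDerived 0).map ψ).app V ((z.inv.app M).app V m) = (z.inv.app M').app V ((Q.map ψ).app V m) := fun {M M'} ψ V m =>
    congr($(congrArg (fun η => Scheme.Modules.Hom.app η V) (z.inv.naturality ψ)) m).symm
  have hcohP : ∀ k, Coh.IsCoh (P k) := fun k =>
    H10Coh.isCoh_push_of_isFinite (c k) _ (H17.ConsProp.isCoh_pullback _ hF)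
  have hFF := fun (V : Y.Opens) (hV : IsAffineOpen V) =>
    TruncFormal.exists_formalFun f hV (𝓘.ideal ⟨V, hV⟩) hF hcohP η t ht (fun k W hW l => by
      obtain ⟨h1, h2⟩ := BaseChangeFF.lvUnit_isQuot hX c hc T F hF 𝓚 hc𝓚 k W hW
      exact ⟨h1, fun w => by rw [← h𝓚 V hV W hW l]; exact h2 w⟩) 0
  haveI := hφ.2
  haveI := BaseChangeCrit.isIso_ψ hY r hr T' hT' 𝓘 hr𝓘 (Q.obj F) (H24GE.isCoh_pushforward f hF) N
    (fun k => Q'.obj (G hX 𝔉 k)) (fun k => Q'.map (GrF.u hX 𝔉 k)) (fun k => Q'.map (L hX 𝔉 k))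
    (fun k => (Q'.map_comp _ _).symm.trans (congrArg Q'.map (u_L hX 𝔉 k)))
    (fun k => isLevel_push hX hY φ inferInstance 𝔉 h𝔉 k)
    (fun A _ x hx => eq_zero_of_levels hX 𝔉 h𝔉 _ x hx) (fun A _ w hw => exists_of_levels hX 𝔉 h𝔉 _ w hw) ρ
    (fun V hV => by
      obtain ⟨⟨d, hd⟩, -⟩ := hFF V hV
      refine ⟨d, fun k hk m hm => ?_⟩
      have h0 := hd k hk ((z.inv.app F).app V m) ((hzn (η k) V m).trans ((congrArg ((z.inv.app (P k)).app V)
        ((hbs k V).1 ((hρs k V m).symm.trans (hm.trans (map_zero _).symm)))).trans (map_zero _)))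
      have h1 := TruncFormal.map_mem_pow (𝓘.ideal ⟨V, hV⟩)
        (linApp (z.hom.app F) V) h0
      exact (hz2 F V m) ▸ h1)
    (fun V hV w hw => by
      obtain ⟨-, hd⟩ := hFF V hV
      choose v hv using fun k => (hbs k V).2 (w k)
      have hvc : ∀ k, (Q.map (t k)).app V (v (k + 1)) = v k := fun k =>
        (hbs k V).1 ((congr($(congrArg (fun ψ => Scheme.Modules.Hom.app ψ V) (hβ k)) (v (k + 1)))).symm.trans
          (((congrArg (secMap (Q'.map (L hX 𝔉 k)) (trOpen r V)) (hv (k + 1))).trans (hw k)).trans (hv k).symm))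
      obtain ⟨b, hb⟩ := hd (fun k => (z.inv.app (P k)).app V (v k)) fun k =>
        (hzn (t k) V (v (k + 1))).trans (congrArg _ (hvc k))
      refine ⟨TruncFormal.mapCauchy _ (linApp (z.hom.app F) V) b, fun k => ?_⟩
      refine (hρs k V _).trans ((congrArg _ ?_).trans (hv k))
      have h0 : (z.inv.app (P k)).app V ((Q.map (η k)).app V ((z.hom.app F).app V (b (k + 1)))) =
          (z.inv.app (P k)).app V (v k) := (hzn (η k) V _).symm.trans ((congrArg _ (hz1 F V _)).trans (hb k))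
      exact (hz2 _ V _).symm.trans ((congrArg _ h0).trans (hz2 _ V _)))
  exact ‹IsIso (BaseChangeCrit.ψ hY r hr (Q.obj F) N ρ)›

end Groth.Agent.H24Formal3.BaseChangeZero
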