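import Groth.Agent.H24Formal3.LevelPresheaf
import Groth.Agent.H24FMod.GrLim

/-!
# The cohomology presheaves of the levels of a coherent module on a formal scheme
-/

set_option autoImplicit false
set_option linter.style.haveILetI false
set_option linter.unusedSectionVars false

universe u

attribute [-instance] CategoryTheory.catToReflQuiver

open AlgebraicGeometry CategoryTheory CategoryTheory.Limits TopologicalSpace Opposite CategoryTheory.Abelian

namespace Groth.Agent.H24Formal3.FormalLevels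

attribute [local instance 10000] H15Site.SiteInst.hasSheafifySite H15Site.SiteInst.hasWeakSheafifySite
  H15Site.SiteInst.hasExtSite H15Site.SiteInst.enoughInjSite

open ModRpush H24FMod.GrF

variable {𝔛 𝔜 : FSch.Sys.{u}} (hX : 𝔛.IsLocNoethFormal) (hY : 𝔜.IsLocNoethFormal) (f : 𝔛 ⟶ 𝔜)

theorem isClosedEmbedding_gInv (k : ℕ) : Topology.IsClosedEmbedding (𝔛.gInv hX.1 k) :=
  (TopCat.homeoOfIso (asIso (𝔛.gInv hX.1 k))).isClosedEmbedding

/-- The abelian sheaf of a level. -/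
noncomputable abbrev shG (𝔉 : FSch.ModF 𝔛 hX.1) (k : ℕ) :
    Sheaf (Opens.grothendieckTopology (𝔛.X 0)) AddCommGrpCat.{u} :=
  (SheafOfModules.toSheaf.{u} (ModSite.ringSh (𝔛.Osh hX.1))).obj (G hX 𝔉 k)

/-- The abelian sheaf of the transition. -/
noncomputable abbrev shL (𝔉 : FSch.ModF 𝔛 hX.1) (k : ℕ) : shG hX 𝔉 (k + 1) ⟶ shG hX 𝔉 k :=
  (SheafOfModules.toSheaf.{u} (ModSite.ringSh (𝔛.Osh hX.1))).map (L hX 𝔉 k)

include hX hY in
theorem quasiCompact_app (hqc : QuasiCompact ((f : FSch.Hom 𝔛 𝔜).app 0)) (k : ℕ) :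
    QuasiCompact ((f : FSch.Hom 𝔛 𝔜).app k) := by
  refine ⟨fun U hU hc => ?_⟩
  haveI := 𝔜.toX_isClosedImmersion hY.1 k
  have h1 : IsCompact ((𝔜.toX k).base ⁻¹' U) := (𝔜.toX k).isClosedEmbedding.isCompact_preimage hc
  have h2 := hqc.isCompact_preimage _ (hU.preimage (𝔜.toX k).continuous) h1
  have h3 := h2.image (𝔛.toX k).continuous
  convert h3 using 1
  rw [← Set.preimage_comp, show (𝔜.toX k).base ∘ ((f : FSch.Hom 𝔛 𝔜).app 0).base =
    ((f : FSch.Hom 𝔛 𝔜).app k).base ∘ (𝔛.toX k).base from funext fun x =>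
      congr($(FSch.Hom.toX_comm f k).base x).symm, Set.preimage_comp]
  exact (Set.image_preimage_eq _ (𝔛.toX_surjective hX.1 k)).symm

include hX in
theorem quasiSeparated_app (k : ℕ) : QuasiSeparated ((f : FSch.Hom 𝔛 𝔜).app k) := by
  haveI := hX.2.2 k
  infer_instance

variable (𝔉 : FSch.ModF 𝔛 hX.1) (h𝔉 : FSch.IsCohF 𝔛 hX.1 𝔉)

include h𝔉 in
theorem qcoh_level (k : ℕ) :
    ((H24FMod.pullSys hX 𝔉).F k).IsQuasicoherent :=
  (H24FMod.isCoh_pullSys hX h𝔉 k).1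

include h𝔉 in
/-- The levels are acyclic on affine opens. -/
theorem subsingleton_HU_G (k : ℕ) (U : (𝔛.X 0).Opens) (hU : IsAffineOpen U) (p : ℕ) :
    Subsingleton (CohSite.HU (shG hX 𝔉 k) (p + 1) U) := by
  haveI := qcoh_level hX 𝔉 h𝔉 k
  have h := LevelPresheaf.subsingleton_hP_of_affine ((H24FMod.pullSys hX 𝔉).F k) (𝔛.gInv hX.1 k)
    (isClosedEmbedding_gInv hX k) U (H24FMod.isAffineOpen_lvU hX hU k) p
  obtain ⟨E, -⟩ := exists_ev (J := Opens.grothendieckTopology (𝔛.X 0)) U (p + 1)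
  haveI : Subsingleton (((hP (Opens.grothendieckTopology (𝔛.X 0)) (p + 1)).obj (shG hX 𝔉 k)).obj (op U)) := h
  exact (E (shG hX 𝔉 k)).symm.toEquiv.subsingleton

include h𝔉 in
theorem acyc_G (k : ℕ) : H24FMod.LimH.Acyc {U : (𝔛.X 0).Opens | IsAffineOpen U} (shG hX 𝔉 k) :=
  fun U hU p => subsingleton_HU_G hX 𝔉 h𝔉 k U hU p

/-- The pushed cohomology presheaf of a level. -/
noncomputable abbrev P (q k : ℕ) : ((𝔜.X 0).Opens)ᵒᵖ ⥤ AddCommGrpCat.{u} :=
  (Opens.map ((f : FSch.Hom 𝔛 𝔜).app 0).base).op ⋙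
    (hP (Opens.grothendieckTopology (𝔛.X 0)) q).obj (shG hX 𝔉 k)

include hY h𝔉 in
/-- The pushed cohomology presheaf of a level agrees with its sheafification on affine opens. -/
theorem bijective_toSheafify_P (hqc : QuasiCompact ((f : FSch.Hom 𝔛 𝔜).app 0)) (q k : ℕ) (V : (𝔜.X 0).Opens)
    (hV : IsAffineOpen V) :
    Function.Bijective ((toSheafify (Opens.grothendieckTopology (𝔜.X 0)) (P hX f 𝔉 q k)).app (op V)).hom := by
  cases q with
  | zero =>
    let Φ := sheafToPresheaf (Opens.grothendieckTopology (𝔛.X 0)) AddCommGrpCat.{u}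
    haveI : Φ.Additive := additive_sheafToPresheaf
    let e : P hX f 𝔉 0 k ≅ ((CohSite.push (Opens.grothendieckTopology (𝔛.X 0)) (Opens.grothendieckTopology (𝔜.X 0))
        (Opens.map ((f : FSch.Hom 𝔛 𝔜).app 0).base)).obj (shG hX 𝔉 k)).obj :=
      Functor.isoWhiskerLeft _ (Φ.rightDerivedZeroIsoSelf.app (shG hX 𝔉 k))
    haveI := isIso_toSheafify (Opens.grothendieckTopology (𝔜.X 0))
      ((Presheaf.isSheaf_of_iso_iff e).2 ((CohSite.push _ _ _).obj (shG hX 𝔉 k)).property)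
    exact ConcreteCategory.bijective_of_isIso
      ((toSheafify (Opens.grothendieckTopology (𝔜.X 0)) (P hX f 𝔉 0 k)).app (op V))
  | succ n =>
    haveI := quasiCompact_app hX hY f hqc k
    haveI := quasiSeparated_app hX f k
    haveI := qcoh_level hX 𝔉 h𝔉 k
    refine LevelPresheaf.bijective_toSheafify_hP ((f : FSch.Hom 𝔛 𝔜).app k) ((H24FMod.pullSys hX 𝔉).F k)
      (𝔛.gInv hX.1 k) (isClosedEmbedding_gInv hX k) (𝔜.gInv hY.1 k) (Opens.map ((f : FSch.Hom 𝔛 𝔜).app 0).base)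
      (fun W => (FSch.Hom.lvU_preimage f hX.1 hY.1 k W).symm) (fun W => ?_) n V (H24FMod.isAffineOpen_lvU hY hV k)
    obtain ⟨κ, Y, g, hg, hYB⟩ := H24FMod.LimTop.isCovering_of_isBasis (𝔜.X 0).isBasis_affineOpens W
    exact ⟨κ, Y, g, hg, fun i => H24FMod.isAffineOpen_lvU hY (hYB i) k⟩

end Groth.Agent.H24Formal3.FormalLevels
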