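import Groth.Agent.H24Formal3.StableAt
import Groth.Agent.H24Formal3.FormalLevels

/-!
# Cohomology over an open of the limit of the levels
-/

set_option autoImplicit false
set_option linter.style.haveILetI false
set_option linter.unusedSectionVars false

universe u

open CategoryTheory CategoryTheory.Limits Opposite CategoryTheory.Abelian

namespace Groth.Agent.H24Formal3.BijExt

open H24FMod

attribute [local instance 10000] H15Site.SiteInst.hasSheafifySite H15Site.SiteInst.hasWeakSheafifySite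
  H15Site.SiteInst.hasExtSite H15Site.SiteInst.enoughInjSite

variable {C : Type u} [SmallCategory C] {Jt : GrothendieckTopology C} (F : ℕᵒᵖ ⥤ Sheaf Jt AddCommGrpCat.{u})
  {B : Set C} (hB : LimH.IsCovering Jt B) (hF : ∀ n, LimH.Acyc B (F.obj (op n)))
  (hs : ∀ U ∈ B, ∀ n, Function.Surjective ((LimH.trans F n).hom.app (op U)).hom)
  {pt : Sheaf Jt AddCommGrpCat.{u}} (i : pt ≅ limit F) (u : ∀ k, pt ⟶ F.obj (op k))
  (hu : ∀ k, i.hom ≫ limit.π F (op k) = u k) (Q : Sheaf Jt AddCommGrpCat.{u})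

include hB hF hs hu in
theorem bijective_ext (p : ℕ)
    (hML : ∀ q, ((F ⋙ extFunctorObj Q q) ⋙ forget AddCommGrpCat).IsMittagLeffler) :
    (∀ x : Ext.{u} Q pt p, (∀ k, x.comp (Ext.mk₀ (u k)) (add_zero p) = 0) → x = 0) ∧
      (∀ y : ∀ k, Ext.{u} Q (F.obj (op k)) p,
        (∀ k, (y (k + 1)).comp (Ext.mk₀ (LimH.trans F k)) (add_zero p) = y k) →
        ∃ x : Ext.{u} Q pt p, ∀ k, x.comp (Ext.mk₀ (u k)) (add_zero p) = y k) := by
  have hcomp : ∀ (x : Ext.{u} Q pt p) (k : ℕ),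
      (x.comp (Ext.mk₀ i.hom) (add_zero p)).comp (Ext.mk₀ (limit.π F (op k))) (add_zero p) =
        x.comp (Ext.mk₀ (u k)) (add_zero p) := fun x k => by
    rw [Ext.comp_assoc_of_second_deg_zero, Ext.mk₀_comp_mk₀, hu k]
  refine ⟨fun x hx => ?_, fun y hy => ?_⟩
  · have h0 : x.comp (Ext.mk₀ i.hom) (add_zero p) = 0 := by
      cases p with
      | zero => exact LimH.eq_zero_zero F hB hF hs Q _ fun k => (hcomp x k).trans (hx k)
      | succ q =>
        refine LimH.eq_zero_of_limOne F hB hF hs Q q (fun z => ?_) _ fun k => (hcomp x k).trans (hx k)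
        exact MLOne.exists_limOne_of_isMittagLeffler (F ⋙ extFunctorObj Q q) (hML q) z
    have h2 := congrArg (fun z => Ext.comp z (Ext.mk₀ i.inv) (add_zero p)) h0
    simpa using h2
  · obtain ⟨η, hη⟩ := LimH.exists_lift F hB hF hs Q p y hy
    refine ⟨η.comp (Ext.mk₀ i.inv) (add_zero p), fun k => ?_⟩
    refine (hcomp _ k).symm.trans ?_
    rw [Ext.comp_assoc_of_second_deg_zero η, Ext.mk₀_comp_mk₀, Iso.inv_hom_id, Ext.comp_mk₀_id]
    exact hη k

end Groth.Agent.H24Formal3.BijExt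

namespace Groth.Agent.H24Formal3.BijLevels

attribute [-instance] CategoryTheory.catToReflQuiver

open AlgebraicGeometry TopologicalSpace H24FMod H24FMod.GrF FormalLevels

attribute [local instance 10000] H15Site.SiteInst.hasSheafifySite H15Site.SiteInst.hasWeakSheafifySite
  H15Site.SiteInst.hasExtSite H15Site.SiteInst.enoughInjSite

variable {𝔛 𝔜 : FSch.Sys.{u}} (hX : 𝔛.IsLocNoethFormal) (hY : 𝔜.IsLocNoethFormal) (f : 𝔛 ⟶ 𝔜)
  (hf : FSch.IsProperHom f) (𝔉 : FSch.ModF 𝔛 hX.1) (h𝔉 : FSch.IsCohF 𝔛 hX.1 𝔉)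

/-- The abelian sheaf of the module. -/
noncomputable abbrev shF : Sheaf (Opens.grothendieckTopology (𝔛.X 0)) AddCommGrpCat.{u} :=
  (SheafOfModules.toSheaf.{u} (ModSite.ringSh (𝔛.Osh hX.1))).obj 𝔉

/-- The abelian sheaf of the projection. -/
noncomputable abbrev shu (k : ℕ) : shF hX 𝔉 ⟶ shG hX 𝔉 k :=
  (SheafOfModules.toSheaf.{u} (ModSite.ringSh (𝔛.Osh hX.1))).map (GrF.u hX 𝔉 k)

include hY hf h𝔉 in
/-- Cohomology over the preimage of an affine open is the limit over the levels. -/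
theorem bijective_toLevels (V : (𝔜.X 0).Opens) (hV : IsAffineOpen V) (p : ℕ) :
    (∀ x : Ext.{u} (CohCx.freeSheaf (Opens.grothendieckTopology (𝔛.X 0)) ((f : FSch.Hom 𝔛 𝔜).app 0 ⁻¹ᵁ V)) (shF hX 𝔉) p,
      (∀ k, x.comp (Ext.mk₀ (shu hX 𝔉 k)) (add_zero p) = 0) → x = 0) ∧
    (∀ y : ∀ k, Ext.{u} (CohCx.freeSheaf (Opens.grothendieckTopology (𝔛.X 0)) ((f : FSch.Hom 𝔛 𝔜).app 0 ⁻¹ᵁ V))
        (shG hX 𝔉 k) p,
      (∀ k, (y (k + 1)).comp (Ext.mk₀ (shL hX 𝔉 k)) (add_zero p) = y k) →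
      ∃ x : Ext.{u} (CohCx.freeSheaf (Opens.grothendieckTopology (𝔛.X 0)) ((f : FSch.Hom 𝔛 𝔜).app 0 ⁻¹ᵁ V)) (shF hX 𝔉) p,
        ∀ k, x.comp (Ext.mk₀ (shu hX 𝔉 k)) (add_zero p) = y k) := by
  let T := SheafOfModules.toSheaf.{u} (ModSite.ringSh (𝔛.Osh hX.1))
  obtain ⟨e, he⟩ := GrF.exists_iso_limit hX 𝔉 h𝔉
  haveI := GrLimit.preservesLimit_seq (Functor.ofOpSequence (L hX 𝔉))
  let F := Functor.ofOpSequence (L hX 𝔉) ⋙ T
  have htr : ∀ k, LimH.trans F k = shL hX 𝔉 k := fun k =>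
    congrArg T.map (Functor.ofOpSequence_map_homOfLE_succ (L hX 𝔉) k)
  let Q := CohCx.freeSheaf (Opens.grothendieckTopology (𝔛.X 0)) ((f : FSch.Hom 𝔛 𝔜).app 0 ⁻¹ᵁ V)
  have hML : ∀ q, ((F ⋙ extFunctorObj Q q) ⋙ forget AddCommGrpCat).IsMittagLeffler := fun q => by
    obtain ⟨c, hc⟩ := StableAt.exists_stable hX hY f hf 𝔉 h𝔉 V hV q
    let η : StableAt.extSys Q (shG hX 𝔉) (shL hX 𝔉) q ⟶ F ⋙ extFunctorObj Q q :=
      NatTrans.ofOpSequence (fun k => AddCommGrpCat.ofHom (AddMonoidHom.id (Ext.{u} Q (shG hX 𝔉 k) q))) fun k => by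
        ext (x : Ext.{u} Q (shG hX 𝔉 (k + 1)) q)
        exact (congr($(Functor.ofOpSequence_map_homOfLE_succ (X := fun k => AddCommGrpCat.of (Ext.{u} Q (shG hX 𝔉 k) q))
          (fun k => AddCommGrpCat.ofHom ((Ext.mk₀ (shL hX 𝔉 k)).postcomp Q (add_zero q))) k) x)).trans
          (congrArg (fun z => Ext.comp x (Ext.mk₀ z) (add_zero q)) (htr k).symm)
    refine (H16Derived.ML.isMittagLeffler_iff_ab _).2 fun n => ⟨n + c, Nat.le_add_right n c, fun k hk x => ?_⟩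
    obtain ⟨y, hy⟩ := hc n k hk x
    refine ⟨y, (congr($(η.naturality (homOfLE ((Nat.le_add_right n c).trans hk)).op) y)).symm.trans (hy.trans ?_)⟩
    exact congr($(η.naturality (homOfLE (Nat.le_add_right n c)).op) x)
  obtain ⟨h1, h2⟩ := BijExt.bijective_ext F (LimTop.isCovering_of_isBasis (𝔛.X 0).isBasis_affineOpens)
    (acyc_G hX 𝔉 h𝔉) (fun U hU k => by rw [htr]; exact GrF.surjective_L hX 𝔉 h𝔉 U hU k)
    (T.mapIso e ≪≫ preservesLimitIso T _) (shu hX 𝔉)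
    (fun k => by
      refine (Category.assoc _ _ _).trans ?_
      refine (congrArg (T.map e.hom ≫ ·) (preservesLimitIso_hom_π T (Functor.ofOpSequence (L hX 𝔉)) (op k))).trans ?_
      exact (T.map_comp _ _).symm.trans (congrArg T.map (he k))) Q p hML
  refine ⟨h1, fun y hy => h2 y fun k => ?_⟩
  rw [htr]
  exact hy k

end Groth.Agent.H24Formal3.BijLevels
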