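import Groth.Agent.H24FSch.Sub
import Groth.Agent.H24FSch.Kernels
import Groth.Agent.H24FSch.Basic
import Groth.Agent.S3868
import Groth.Prelude.Def_FSch4
import Groth.Prelude.Def_FSch5

/-!
# A morphism of formal schemes over an affine open of the target
-/

set_option autoImplicit false
set_option linter.style.haveILetI false
set_option linter.unusedSectionVars false

universe u

open AlgebraicGeometry CategoryTheory CategoryTheory.Limits

namespace Groth.Agent.H24Formal3.Chart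

variable {𝔛 𝔜 : FSch.Sys.{u}}

theorem isLocNoethFormal_restrictOpen (h : 𝔛.IsLocNoethFormal) (U : (𝔛.X 0).Opens) :
    (𝔛.restrictOpen h.1 U).IsLocNoethFormal := by
  haveI := h.2.2 0
  haveI : IsLocallyNoetherian ((𝔛.restrictOpen h.1 U).X 0) :=
    inferInstanceAs (IsLocallyNoetherian (𝔛.lvU h.1 0 U : (𝔛.X 0).Opens).toScheme)
  exact H24FSch.isLocNoethFormal_of_isAdicHom _ h (H24FSch.isAdicHom_restrictOpenι 𝔛 h.1 U)

theorem isAdicHom_restrictOpen (hX : 𝔛.IsFormal) (hY : 𝔜.IsFormal) (f : 𝔛 ⟶ 𝔜) (hf : FSch.IsAdicHom f)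
    (V : (𝔜.X 0).Opens) : FSch.IsAdicHom (FSch.Hom.restrictOpen f hX hY V) := fun n => by
  refine IsPullback.of_bot ?_ ((FSch.Hom.restrictOpen f hX hY V : FSch.Hom _ _).comm n).symm
    (H24FSch.isAdicHom_restrictOpenι 𝔜 hY V n)
  have h1 := (H24FSch.isAdicHom_restrictOpenι 𝔛 hX ((f : FSch.Hom 𝔛 𝔜).app 0 ⁻¹ᵁ V) n).paste_vert (hf n)
  have e : ∀ k, ((FSch.Hom.restrictOpen f hX hY V : FSch.Hom _ _).app k) ≫
      ((𝔜.restrictOpenι hY V : FSch.Hom _ _).app k) =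
      ((𝔛.restrictOpenι hX ((f : FSch.Hom 𝔛 𝔜).app 0 ⁻¹ᵁ V) : FSch.Hom _ _).app k) ≫ (f : FSch.Hom 𝔛 𝔜).app k :=
    fun k => congrArg (fun φ : FSch.Hom _ _ => φ.app k) (FSch.Hom.restrictOpen_ι f hX hY V)
  rw [← e n, ← e (n + 1)] at h1
  exact h1

theorem isProper_restrictOpen (hX : 𝔛.IsFormal) (hY : 𝔜.IsFormal) (f : 𝔛 ⟶ 𝔜)
    (hf : IsProper ((f : FSch.Hom 𝔛 𝔜).app 0)) (V : (𝔜.X 0).Opens) :
    IsProper ((FSch.Hom.restrictOpen f hX hY V : FSch.Hom _ _).app 0) :=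
  (MorphismProperty.of_isPullback
    (H24FSch.isPullback_resLE_of_eq ((f : FSch.Hom 𝔛 𝔜).app 0) (𝔜.lvU hY 0 V) _
      (FSch.Hom.lvU_preimage f hX hY 0 V)) hf :)

/-- An affine open of a locally Noetherian formal scheme is a formal spectrum. -/
theorem exists_spf (hY : 𝔜.IsLocNoethFormal) (V : (𝔜.X 0).Opens) (hV : IsAffineOpen V) :
    ∃ (A : Type u) (_ : CommRing A) (J : Ideal A),
      IsNoetherianRing A ∧ IsAdicComplete J A ∧ Nonempty (𝔜.restrictOpen hY.1 V ≅ FSch.spf A J) := by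
  have hY' := isLocNoethFormal_restrictOpen hY V
  haveI : IsAffine ((𝔜.restrictOpen hY.1 V).X 0) := by
    show IsAffine (𝔜.lvU hY.1 0 V : (𝔜.X 0).Opens).toScheme
    have h0 : 𝔜.lvU hY.1 0 V = V := by
      show (TopologicalSpace.Opens.map (𝔜.gInv hY.1 0)).obj V = V
      rw [show 𝔜.gInv hY.1 0 = 𝟙 _ from (Category.comp_id _).symm.trans (𝔜.gInv_toX_base hY.1 0)]
      rfl
    rw [h0]
    exact hV
  haveI := hY'.2.2 0
  haveI := hY'.2.2 1
  exact S3868.result _ hY'.1 hY'.2.1 (H24FSch.idealFT_of_isLocallyNoetherian _)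

/-- The chart of a proper morphism over an affine open of the target. -/
theorem exists_chart (hX : 𝔛.IsLocNoethFormal) (hY : 𝔜.IsLocNoethFormal) (f : 𝔛 ⟶ 𝔜) (hf : FSch.IsProperHom f)
    (V : (𝔜.X 0).Opens) (hV : IsAffineOpen V) :
    ∃ (A : Type u) (_ : CommRing A) (J : Ideal A) (g : 𝔛.restrictOpen hX.1 ((f : FSch.Hom 𝔛 𝔜).app 0 ⁻¹ᵁ V) ⟶ FSch.spf A J)
      (e : 𝔜.restrictOpen hY.1 V ≅ FSch.spf A J),
      IsNoetherianRing A ∧ IsAdicComplete J A ∧ FSch.IsProperHom g ∧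
        g = FSch.Hom.restrictOpen f hX.1 hY.1 V ≫ e.hom := by
  obtain ⟨A, _, J, hA, hc, ⟨e⟩⟩ := exists_spf hY V hV
  refine ⟨A, _, J, _, e, hA, hc, ⟨fun n => ?_, ?_⟩, rfl⟩
  · haveI : ∀ k, IsIso ((e.hom : FSch.Hom _ _).app k) := fun k =>
      ⟨(e.inv : FSch.Hom _ _).app k, congrArg (fun φ : FSch.Hom _ _ => φ.app k) e.hom_inv_id,
        congrArg (fun φ : FSch.Hom _ _ => φ.app k) e.inv_hom_id⟩
    exact (isAdicHom_restrictOpen hX.1 hY.1 f hf.1 V n).paste_vert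
      (IsPullback.of_vert_isIso ⟨((e.hom : FSch.Hom _ _).comm n).symm⟩)
  · haveI := isProper_restrictOpen hX.1 hY.1 f hf.2 V
    haveI : IsIso ((e.hom : FSch.Hom _ _).app 0) :=
      ⟨(e.inv : FSch.Hom _ _).app 0, congrArg (fun φ : FSch.Hom _ _ => φ.app 0) e.hom_inv_id,
        congrArg (fun φ : FSch.Hom _ _ => φ.app 0) e.inv_hom_id⟩
    show IsProper ((FSch.Hom.restrictOpen f hX.1 hY.1 V : FSch.Hom _ _).app 0 ≫ (e.hom : FSch.Hom _ _).app 0)
    infer_instance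

end Groth.Agent.H24Formal3.Chart
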