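import Groth.Agent.H17.PullSectLocal
import Groth.Agent.H17.ConsModModels
import Groth.Agent.H24GE.PushLim
import Groth.Agent.H29Fitt.Sheaf

/-!
For a proper `g : X' ⟶ Y` that is an isomorphism over the basic opens `D(m)`, `m ∈ J`, of an affine open `W`,
a power of `J` kills kernel and cokernel of the unit `G ⟶ g_* g^* G` over `W`.
-/

set_option autoImplicit false
set_option linter.style.haveILetI false
universe u

open CategoryTheory CategoryTheory.Limits AlgebraicGeometry Opposite TopologicalSpace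

namespace Groth.Agent.H24Formal3.UnitKill

theorem exists_pow_smul_mem {R M : Type*} [CommRing R] [IsNoetherianRing R] [AddCommGroup M] [Module R M]
    [Module.Finite R M] (J : Ideal R) (N : Submodule R M) (h : ∀ m ∈ J, ∀ y : M, ∃ j : ℕ, m ^ j • y ∈ N) :
    ∃ n : ℕ, ∀ a ∈ J ^ n, ∀ y : M, a • y ∈ N := by
  obtain ⟨S, hS⟩ := Module.Finite.fg_top (R := R) (M := M)
  have hr : J ≤ (N.colon (⊤ : Submodule R M)).radical := fun m hm => by
    choose j hj using h m hm
    refine ⟨S.sup j, Submodule.mem_colon.mpr fun y _ => ?_⟩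
    have hy : y ∈ Submodule.span R (S : Set M) := hS ▸ Submodule.mem_top
    refine Submodule.span_induction (p := fun y _ => m ^ S.sup j • y ∈ N) (fun x hx => ?_) ?_ ?_ ?_ hy
    · obtain ⟨k, hk⟩ := Nat.exists_eq_add_of_le (Finset.le_sup (f := j) hx)
      rw [hk, add_comm, pow_add, mul_smul]
      exact N.smul_mem _ (hj x)
    · rw [smul_zero]; exact N.zero_mem
    · intro x y _ _ hx hy; rw [smul_add]; exact N.add_mem hx hy
    · intro r x _ hx; rw [smul_comm]; exact N.smul_mem _ hx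
  obtain ⟨n, hn⟩ := Ideal.exists_pow_le_of_le_radical_of_fg hr (IsNoetherian.noetherian J)
  exact ⟨n, fun a ha y => Submodule.mem_colon.mp (hn ha) y trivial⟩

theorem bijective_pullSect_of_isIso_morphismRestrict {X' Y : Scheme.{u}} (g : X' ⟶ Y) (V : Y.Opens)
    [IsIso (g ∣_ V)] (M : Y.Modules) {W : Y.Opens} (hW : W ≤ V) :
    Function.Bijective (OmegaSh.pullSect g M W) := by
  haveI : IsOpenImmersion ((g ⁻¹ᵁ V).ι ≫ g) := by rw [← morphismRestrict_ι]; infer_instance
  have hr : ((g ⁻¹ᵁ V).ι ≫ g).opensRange = V := by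
    apply Opens.ext
    show Set.range ((g ⁻¹ᵁ V).ι ≫ g) = (V : Set Y)
    rw [← morphismRestrict_ι]
    simp only [Scheme.Hom.comp_base, TopCat.coe_comp]
    rw [Set.range_comp, Set.range_eq_univ.mpr (g ∣_ V).surjective, Set.image_univ]
    exact Scheme.Opens.range_ι V
  have key := H17.PullSect.pullSect_comp (g ⁻¹ᵁ V).ι g M W
  have h1 := H17.PullSect.bijective_pullSect ((g ⁻¹ᵁ V).ι ≫ g) M (W := W) (hW.trans hr.ge)
  have h2 := H17.PullSect.bijective_pullSect (g ⁻¹ᵁ V).ι ((Scheme.Modules.pullback g).obj M) (W := g ⁻¹ᵁ W)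
    (by rw [Scheme.Opens.opensRange_ι]; exact g.preimage_mono hW)
  have h3 := H17.PullSect.bijective_app ((Scheme.Modules.pullbackComp (g ⁻¹ᵁ V).ι g).inv.app M)
    (((g ⁻¹ᵁ V).ι ≫ g) ⁻¹ᵁ W)
  have h4 := h3.comp h1
  rw [show (_ ∘ _) = _ ∘ (OmegaSh.pullSect g M W) from funext key] at h4
  exact (Function.Bijective.of_comp_iff' h2 _).mp h4

variable {X' Y : Scheme.{u}} [IsLocallyNoetherian Y]

theorem exists_pow_kill_of_bijective {W : Y.Opens} (hW : IsAffineOpen W) (J : Ideal Γ(Y, W))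
    {G F : Y.Modules} (hG : Coh.IsCoh G) (hF : Coh.IsCoh F) (η : G ⟶ F)
    (hbij : ∀ m ∈ J, Function.Bijective (η.app (Y.basicOpen m))) :
    ∃ n : ℕ, ∀ a ∈ J ^ n, (∀ x : Γ(G, W), η.app W x = 0 → a • x = 0) ∧
      (∀ y : Γ(F, W), ∃ x : Γ(G, W), η.app W x = a • y) := by
  haveI : IsNoetherianRing Γ(Y, W) := IsLocallyNoetherian.component_noetherian ⟨W, hW⟩
  haveI := ((H10Coh.isCoh_iff_finite_sections G).1 hG).2 W hW
  haveI := ((H10Coh.isCoh_iff_finite_sections F).1 hF).2 W hW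
  let L : Γ(G, W) →ₗ[Γ(Y, W)] Γ(F, W) :=
    { toFun := η.app W
      map_add' := map_add _
      map_smul' := fun r x => Scheme.Modules.Hom.app_smul _ r x }
  haveI : Module.Finite Γ(Y, W) (LinearMap.ker L) := inferInstance
  have hres : ∀ (m : Γ(Y, W)) (x : Γ(G, W)), η.app (Y.basicOpen m) (H29Fitt.resLin G m x) =
      H29Fitt.resLin F m (η.app W x) := fun m x => congr($(η.mapPresheaf.naturality (homOfLE (Y.basicOpen_le m)).op) x)
  have hker : ∀ m ∈ J, ∀ x : LinearMap.ker L, ∃ j : ℕ, m ^ j • x ∈ (⊥ : Submodule Γ(Y, W) (LinearMap.ker L)) := by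
    intro m hm x
    letI := Module.compHom Γ(G, Y.basicOpen m) (algebraMap Γ(Y, W) Γ(Y, Y.basicOpen m))
    haveI := H29Fitt.isLocalizedModule_resLin G hG.1 hW m
    have h0 : H29Fitt.resLin G m x.1 = H29Fitt.resLin G m 0 := (hbij m hm).1 (by
      rw [hres, show η.app W x.1 = 0 from x.2, map_zero, map_zero, map_zero])
    obtain ⟨⟨_, j, rfl⟩, hc⟩ := IsLocalizedModule.exists_of_eq (S := Submonoid.powers m) h0
    exact ⟨j, (Submodule.mem_bot _).mpr (Subtype.ext (by simpa [Submonoid.smul_def] using hc))⟩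
  have hcok : ∀ m ∈ J, ∀ y : Γ(F, W), ∃ j : ℕ, m ^ j • y ∈ LinearMap.range L := by
    intro m hm y
    letI := Module.compHom Γ(G, Y.basicOpen m) (algebraMap Γ(Y, W) Γ(Y, Y.basicOpen m))
    letI := Module.compHom Γ(F, Y.basicOpen m) (algebraMap Γ(Y, W) Γ(Y, Y.basicOpen m))
    haveI := H29Fitt.isLocalizedModule_resLin G hG.1 hW m
    haveI := H29Fitt.isLocalizedModule_resLin F hF.1 hW m
    obtain ⟨x', hx'⟩ := (hbij m hm).2 (H29Fitt.resLin F m y)
    obtain ⟨⟨x, ⟨_, k, rfl⟩⟩, hxk⟩ := IsLocalizedModule.surj (Submonoid.powers m) (H29Fitt.resLin G m) x'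
    have h0 : H29Fitt.resLin F m (η.app W x) = H29Fitt.resLin F m (m ^ k • y) := by
      rw [← hres, ← hxk, LinearMap.map_smul, ← hx']
      exact Scheme.Modules.Hom.app_smul η _ x'
    obtain ⟨⟨_, j, rfl⟩, hc⟩ := IsLocalizedModule.exists_of_eq (S := Submonoid.powers m) h0
    refine ⟨j + k, m ^ j • x, ?_⟩
    rw [pow_add, mul_smul]
    simp only [Submonoid.smul_def] at hc
    exact (L.map_smul _ _).trans hc
  obtain ⟨n₁, h₁⟩ := exists_pow_smul_mem J _ hker
  obtain ⟨n₂, h₂⟩ := exists_pow_smul_mem J _ hcok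
  refine ⟨max n₁ n₂, fun a ha => ⟨fun x hx => ?_, fun y => ?_⟩⟩
  · exact congrArg Subtype.val ((Submodule.mem_bot _).mp (h₁ a (Ideal.pow_le_pow_right (le_max_left _ _) ha) ⟨x, hx⟩))
  · exact h₂ a (Ideal.pow_le_pow_right (le_max_right _ _) ha) y

/-- A power of `J` kills kernel and cokernel of the unit `G ⟶ g_* g^* G` over `W`. -/
theorem exists_pow_kill (g : X' ⟶ Y) [IsProper g] {W : Y.Opens} (hW : IsAffineOpen W) (J : Ideal Γ(Y, W))
    (hJ : ∀ m ∈ J, IsIso (g ∣_ Y.basicOpen m)) (G : Y.Modules) (hG : Coh.IsCoh G) :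
    ∃ n : ℕ, ∀ a ∈ J ^ n,
      (∀ x : Γ(G, W), ((Scheme.Modules.pullbackPushforwardAdjunction g).unit.app G).app W x = 0 → a • x = 0) ∧
      (∀ y : Γ((Scheme.Modules.pushforward g).obj ((Scheme.Modules.pullback g).obj G), W), ∃ x : Γ(G, W),
        ((Scheme.Modules.pullbackPushforwardAdjunction g).unit.app G).app W x = a • y) :=
  exists_pow_kill_of_bijective hW J hG
    (H24GE.isCoh_pushforward g (H17.ConsProp.isCoh_pullback g hG)) _
    (fun m hm => @bijective_pullSect_of_isIso_morphismRestrict _ _ g (Y.basicOpen m) (hJ m hm) G _ le_rfl)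

end Groth.Agent.H24Formal3.UnitKill
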