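import Groth.Agent.H24Formal3.BaseChangeZero
import Groth.Agent.H24Formal3.UnitKill
import Groth.Agent.H24FMod.Algebraize
import Groth.Agent.H29Blow.Basic

/-!
A power of the ideal of the locus where a proper morphism is not an isomorphism kills kernel and cokernel of the
unit on a completion of an affine scheme along a complete ideal.
-/

set_option autoImplicit false
set_option linter.style.haveILetI false
set_option linter.unusedSectionVars false
universe u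

attribute [-instance] CategoryTheory.catToReflQuiver

open CategoryTheory CategoryTheory.Limits AlgebraicGeometry TopologicalSpace Opposite

namespace Groth.Agent.H24Formal3.FormalKill

open H24FMod

/-- Units and base change of a square of adjunctions. -/
theorem unit_bc {C₁ C₂ C₃ C₄ : Type*} [Category C₁] [Category C₂] [Category C₃] [Category C₄]
    {LA : C₂ ⥤ C₁} {RA : C₁ ⥤ C₂} (A : LA ⊣ RA) {LB : C₄ ⥤ C₂} {RB : C₂ ⥤ C₄} (B : LB ⊣ RB)
    {LC : C₃ ⥤ C₁} {RC : C₁ ⥤ C₃} (C : LC ⊣ RC) {LD : C₄ ⥤ C₃} {RD : C₃ ⥤ C₄} (D : LD ⊣ RD)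
    (ε : RA ⋙ RB ≅ RC ⋙ RD) (G : C₄) :
    C.unit.app (LD.obj G) ≫ RC.map (((conjugateIsoEquiv (B.comp A) (D.comp C)).symm ε).hom.app G) =
      LD.map (B.unit.app G) ≫
        (D.homEquiv _ _).symm (RB.map (A.unit.app (LB.obj G)) ≫ ε.hom.app (LA.obj (LB.obj G))) := by
  apply (D.homEquiv _ _).injective
  dsimp only [Functor.comp_obj, Functor.id_obj]
  rw [D.homEquiv_naturality_left, Equiv.apply_symm_apply, D.homEquiv_unit, RD.map_comp]
  have h := unit_conjugateEquiv_symm (B.comp A) (D.comp C) ε.hom G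
  simp only [Adjunction.comp_unit_app, Functor.comp_map, Category.assoc] at h
  exact h.symm

variable {𝔜 : FSch.Sys.{u}} {h : 𝔜.IsFormal}

/-- The scalar `s` kills kernel and cokernel on sections over `A`. -/
def Kills {M N : FSch.ModF 𝔜 h} (η : M ⟶ N) (A : (𝔜.X 0).Opens) (s : OSec h A) : Prop :=
  (∀ x : Sec h M A, secMap η A x = 0 → s • x = 0) ∧ ∀ y : Sec h N A, ∃ x : Sec h M A, secMap η A x = s • y

theorem secMap_smul {M N : FSch.ModF 𝔜 h} (η : M ⟶ N) (A : (𝔜.X 0).Opens) (s : OSec h A) (x : Sec h M A) :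
    secMap η A (s • x) = s • secMap η A x :=
  LinearMap.map_smul (η.val.app (op A)).hom s x

theorem Kills.of_sq {M N M' N' : FSch.ModF 𝔜 h} {η : M ⟶ N} {η' : M' ⟶ N'} (e : M ≅ M') (e' : N ≅ N')
    (w : η ≫ e'.hom = e.hom ≫ η') {A : (𝔜.X 0).Opens} {s : OSec h A} (H : Kills η' A s) : Kills η A s := by
  refine ⟨fun x hx => FPCrit.secMap_injective e A ?_, fun y => ?_⟩
  · rw [map_zero, secMap_smul]
    refine H.1 _ ((congr(secMap $w A x)).symm.trans ((congrArg (secMap e'.hom A) hx).trans (map_zero _)))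
  · obtain ⟨x', hx'⟩ := H.2 (secMap e'.hom A y)
    refine ⟨secMap e.inv A x', FPCrit.secMap_injective e' A ?_⟩
    refine (congr(secMap $w A (secMap e.inv A x'))).trans ?_
    rw [secMap_smul]
    exact (congrArg (secMap η' A) (congr(secMap $(e.inv_hom_id) A x'))).trans hx'

section

variable (hY : 𝔜.IsLocNoethFormal) {A : Type u} [CommRing A] [IsNoetherianRing A] (I : Ideal A)
  [IsAdicComplete I A] (r : ∀ n, 𝔜.X n ⟶ Spec (CommRingCat.of A))
  (hr : ∀ n, 𝔜.ι n ≫ r (n + 1) = r n) [∀ n, IsClosedImmersion (r n)]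

noncomputable local instance : (Spec (CommRingCat.of A)).Over (Spec (CommRingCat.of A)) := ⟨𝟙 _⟩

theorem ideal_idealOf_top :
    (H24GE.idealOf (Spec (CommRingCat.of A)) I).ideal ⟨⊤, isAffineOpen_top _⟩ =
      I.map (Scheme.ΓSpecIso (CommRingCat.of A)).symm.commRingCatIsoToRingEquiv := by
  rw [H24GE.idealOf, Scheme.IdealSheafData.ofIdealTop_ideal]
  refine (Ideal.map_map _ _).trans (congrArg (Ideal.map · I) (RingHom.ext fun a => ?_))
  show (Spec (CommRingCat.of A)).presheaf.map _ ((𝟙 (Spec (CommRingCat.of A)) : _ ⟶ _).appTop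
    ((Scheme.ΓSpecIso (CommRingCat.of A)).inv a)) = _
  rw [show (Spec (CommRingCat.of A)).presheaf.map _ = 𝟙 _ from
    ((congrArg _ (Subsingleton.elim _ (𝟙 _))).trans ((Spec (CommRingCat.of A)).presheaf.map_id _))]
  rfl

variable {G : (Spec (CommRingCat.of A)).Modules}

include hr in
theorem bijective_unit_top (hk : ∀ n, (r n).ker = H24GE.idealOf (Spec (CommRingCat.of A)) I ^ (n + 1))
    (hG : Coh.IsCoh G) :
    Function.Bijective
      ((((BaseChangeCrit.SM hY r hr).adj.unit.app G).val.app (op (⊤ : (Spec (CommRingCat.of A)).Opens))).hom) := by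
  let Y := Spec (CommRingCat.of A)
  let T : ∀ n, Scheme.Modules.pullback (r (n + 1)) ⋙ Scheme.Modules.pullback (𝔜.ι n) ≅ Scheme.Modules.pullback (r n) :=
    fun n => Scheme.Modules.pullbackComp (𝔜.ι n) (r (n + 1)) ≪≫ Scheme.Modules.pullbackCongr (hr n)
  let 𝓘 := H24GE.idealOf Y I
  have hr𝓘 : ∀ n (V : Y.Opens) (hV : IsAffineOpen V),
      RingHom.ker ((r n).app V).hom = (𝓘.ideal ⟨V, hV⟩) ^ (n + 1) := fun n V hV => by
    rw [← Scheme.Hom.ker_apply (r n) ⟨V, hV⟩, hk n, Scheme.IdealSheafData.ideal_pow]; rfl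
  let J := 𝓘.ideal ⟨⊤, isAffineOpen_top Y⟩
  haveI : IsNoetherianRing Γ(Y, ⊤) := IsLocallyNoetherian.component_noetherian ⟨⊤, isAffineOpen_top Y⟩
  haveI : IsAdicComplete J Γ(Y, ⊤) := by
    show IsAdicComplete (H24GE.idealOf Y I |>.ideal ⟨⊤, isAffineOpen_top Y⟩) _
    rw [ideal_idealOf_top]
    exact (IsAdicComplete.congr_ringEquiv I (Scheme.ΓSpecIso (CommRingCat.of A)).symm.commRingCatIsoToRingEquiv).mpr
      inferInstance
  haveI := ((H10Coh.isCoh_iff_finite_sections G).1 hG).2 ⊤ (isAffineOpen_top Y)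
  haveI : IsAdicComplete J Γ(G, ⊤) := H24Adic.isAdicComplete_of_finite J
  obtain ⟨e, he⟩ := BaseChangeCrit.exists_completionSec hY r hr T (fun _ => rfl) G hG
  have hq := fun n => κ_isQuot hY.1 r hr T 𝓘 hr𝓘 (isAffineOpen_top Y) hG n
  let u : Γ(G, ⊤) →+ Sec hY.1 ((BaseChangeCrit.SM hY r hr).pull.obj G) (trOpen r (⊤ : Y.Opens)) :=
    ((((BaseChangeCrit.SM hY r hr).adj.unit.app G).val.app (op (⊤ : Y.Opens))).hom).toAddMonoidHom
  suffices hu : Function.Bijective u from hu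
  refine ⟨(injective_iff_map_eq_zero u).2 fun (m : Γ(G, ⊤)) hm => ?_, fun y => ?_⟩
  · refine IsHausdorff.haus (I := J) inferInstance m fun n => ?_
    rw [SModEq.zero]
    rcases n with _ | n
    · simp
    · refine ((hq n).2 m).1 ((he n ⊤ m).symm.trans ?_)
      exact (congrArg _ ((congrArg _ hm).trans (map_zero _))).trans (map_zero _)
  · obtain ⟨b, hb⟩ := exists_rep hY.1 r hr T (fun _ => rfl) 𝓘 hr𝓘 (isAffineOpen_top Y) hG (secMap e.hom (trOpen r ⊤) y)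
    obtain ⟨m, hm⟩ := IsPrecomplete.prec (I := J) inferInstance (f := b) (fun {i j} hij => b.property hij)
    refine ⟨m, FPCrit.secMap_injective e _ (prS_ext hY.1 _ _ _ _ fun n => ?_)⟩
    refine (he n ⊤ m).trans (Eq.trans ?_ (hb n))
    have h0 : κ hY.1 r hr T G ⊤ n (b (n + 1) - m) = 0 := ((hq n).2 _).2 (SModEq.sub_mem.1 (hm (n + 1)))
    rw [map_sub, sub_eq_zero] at h0
    exact h0.symm

variable {𝔛 : FSch.Sys.{u}} (hX : 𝔛.IsLocNoethFormal) {X' : Scheme.{u}} (c : ∀ n, 𝔛.X n ⟶ X')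
  (hc : ∀ n, 𝔛.ι n ≫ c (n + 1) = c n) [∀ n, IsClosedImmersion (c n)]
  (hk : ∀ n, (r n).ker = H24GE.idealOf (Spec (CommRingCat.of A)) I ^ (n + 1))
  (g : X' ⟶ Spec (CommRingCat.of A)) [IsProper g]
  (hck : ∀ n, (c n).ker = (H24GE.idealOf (Spec (CommRingCat.of A)) I).comap g ^ (n + 1))
  (φ : 𝔛 ⟶ 𝔜) (hφ : FSch.IsProperHom φ) (hsq : ∀ n, c n ≫ g = (φ : FSch.Hom 𝔛 𝔜).app n ≫ r n)
  (J : Ideal Γ(Spec (CommRingCat.of A), ⊤))
  (hJ : ∀ m ∈ J, IsIso (g ∣_ (Spec (CommRingCat.of A)).basicOpen m))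
  (𝔉 : FSch.ModF 𝔜 hY.1) (h𝔉 : FSch.IsCohF 𝔜 hY.1 𝔉)

include hr hc hk hck hφ hsq hJ h𝔉 in
/-- A power of `J` kills kernel and cokernel of the unit on the whole affine formal scheme. -/
theorem exists_pow_kills : ∃ n : ℕ, ∀ a ∈ J ^ n,
    Kills ((FSch.homMor φ hX.1 hY.1).adj.unit.app 𝔉) (trOpen r ⊤)
      ((FSch.schSharp 𝔜 hY.1 r hr).hom.app (op (⊤ : (Spec (CommRingCat.of A)).Opens)) a) := by
  let Y := Spec (CommRingCat.of A)
  let 𝓘 := H24GE.idealOf Y I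
  haveI : IsLocallyNoetherian X' := LocallyOfFiniteType.isLocallyNoetherian g
  haveI : IsSeparated (Y ↘ Spec (CommRingCat.of A)) := inferInstanceAs (IsSeparated (𝟙 Y))
  haveI : LocallyOfFiniteType (Y ↘ Spec (CommRingCat.of A)) := inferInstanceAs (LocallyOfFiniteType (𝟙 Y))
  haveI : QuasiCompact (Y ↘ Spec (CommRingCat.of A)) := inferInstanceAs (QuasiCompact (𝟙 Y))
  let T' : ∀ n, Scheme.Modules.pullback (r (n + 1)) ⋙ Scheme.Modules.pullback (𝔜.ι n) ≅ Scheme.Modules.pullback (r n) :=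
    fun n => Scheme.Modules.pullbackComp (𝔜.ι n) (r (n + 1)) ≪≫ Scheme.Modules.pullbackCongr (hr n)
  let T : ∀ n, Scheme.Modules.pullback (c (n + 1)) ⋙ Scheme.Modules.pullback (𝔛.ι n) ≅ Scheme.Modules.pullback (c n) :=
    fun n => Scheme.Modules.pullbackComp (𝔛.ι n) (c (n + 1)) ≪≫ Scheme.Modules.pullbackCongr (hc n)
  have hr𝓘 : ∀ n (V : Y.Opens) (hV : IsAffineOpen V),
      RingHom.ker ((r n).app V).hom = (𝓘.ideal ⟨V, hV⟩) ^ (n + 1) := fun n V hV => by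
    rw [← Scheme.Hom.ker_apply (r n) ⟨V, hV⟩, hk n, Scheme.IdealSheafData.ideal_pow]; rfl
  have hc𝓚 : ∀ n (W : X'.Opens) (hW : IsAffineOpen W),
      RingHom.ker ((c n).app W).hom = ((𝓘.comap g).ideal ⟨W, hW⟩) ^ (n + 1) := fun n W hW => by
    rw [← Scheme.Hom.ker_apply (c n) ⟨W, hW⟩, hck n, Scheme.IdealSheafData.ideal_pow]; rfl
  have hs : ClSub.IsProperOver (Y ↘ Spec (CommRingCat.of A)) (suppF hY r 𝔉) := by
    refine ⟨isClosed_suppF hY r 𝔉, ?_⟩
    show IsProper (_ ≫ 𝟙 Y)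
    rw [Category.comp_id]
    infer_instance
  obtain ⟨G, hG, -, ⟨e₀⟩⟩ := exists_algebraization hY r hr T' (fun _ => rfl) I hk h𝔉 hs
  obtain ⟨e₁, -⟩ := exists_pull_iso hY r hr T' (fun _ => rfl) G hG
  let e : 𝔉 ≅ (BaseChangeCrit.SM hY r hr).pull.obj G := e₀ ≪≫ e₁.symm
  let η := (Scheme.Modules.pullbackPushforwardAdjunction g).unit.app G
  have hP : Coh.IsCoh ((Scheme.Modules.pushforward g).obj ((Scheme.Modules.pullback g).obj G)) :=
    H24GE.isCoh_pushforward g (H17.ConsProp.isCoh_pullback g hG)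
  obtain ⟨n, hn⟩ := UnitKill.exists_pow_kill g (isAffineOpen_top Y) J hJ G hG
  refine ⟨n, fun a ha => Kills.of_sq e ((FSch.pullF φ hX.1 hY.1 ⋙ FSch.pushF φ hX.1 hY.1).mapIso e)
    ((FSch.homMor φ hX.1 hY.1).adj.unit.naturality e.hom).symm ?_⟩
  let S' := BaseChangeCrit.SM hY r hr
  let bc := FSch.schBcMap φ hX.1 hY.1 g c hc r hr hsq ((Scheme.Modules.pullback g).obj G)
  haveI : IsIso bc := BaseChangeZero.isIso_schBcMap hX c hc T (fun _ => rfl) _ (H17.ConsProp.isCoh_pullback g hG)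
    (𝓘.comap g) hc𝓚 hY r hr T' (fun _ => rfl) 𝓘 hr𝓘 g
    (fun V hV W hW l => H29Blow.ideal_comap 𝓘 g ⟨V, hV⟩ ⟨W, hW⟩ l) φ hφ hsq
  let π := (FSch.pushF φ hX.1 hY.1).mapIso ((FSch.schPullSq φ hX.1 hY.1 g c hc r hr hsq).app G)
  have key : (FSch.homMor φ hX.1 hY.1).adj.unit.app (S'.pull.obj G) ≫ π.hom = S'.pull.map η ≫ bc :=
    unit_bc _ _ _ _ _ G
  let A0 := trOpen r (⊤ : Y.Opens)
  let u₁ : Γ(G, ⊤) → Sec hY.1 (S'.pull.obj G) A0 := ((S'.adj.unit.app G).val.app (op (⊤ : Y.Opens))).hom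
  let u₂ : Γ((Scheme.Modules.pushforward g).obj ((Scheme.Modules.pullback g).obj G), ⊤) → Sec hY.1 (S'.pull.obj _) A0 :=
    ((S'.adj.unit.app _).val.app (op (⊤ : Y.Opens))).hom
  have hu₁ : Function.Bijective u₁ := bijective_unit_top hY I r hr hk hG
  have hu₂ : Function.Bijective u₂ := bijective_unit_top hY I r hr hk hP
  have hbc : Function.Bijective (secMap bc A0) := ⟨FPCrit.secMap_injective (asIso bc) A0, fun y =>
    ⟨secMap (inv bc) A0 y, congr(secMap $(IsIso.inv_hom_id bc) A0 y)⟩⟩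
  have hnat : ∀ m, secMap π.hom A0 (secMap ((FSch.homMor φ hX.1 hY.1).adj.unit.app (S'.pull.obj G)) A0 (u₁ m)) =
      secMap bc A0 (u₂ (η.app ⊤ m)) := fun m =>
    (congr(secMap $key A0 (u₁ m))).trans
      (congrArg (secMap bc A0) (congr($(congrArg (fun ψ => Scheme.Modules.Hom.app ψ ⊤) (S'.adj.unit.naturality η)) m)).symm)
  let s : OSec hY.1 A0 := (FSch.schSharp 𝔜 hY.1 r hr).hom.app (op (⊤ : Y.Opens)) a
  have hl₁ : ∀ m, u₁ (a • m) = s • u₁ m := fun m =>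
    LinearMap.map_smul ((S'.adj.unit.app G).val.app (op (⊤ : Y.Opens))).hom a m
  have hl₂ : ∀ m, u₂ (a • m) = s • u₂ m := fun m =>
    LinearMap.map_smul ((S'.adj.unit.app _).val.app (op (⊤ : Y.Opens))).hom a m
  obtain ⟨hker, hcok⟩ := hn a ha
  refine ⟨fun x hx => ?_, fun y => ?_⟩
  · obtain ⟨m, rfl⟩ := hu₁.2 x
    have h0 := hnat m
    rw [hx, map_zero] at h0
    have h1 : η.app ⊤ m = 0 := hu₂.1 ((hbc.1 (h0.symm.trans (map_zero _).symm)).trans (map_zero _).symm)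
    exact (hl₁ m).symm.trans ((congrArg u₁ (hker m h1)).trans (map_zero _))
  · obtain ⟨z, hz⟩ := hbc.2 (secMap π.hom A0 y)
    obtain ⟨p, rfl⟩ := hu₂.2 z
    obtain ⟨m, hm⟩ := hcok p
    refine ⟨u₁ m, FPCrit.secMap_injective π A0 ?_⟩
    refine (hnat m).trans ((congrArg (fun t => secMap bc A0 (u₂ t)) hm).trans ?_)
    rw [hl₂]
    exact (secMap_smul bc A0 s (u₂ p)).trans ((congrArg (s • ·) hz).trans (secMap_smul π.hom A0 s y).symm)

end

end Groth.Agent.H24Formal3.FormalKill
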