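import Groth.Agent.H24Formal3.AffineKill
import Groth.Agent.H24Formal3.CohRpush
import Groth.Agent.H24FMod.Kernel

/-!
A uniform power of the ideal kills kernel and cokernel of the unit of a completed proper morphism on every affine.
-/

set_option autoImplicit false
set_option linter.style.haveILetI false
set_option linter.unusedSectionVars false
universe u

attribute [-instance] CategoryTheory.catToReflQuiver

open CategoryTheory CategoryTheory.Limits AlgebraicGeometry TopologicalSpace Opposite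

namespace Groth.Agent.H24Formal3.GlobalKill

open H24FMod FormalKill H15Site.ModTensor H15Site.ModRel H15Site.LocGen H15Site.LocPres

variable {𝔛 𝔜 : FSch.Sys.{u}} (hX : 𝔜.IsLocNoethFormal) {M N : FSch.ModF 𝔜 hX.1} (η : M ⟶ N)

theorem Kills.add {A : (𝔜.X 0).Opens} {r r' : OSec hX.1 A} (h : Kills η A r) (h' : Kills η A r') :
    Kills η A (r + r') := by
  refine ⟨fun x hx => ?_, fun y => ?_⟩
  · rw [add_smul, h.1 x hx, h'.1 x hx, add_zero]
  · obtain ⟨a, ha⟩ := h.2 y
    obtain ⟨b, hb⟩ := h'.2 y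
    exact ⟨a + b, by rw [map_add, ha, hb, add_smul]⟩

theorem Kills.mul {A : (𝔜.X 0).Opens} (t : OSec hX.1 A) {r : OSec hX.1 A} (h : Kills η A r) :
    Kills η A (t * r) := by
  refine ⟨fun x hx => ?_, fun y => ?_⟩
  · rw [mul_smul, h.1 x hx, smul_zero]
  · obtain ⟨a, ha⟩ := h.2 y
    exact ⟨t • a, by rw [secMap_smul, ha, mul_smul]⟩

theorem kills_zero (A : (𝔜.X 0).Opens) : Kills η A (0 : OSec hX.1 A) :=
  ⟨fun x _ => zero_smul _ x, fun y => ⟨0, by rw [map_zero, zero_smul]⟩⟩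

/-- Kills passes to smaller affine opens. -/
theorem Kills.restrict (hM : FSch.IsCohF 𝔜 hX.1 M) (hN : FSch.IsCohF 𝔜 hX.1 N) {A B : (𝔜.X 0).Opens}
    (hA : IsAffineOpen A) (hB : IsAffineOpen B) (l : B ⟶ A) {r : OSec hX.1 A} (h : Kills η A r) :
    Kills η B (rsO hX l r) := by
  refine ⟨fun x hx => ?_, fun y => ?_⟩
  · obtain ⟨J, hJf, k, hk, hgen⟩ := exists_ker_gens hX hM hN η hA
    obtain ⟨c, rfl⟩ := hgen B l hB x hx
    rw [Finset.smul_sum]
    refine Finset.sum_eq_zero fun j _ => ?_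
    rw [smul_comm, show rsO hX l r • rsF hX M l (k j) = rsF hX M l (r • k j) from
      (rs_smul' ((forg (𝔜.Osh hX.1)).obj M) l.op r (k j)).symm, h.1 _ (hk j)]
    exact (congrArg (c j • ·) (rs_zero _ _)).trans (smul_zero _)
  · obtain ⟨I, K, hIf, hKf, x, rel, -, hgen⟩ := exists_secPres hX hN hA
    obtain ⟨c, rfl⟩ := (hgen B l hB).1 y
    choose z hz using fun i => h.2 (x i)
    refine ⟨∑ i, c i • rsF hX M l (z i), ?_⟩
    rw [map_sum, Finset.smul_sum]
    refine Finset.sum_congr rfl fun i _ => ?_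
    rw [secMap_smul, smul_comm]
    refine congrArg (c i • ·) ?_
    exact (rs_app η.val l.op (z i)).trans ((congrArg _ (hz i)).trans (rs_smul' _ l.op r (x i)))

variable {X : Scheme.{u}} (c : ∀ n, 𝔜.X n ⟶ X) (hc : ∀ n, 𝔜.ι n ≫ c (n + 1) = c n)
  [∀ n, IsClosedImmersion (c n)]

/-- The functions on an open. -/
noncomputable abbrev fn (V : X.Opens) (a : Γ(X, V)) : OSec hX.1 (trOpen c V) :=
  (FSch.schSharp 𝔜 hX.1 c hc).hom.app (op V) a

theorem fn_res {U V : X.Opens} (i : V ⟶ U) (a : Γ(X, U)) :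
    fn hX c hc V (X.presheaf.map i.op a) = rsO hX ((Opens.map (c 0).base).map i) (fn hX c hc U a) :=
  congr($((FSch.schSharp 𝔜 hX.1 c hc).hom.naturality i.op) a)

/-- The functions killing kernel and cokernel. -/
noncomputable def killsIdeal (V : X.Opens) : Ideal Γ(X, V) where
  carrier := {a | Kills η (trOpen c V) (fn hX c hc V a)}
  zero_mem' := by
    show Kills η _ (fn hX c hc V 0)
    rw [show fn hX c hc V 0 = 0 from map_zero ((FSch.schSharp 𝔜 hX.1 c hc).hom.app (op V)).hom]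
    exact kills_zero hX η _
  add_mem' {a b} ha hb := by
    show Kills η _ (fn hX c hc V (a + b))
    rw [show fn hX c hc V (a + b) = fn hX c hc V a + fn hX c hc V b from
      map_add ((FSch.schSharp 𝔜 hX.1 c hc).hom.app (op V)).hom a b]
    exact Kills.add hX η ha hb
  smul_mem' t a ha := by
    show Kills η _ (fn hX c hc V (t * a))
    rw [show fn hX c hc V (t * a) = fn hX c hc V t * fn hX c hc V a from
      map_mul ((FSch.schSharp 𝔜 hX.1 c hc).hom.app (op V)).hom t a]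
    exact Kills.mul hX η _ ha

theorem le_killsIdeal_of_le (hM : FSch.IsCohF 𝔜 hX.1 M) (hN : FSch.IsCohF 𝔜 hX.1 N) (𝒩 : X.IdealSheafData)
    {V U : X.affineOpens} (l : V ≤ U) (h : 𝒩.ideal U ≤ killsIdeal hX η c hc U) :
    𝒩.ideal V ≤ killsIdeal hX η c hc V := by
  rw [← 𝒩.map_ideal l, Ideal.map_le_iff_le_comap]
  intro a ha
  show Kills η _ (fn hX c hc V.1 (X.presheaf.map (homOfLE l).op a))
  exact (congrArg (Kills η _) (fn_res hX c hc _ a)).mpr
    (Kills.restrict hX η hM hN (U.2.preimage (c 0)) (V.2.preimage (c 0)) _ (h ha))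

variable (hM : FSch.IsCohF 𝔜 hX.1 M) (hN : FSch.IsCohF 𝔜 hX.1 N) {ι : Type*} (Ui : ι → X.affineOpens)
  (hcov : ∀ x : X, ∃ i, x ∈ (Ui i).1) (𝒩 : X.IdealSheafData)
  (hk : ∀ i, 𝒩.ideal (Ui i) ≤ killsIdeal hX η c hc (Ui i))

include hM hN hcov hk in
/-- Kills is local: kernel and cokernel sheaves are killed on every affine open. -/
theorem smul_eq_zero (U : X.affineOpens) (s : Γ(X, U)) (hs : s ∈ 𝒩.ideal U) :
    (∀ x : Sec hX.1 (kernel η) (trOpen c (U : X.Opens)), fn hX c hc U.1 s • x = 0) ∧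
      ∀ x : Sec hX.1 (cokernel η) (trOpen c (U : X.Opens)), fn hX c hc U.1 s • x = 0 := by
  let A := trOpen c (U : X.Opens)
  have hnbr : ∀ (W : (𝔜.X 0).Opens) (z : 𝔜.X 0), z ∈ W → z ∈ A → ∃ (V : X.affineOpens) (lU : V ≤ U),
      z ∈ trOpen c V.1 ∧ trOpen c V.1 ≤ W ∧ Kills η (trOpen c V.1) (fn hX c hc V.1 (X.presheaf.map (homOfLE lU).op s)) := by
    intro W z hzW hzA
    obtain ⟨O, hO, hOW⟩ := (c 0).isClosedEmbedding.isInducing.isOpen_iff.1 W.isOpen
    obtain ⟨i, hi⟩ := hcov (c 0 z)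
    have hzO : z ∈ c 0 ⁻¹' O := by rw [hOW]; exact hzW
    obtain ⟨V, hV, hzV, hle⟩ := exists_isAffineOpen_mem_and_subset (x := c 0 z)
      (U := ((Ui i).1 ⊓ U.1) ⊓ ⟨O, hO⟩) ⟨⟨hi, hzA⟩, hzO⟩
    have lU : (⟨V, hV⟩ : X.affineOpens) ≤ U := fun x hx => (hle hx).1.2
    refine ⟨⟨V, hV⟩, lU, hzV, fun w hw => ?_, ?_⟩
    · have : w ∈ c 0 ⁻¹' O := (hle hw).2
      rwa [hOW] at this
    · refine le_killsIdeal_of_le hX η c hc hM hN 𝒩 (V := ⟨V, hV⟩) (U := Ui i) (fun x hx => (hle hx).1.1) (hk i) ?_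
      rw [← 𝒩.map_ideal lU]
      exact Ideal.mem_map_of_mem _ hs
  refine ⟨fun x => ?_, fun x => ?_⟩
  · apply injective_app (kernel.ι η) (op A)
    refine Eq.trans ?_ (map_zero _).symm
    let y : Sec hX.1 M A := secMap (kernel.ι η) A x
    have hy : secMap η A y = 0 :=
      congrArg (fun (q : kernel η ⟶ N) => (q.val.app (op A)).hom x) (kernel.condition η)
    refine Eq.trans (b := fn hX c hc U.1 s • y) (secMap_smul (kernel.ι η) A _ x) ?_
    let R : Sieve A :=
      { arrows := fun W _ => ∃ (V : X.affineOpens) (lU : V ≤ U), W ≤ trOpen c V.1 ∧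
          Kills η (trOpen c V.1) (fn hX c hc V.1 (X.presheaf.map (homOfLE lU).op s))
        downward_closed := fun {W W'} _ hh g => by
          obtain ⟨V, lU, h1, h2⟩ := hh
          exact ⟨V, lU, (leOfHom g).trans h1, h2⟩ }
    have hR : R ∈ Opens.grothendieckTopology (𝔜.X 0) A := fun z hz => by
      obtain ⟨V, lU, hzV, -, hV⟩ := hnbr A z hz hz
      exact ⟨trOpen c V.1, (Opens.map (c 0).base).map (homOfLE lU), ⟨V, lU, le_rfl, hV⟩, hzV⟩
    refine separated_forg M (X := op A) R hR _ _ fun W g hg => ?_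
    obtain ⟨V, lU, h1, hV⟩ := hg
    let l := (Opens.map (c 0).base).map (homOfLE (show V.1 ≤ U.1 from lU))
    have h0 := hV.1 (rsF hX M l y) ((rs_app η.val _ y).trans ((congrArg _ hy).trans (rs_zero _ _)))
    refine Eq.trans ?_ (rs_zero _ _).symm
    refine (congrArg (fun q => rs ((forg (𝔜.Osh hX.1)).obj M) q _)
      (Subsingleton.elim g.op (l.op ≫ (homOfLE h1).op))).trans ((rs_rs _ _ _ _).symm.trans ?_)
    refine (congrArg _ ((rs_smul' _ l.op _ y).trans ?_)).trans (rs_zero _ _)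
    exact (congrArg (· • rsF hX M l y) (fn_res hX c hc (homOfLE (show V.1 ≤ U.1 from lU)) s).symm).trans h0
  · let π := cokernel.π η
    obtain ⟨S, hS, hSl⟩ := (epi_iff_locSurj π).1 inferInstance A x
    let R : Sieve A :=
      { arrows := fun W _ => ∃ (V : X.affineOpens) (lU : V ≤ U) (W' : (𝔜.X 0).Opens) (g' : W' ⟶ A), S g' ∧
          W ≤ trOpen c V.1 ∧ trOpen c V.1 ≤ W' ∧
          Kills η (trOpen c V.1) (fn hX c hc V.1 (X.presheaf.map (homOfLE lU).op s))
        downward_closed := fun {W W'} _ hh g => by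
          obtain ⟨V, lU, W'', g', h0, h1, h2, h3⟩ := hh
          exact ⟨V, lU, W'', g', h0, (leOfHom g).trans h1, h2, h3⟩ }
    have hR : R ∈ Opens.grothendieckTopology (𝔜.X 0) A := fun z hz => by
      obtain ⟨W', g', hg', hzW'⟩ := hS z hz
      obtain ⟨V, lU, hzV, hVW, hV⟩ := hnbr W' z hzW' hz
      exact ⟨trOpen c V.1, (Opens.map (c 0).base).map (homOfLE lU), ⟨V, lU, W', g', hg', le_rfl, hVW, hV⟩, hzV⟩
    refine separated_forg (cokernel η) (X := op A) R hR _ _ fun W g hg => ?_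
    obtain ⟨V, lU, W', g', hg', h1, h2, hV⟩ := hg
    obtain ⟨y, hy⟩ := hSl g' hg'
    let l := (Opens.map (c 0).base).map (homOfLE (show V.1 ≤ U.1 from lU))
    refine Eq.trans ?_ (rs_zero _ _).symm
    refine (congrArg (fun q => rs ((forg (𝔜.Osh hX.1)).obj (cokernel η)) q _)
      (Subsingleton.elim g.op (l.op ≫ (homOfLE h1).op))).trans ((rs_rs _ _ _ _).symm.trans ?_)
    refine (congrArg _ ((rs_smul' _ l.op _ x).trans ?_)).trans (rs_zero _ _)
    obtain ⟨m, hm⟩ := hV.2 (rsF hX N (homOfLE h2) y)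
    have hyx : secMap π (trOpen c V.1) (rsF hX N (homOfLE h2) y) = rsF hX (cokernel η) l x :=
      (rs_app π.val (homOfLE h2).op y).trans ((congrArg _ hy).trans ((rs_rs _ _ _ _).trans
        (congrArg (fun z => rs _ z x) (Subsingleton.elim _ _))))
    refine Eq.trans (b := secMap π (trOpen c V.1) (secMap η (trOpen c V.1) m)) ?_
      (congrArg (fun (q : M ⟶ cokernel η) => (q.val.app (op (trOpen c V.1))).hom m) (cokernel.condition η))
    refine Eq.trans ?_ (((congrArg (secMap π _) hm).trans (secMap_smul π _ _ _)).trans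
      (congrArg (fn hX c hc V.1 (X.presheaf.map (homOfLE lU).op s) • ·) hyx)).symm
    exact congrArg (· • rsF hX (cokernel η) l x) (fn_res hX c hc (homOfLE (show V.1 ≤ U.1 from lU)) s).symm

end Groth.Agent.H24Formal3.GlobalKill
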