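import Groth.Agent.H24FMod.GrLim

/-!
# The filtration of the cohomology of a coherent module by the levels
-/

set_option autoImplicit false
set_option linter.style.haveILetI false
set_option linter.unusedSectionVars false

universe u

attribute [-instance] CategoryTheory.catToReflQuiver

open AlgebraicGeometry CategoryTheory CategoryTheory.Limits TopologicalSpace Opposite CategoryTheory.Abelian

namespace Groth.Agent.H24Formal3.GrStep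

open H24FMod H24FMod.GrF LeadFF

set_option quotPrecheck false in
local notation "H[" F ", " p "]" => Sheaf.H ((SheafOfModules.toSheaf (ModSite.ringSh _)).obj F) p

section Site

variable {C : Type u} [SmallCategory C] {Jt : GrothendieckTopology C} {O : Sheaf Jt CommRingCat.{u}}
  [HasSheafify Jt AddCommGrpCat.{u}] [HasExt.{u} (Sheaf Jt AddCommGrpCat.{u})]

theorem exists_of_hm_eq_zero {F G K : ModSite.Mod O} {f : F ⟶ G} {g : G ⟶ K} {z : f ≫ g = 0}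
    (hS : (ShortComplex.mk f g z).ShortExact) (p : ℕ) (x : H[G, p]) (hx : GrTower.hm g p x = 0) :
    ∃ y : H[F, p], GrTower.hm f p y = x :=
  Ext.covariant_sequence_exact₂ _ (GrTower.shortExact_sheaf hS) x hx

end Site

variable {A : Type u} [CommRing A] [IsNoetherianRing A] (J : Ideal A) {𝔛 : FSch.Sys.{u}} (f : 𝔛 ⟶ FSch.spf A J)
  (hL : 𝔛.IsLocNoethFormal) (𝔉 : FSch.ModF 𝔛 hL.1) (hf : FSch.IsAdicHom f)
  (h𝔉 : FSch.IsCohF 𝔛 hL.1 𝔉) (q : ℕ)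

include hf h𝔉 in
theorem hm_u_sm_eq_zero {k n : ℕ} (h : k ≤ n) {a : A} (ha : a ∈ J ^ (n - k)) (x : H[𝔉, q])
    (hx : GrTower.hm (u hL 𝔉 k) q x = 0) : GrTower.hm (u hL 𝔉 n) q (GrTower.hm (sm J f hL a 𝔉) q x) = 0 := by
  refine (GrTower.hm_comp _ _ q x).symm.trans ?_
  refine (congrArg (fun φ : 𝔉 ⟶ G hL 𝔉 n => GrTower.hm φ q x) (u_M J f hL 𝔉 hf h𝔉 k n h a ha).symm).trans ?_
  exact (GrTower.hm_comp _ _ q x).trans ((congrArg (GrTower.hm (M J f hL 𝔉 hf h𝔉 k n h a ha) q) hx).trans (map_zero _))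

include h𝔉 in
theorem exists_κ_eq (n : ℕ) (x : H[𝔉, q]) (hx : GrTower.hm (u hL 𝔉 n) q x = 0) :
    ∃ z : H[K hL 𝔉 (n + 1), q], GrTower.hm (κ hL 𝔉 (n + 1)) q z = GrTower.hm (u hL 𝔉 (n + 1)) q x :=
  exists_of_hm_eq_zero (shortExact_L hL 𝔉 h𝔉 n) q (GrTower.hm (u hL 𝔉 (n + 1)) q x)
    (((GrTower.hm_comp _ _ q x).symm.trans
      (congrArg (fun φ : 𝔉 ⟶ G hL 𝔉 n => GrTower.hm φ q x) (u_L hL 𝔉 n))).trans hx)

include hf h𝔉 in
theorem hm_M_u {k n : ℕ} (h : k ≤ n) {a : A} (ha : a ∈ J ^ (n - k)) (y : H[𝔉, q]) :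
    GrTower.hm (M J f hL 𝔉 hf h𝔉 k n h a ha) q (GrTower.hm (u hL 𝔉 k) q y) =
      GrTower.hm (u hL 𝔉 n) q (GrTower.hm (sm J f hL a 𝔉) q y) :=
  (GrTower.hm_comp _ _ q y).symm.trans ((congrArg (fun φ : 𝔉 ⟶ G hL 𝔉 n => GrTower.hm φ q y)
    (u_M J f hL 𝔉 hf h𝔉 k n h a ha)).trans (GrTower.hm_comp _ _ q y))

include hf h𝔉 in
theorem hm_κ_m0 [(𝔛.X 0).Over (Spec (CommRingCat.of A))]
    (E : ∀ k, H[K hL 𝔉 k, q] ≃+ Coh.HH (𝔛.X 0) (K0 hL 𝔉 k) q)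
    (hE : ∀ k n h a ha y, E n (GrTower.hm (mK J f hL 𝔉 hf h𝔉 k n h a ha) q y) =
      Hm (m0 J f hL 𝔉 hf h𝔉 k n h a ha) q (E k y)) (k n : ℕ) (h : k ≤ n) (a : A) (ha : a ∈ J ^ (n - k))
    (y : Coh.HH (𝔛.X 0) (K0 hL 𝔉 k) q) :
    GrTower.hm (κ hL 𝔉 n) q ((E n).symm (Hm (m0 J f hL 𝔉 hf h𝔉 k n h a ha) q y)) =
      GrTower.hm (M J f hL 𝔉 hf h𝔉 k n h a ha) q (GrTower.hm (κ hL 𝔉 k) q ((E k).symm y)) := by
  rw [show Hm (m0 J f hL 𝔉 hf h𝔉 k n h a ha) q y = E n (GrTower.hm (mK J f hL 𝔉 hf h𝔉 k n h a ha) q ((E k).symm y))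
    from ((hE k n h a ha _).trans (congrArg _ ((E k).apply_symm_apply y))).symm, AddEquiv.symm_apply_apply]
  refine (GrTower.hm_comp _ _ q _).symm.trans (Eq.trans ?_ (GrTower.hm_comp _ _ q _))
  exact congrArg (fun φ : K hL 𝔉 k ⟶ G hL 𝔉 n => GrTower.hm φ q ((E k).symm y))
    (mK_κ J f hL 𝔉 hf h𝔉 k n h a ha)

include hf h𝔉 in
theorem hm_κ_closure {X Y : FSch.ModF 𝔛 hL.1} {T : Type u} [AddCommGroup T] (E : H[X, q] ≃+ T) (φ : X ⟶ Y)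
    (G₀ : Set T) (B : AddSubgroup H[Y, q]) (h : ∀ w ∈ G₀, GrTower.hm φ q (E.symm w) ∈ B) {w : T}
    (hw : w ∈ AddSubgroup.closure G₀) : GrTower.hm φ q (E.symm w) ∈ B := by
  have h1 : AddSubgroup.closure G₀ ≤ B.comap ((GrTower.hm φ q).comp E.symm.toAddMonoidHom) :=
    (AddSubgroup.closure_le _).2 h
  exact h1 hw

include hf h𝔉 in
/-- Classes vanishing on a level come from multiples, up to the next level. -/
theorem exists_step (hp : IsProper ((f : FSch.Hom 𝔛 (FSch.spf A J)).app 0)) :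
    ∃ c, ∀ n, c ≤ n + 1 → ∀ x : H[𝔉, q], GrTower.hm (u hL 𝔉 n) q x = 0 →
      GrTower.hm (u hL 𝔉 (n + 1)) q x ∈ AddSubgroup.closure
        {w | ∃ a ∈ J ^ (n + 1 - c), ∃ y, GrTower.hm (u hL 𝔉 (n + 1)) q (GrTower.hm (sm J f hL a 𝔉) q y) = w} := by
  letI : (𝔛.X 0).Over (Spec (CommRingCat.of A)) := ⟨toA J f 0⟩
  haveI := hL.2.2
  haveI : IsProper (toQ J f 0) := hp
  haveI := H24GE.isClosedImmersion_specQuot J 0
  haveI : IsProper (toA J f 0) := inferInstanceAs (IsProper (toQ J f 0 ≫ CohB1.specQuot J 0))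
  haveI : LocallyOfFiniteType (𝔛.X 0 ↘ Spec (CommRingCat.of A)) := inferInstanceAs (LocallyOfFiniteType (toA J f 0))
  obtain ⟨E, hE⟩ := exists_transfer J hL.1 (K hL 𝔉) (K0 hL 𝔉) (mK J f hL 𝔉 hf h𝔉) (m0 J f hL 𝔉 hf h𝔉) (η0 hL 𝔉)
    (isIso_unit_K J f hL 𝔉 hf h𝔉) (mK_η0 J f hL 𝔉 hf h𝔉) q
  let S : ∀ k, AddSubgroup (Coh.HH (𝔛.X 0) (K0 hL 𝔉 k) q) := fun k =>
    ((GrTower.hm (u hL 𝔉 k) q).range).comap ((GrTower.hm (κ hL 𝔉 k) q).comp (E k).symm.toAddMonoidHom)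
  obtain ⟨c, hc⟩ := Gr.exists_gen_of (K0 hL 𝔉) (fun k => (isCoh_pullSys hL (isCohF_K hL 𝔉 h𝔉 k) 0).1)
    (m0 J f hL 𝔉 hf h𝔉)
    (fun k n h a b ha hb => (congrArg (fun φ : K hL 𝔉 k ⟶ K hL 𝔉 n => (FSch.levelMor 𝔛 hL.1 0).pull.map φ)
      (mK_add J f hL 𝔉 hf h𝔉 k n h a b ha hb)).trans (pull_map_add hL _ _))
    (fun k n h a b hb => ((congrArg (fun φ : K hL 𝔉 k ⟶ K hL 𝔉 n => (FSch.levelMor 𝔛 hL.1 0).pull.map φ)
      (mK_smul J f hL 𝔉 hf h𝔉 k n h a b hb)).trans ((FSch.levelMor 𝔛 hL.1 0).pull.map_comp _ _)).trans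
      (congrArg (· ≫ m0 J f hL 𝔉 hf h𝔉 k n h b hb) (pull_map_sm J f hL rfl a (K hL 𝔉 k))))
    (fun k c n h h' a b ha hb hab => ((FSch.levelMor 𝔛 hL.1 0).pull.map_comp _ _).symm.trans
      (congrArg (fun φ : K hL 𝔉 k ⟶ K hL 𝔉 n => (FSch.levelMor 𝔛 hL.1 0).pull.map φ)
        (mK_comp J f hL 𝔉 hf h𝔉 k c n h h' a b ha hb hab)))
    (gen_K0 J f hL 𝔉 hf h𝔉) (properCoh_of_isProper (toA J f 0) (isCoh_pullSys hL (isCohF_K hL 𝔉 h𝔉 0) 0)) q S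
    fun k n h a ha y hy => by
      obtain ⟨x, hx⟩ := hy
      exact ⟨GrTower.hm (sm J f hL a 𝔉) q x, (hm_M_u J f hL 𝔉 hf h𝔉 q h ha x).symm.trans
        ((congrArg (GrTower.hm (M J f hL 𝔉 hf h𝔉 k n h a ha) q) hx).trans (hm_κ_m0 J f hL 𝔉 hf h𝔉 q E hE k n h a ha y).symm)⟩
  refine ⟨c, fun n hn x hx => ?_⟩
  obtain ⟨z, hz⟩ := exists_κ_eq hL 𝔉 h𝔉 q n x hx
  have hzS : E (n + 1) z ∈ S (n + 1) :=
    ⟨x, hz.symm.trans (congrArg (GrTower.hm (κ hL 𝔉 (n + 1)) q) ((E (n + 1)).symm_apply_apply z).symm)⟩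
  rw [← hz, ← (E (n + 1)).symm_apply_apply z]
  refine hm_κ_closure J f hL 𝔉 hf h𝔉 q (E (n + 1)) (κ hL 𝔉 (n + 1)) _ _ ?_ (hc (n + 1) hn hzS)
  rintro w ⟨a, ha, y, ⟨x', hx'⟩, rfl⟩
  refine AddSubgroup.subset_closure ⟨a, ha, x', (hm_M_u J f hL 𝔉 hf h𝔉 q hn ha x').symm.trans ?_⟩
  exact (congrArg (GrTower.hm (M J f hL 𝔉 hf h𝔉 c (n + 1) hn a ha) q) hx').trans
    (hm_κ_m0 J f hL 𝔉 hf h𝔉 q E hE c (n + 1) hn a ha y).symm

include hf h𝔉 in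
/-- The cohomology of a piece is spanned by finitely many classes under the scalars. -/
theorem exists_gen_K (hp : IsProper ((f : FSch.Hom 𝔛 (FSch.spf A J)).app 0)) (k : ℕ) :
    ∃ (r : ℕ) (t : Fin r → H[K hL 𝔉 k, q]), ∀ z : H[K hL 𝔉 k, q], ∃ a : Fin r → A,
      z = ∑ i, GrTower.hm (sm J f hL (a i) (K hL 𝔉 k)) q (t i) := by
  letI : (𝔛.X 0).Over (Spec (CommRingCat.of A)) := ⟨toA J f 0⟩
  haveI := hL.2.2
  haveI : IsProper (toQ J f 0) := hp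
  haveI := H24GE.isClosedImmersion_specQuot J 0
  haveI : IsProper (toA J f 0) := inferInstanceAs (IsProper (toQ J f 0 ≫ CohB1.specQuot J 0))
  haveI : LocallyOfFiniteType (𝔛.X 0 ↘ Spec (CommRingCat.of A)) := inferInstanceAs (LocallyOfFiniteType (toA J f 0))
  let N : (𝔛.X 0).Modules := K0 hL 𝔉 k
  have hfin := finH_of_properCoh (𝔛.X 0 ↘ Spec (CommRingCat.of A))
    (properCoh_of_isProper (toA J f 0) (isCoh_pullSys hL (isCohF_K hL 𝔉 h𝔉 k) 0)) q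
  let τ := H10Coh.actM (H10Coh.toΓ (𝔛.X 0 ↘ Spec (CommRingCat.of A))) N
  letI := τ.mod q ⊤
  haveI : Module.Finite A (H10Coh.HnM N q ⊤) := hfin
  obtain ⟨r, t₀, ht⟩ := Module.Finite.exists_fin (R := A) (M := H10Coh.HnM N q ⊤)
  obtain ⟨Φ, hΦ⟩ := exists_level0_H (𝔛 := 𝔛) hL.1 q
  haveI := isIso_unit_K J f hL 𝔉 hf h𝔉 k
  let ε : H[K hL 𝔉 k, q] ≃+ H10Coh.HnM N q ⊤ :=
    ((GrTower.hmEquiv (η0 hL 𝔉 k) inferInstance q).trans (Φ N).symm).trans (H10Coh.HHEquiv N q)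
  have hε : ∀ (a : A) (z : H[K hL 𝔉 k, q]), ε (GrTower.hm (sm J f hL a (K hL 𝔉 k)) q z) = a • ε z := fun a z => by
    have h1 : GrTower.hm (η0 hL 𝔉 k) q (GrTower.hm (sm J f hL a (K hL 𝔉 k)) q z) =
        GrTower.hm ((FSch.levelMor 𝔛 hL.1 0).push.map (Formal.smulMod A N a)) q (GrTower.hm (η0 hL 𝔉 k) q z) := by
      refine (GrTower.hm_comp _ _ q z).symm.trans (Eq.trans ?_ (GrTower.hm_comp _ _ q z))
      refine congrArg (fun φ : K hL 𝔉 k ⟶ (FSch.levelMor 𝔛 hL.1 0).push.obj N => GrTower.hm φ q z) ?_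
      rw [← pull_map_sm J f hL rfl a (K hL 𝔉 k)]
      exact (FSch.levelMor 𝔛 hL.1 0).adj.unit.naturality (sm J f hL a (K hL 𝔉 k))
    have h2 : (Φ N).symm (GrTower.hm (η0 hL 𝔉 k) q (GrTower.hm (sm J f hL a (K hL 𝔉 k)) q z)) =
        Hm (Formal.smulMod A N a) q ((Φ N).symm (GrTower.hm (η0 hL 𝔉 k) q z)) := by
      apply (Φ N).injective
      rw [AddEquiv.apply_symm_apply, h1]
      exact (congrArg _ ((Φ N).apply_symm_apply _).symm).trans (hΦ N N (Formal.smulMod A N a) _)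
    show H10Coh.HHEquiv N q ((Φ N).symm (GrTower.hm (η0 hL 𝔉 k) q _)) = _
    rw [h2]
    exact H10Coh.topEquiv_map _ q _
  refine ⟨r, fun i => ε.symm (t₀ i), fun z => ?_⟩
  obtain ⟨a, ha⟩ := (Submodule.mem_span_range_iff_exists_fun _).1 (show ε z ∈ Submodule.span A (Set.range t₀) from ht ▸ Submodule.mem_top)
  refine ⟨a, ε.injective ?_⟩
  rw [map_sum, ← ha]
  exact Finset.sum_congr rfl fun i _ => by rw [hε, AddEquiv.apply_symm_apply]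

end Groth.Agent.H24Formal3.GrStep
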