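import Groth.Agent.H24Formal3.FormalLevels
import Groth.Prelude.Def_FSch6
import Groth.Agent.H10Coh.ModGroth

/-!
# Higher direct images of levels are quasi-coherent modules on levels
-/

set_option autoImplicit false
set_option linter.style.haveILetI false
set_option linter.unusedSectionVars false

universe u

attribute [-instance] CategoryTheory.catToReflQuiver

open AlgebraicGeometry CategoryTheory CategoryTheory.Limits TopologicalSpace Opposite CategoryTheory.Abelian

namespace Groth.Agent.H24Formal3.FormalLevels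

attribute [local instance 10000] H15Site.SiteInst.hasSheafifySite H15Site.SiteInst.hasWeakSheafifySite
  H15Site.SiteInst.hasExtSite H15Site.SiteInst.enoughInjSite
attribute [local instance] H10Coh.enoughInjMod

open ModRpush H24FMod.GrF

variable {𝔛 : FSch.Sys.{u}} (hX : 𝔛.IsLocNoethFormal)

theorem preservesFiniteColimits_levelPush (k : ℕ) :
    PreservesFiniteColimits (FSch.levelMor 𝔛 hX.1 k).push := by
  let T := SheafOfModules.toSheaf.{u} (ModSite.ringSh (𝔛.Osh hX.1))
  haveI : PreservesFiniteColimits T := H10Coh.preservesFiniteColimits_toSheaf _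
  haveI := H15Site.ClosedPushAb.push_preservesFiniteColimits (𝔛.gInv hX.1 k) (isClosedEmbedding_gInv hX k)
  haveI : PreservesFiniteColimits (H10Coh.shF (𝔛.X k)) := H10Coh.preservesFiniteColimits_toSheaf _
  haveI : PreservesFiniteColimits ((FSch.levelMor 𝔛 hX.1 k).push ⋙ T) := by
    change PreservesFiniteColimits (H10Coh.shF (𝔛.X k) ⋙ CohTop.push (𝔛.gInv hX.1 k))
    exact comp_preservesFiniteColimits _ _
  haveI : T.ReflectsIsomorphisms := reflectsIsomorphisms_of_reflectsMonomorphisms_of_reflectsEpimorphisms T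
  haveI : ∀ (K : Type) [SmallCategory K] [FinCategory K], ReflectsColimitsOfShape K T := fun _ _ _ =>
    reflectsColimitsOfShape_of_reflectsIsomorphisms
  haveI : ReflectsFiniteColimits T := { reflects := fun _ _ _ => inferInstance }
  exact preservesFiniteColimits_of_reflects_of_preserves _ T

variable {𝔜 : FSch.Sys.{u}} (hY : 𝔜.IsLocNoethFormal) (f : 𝔛 ⟶ 𝔜)
  [HasInjectiveResolutions (FSch.ModF 𝔛 hX.1)]

theorem isAcyclic_levelPush_of_flasque (k : ℕ) (I : (𝔛.X k).Modules) (hI : H10Coh.Flasque (H10Coh.sh I)) :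
    H16Derived.AcyclicLES.IsAcyclic (FSch.pushF f hX.1 hY.1) ((FSch.levelMor 𝔛 hX.1 k).push.obj I) := by
  intro j hj
  obtain ⟨m, rfl⟩ := Nat.exists_eq_succ_of_ne_zero hj.ne'
  let φ := FSch.homMor f hX.1 hY.1
  obtain ⟨e⟩ := nonempty_modRpushIso φ (m + 1)
  let T := SheafOfModules.toSheaf.{u} (ModSite.ringSh (𝔜.Osh hY.1))
  suffices h : IsZero (T.obj ((φ.Rpush (m + 1)).obj ((FSch.levelMor 𝔛 hX.1 k).push.obj I))) by
    exact (IsZero.iff_id_eq_zero _).2 (T.map_injective
      ((T.map_id _).trans (((IsZero.iff_id_eq_zero _).1 h).trans (T.map_zero _ _).symm)))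
  refine IsZero.of_iso ?_ (e.app _)
  refine Functor.map_isZero (presheafToSheaf _ _) (Functor.isZero _ fun U => ?_)
  haveI := LevelPresheaf.subsingleton_hP_of_flasque
    (H10Coh.flasque_push (𝔛.gInv hX.1 k) hI) m ((Opens.map ((f : FSch.Hom 𝔛 𝔜).app 0).base).op.obj U)
  exact @AddCommGrpCat.isZero_of_subsingleton _ this

variable (𝔉 : FSch.ModF 𝔛 hX.1) (h𝔉 : FSch.IsCohF 𝔛 hX.1 𝔉)

include h𝔉 in
/-- The higher direct image of a level is the direct image of a quasi-coherent module on the level. -/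
theorem exists_qcoh_level (hqc : QuasiCompact ((f : FSch.Hom 𝔛 𝔜).app 0)) (q k : ℕ) :
    ∃ N : (𝔜.X k).Modules, N.IsQuasicoherent ∧
      Nonempty ((FSch.RpushF f hX.1 hY.1 q).obj (G hX 𝔉 k) ≅ (FSch.levelMor 𝔜 hY.1 k).push.obj N) := by
  haveI := quasiCompact_app hX hY f hqc k
  haveI := quasiSeparated_app hX f k
  let fk := (f : FSch.Hom 𝔛 𝔜).app k
  let M := (H24FMod.pullSys hX 𝔉).F k
  haveI hM : M.IsQuasicoherent := qcoh_level hX 𝔉 h𝔉 k
  let F := FSch.pushF f hX.1 hY.1
  let lX : (𝔛.X k).Modules ⥤ FSch.ModF 𝔛 hX.1 := (FSch.levelMor 𝔛 hX.1 k).push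
  let lY : (𝔜.X k).Modules ⥤ FSch.ModF 𝔜 hY.1 := (FSch.levelMor 𝔜 hY.1 k).push
  haveI : F.IsRightAdjoint := (FSch.homMor f hX.1 hY.1).adj.isRightAdjoint
  haveI : PreservesFiniteLimits F := inferInstance
  let sq := FSch.lvPushSq f hX.1 hY.1 k
  cases q with
  | zero => exact ⟨_, H10Coh.isQuasicoherent_pushforward fk M, ⟨F.rightDerivedZeroIsoSelf.app _ ≪≫ sq.app M⟩⟩
  | succ n =>
    haveI : EnoughInjectives (FSch.ModF 𝔛 hX.1) := H10Coh.enoughInjectives_sheafOfModules _
    haveI := preservesFiniteColimits_levelPush hX k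
    haveI := @preservesFiniteColimits_levelPush 𝔜 hY k
    haveI : lX.IsRightAdjoint := (FSch.levelMor 𝔛 hX.1 k).adj.isRightAdjoint
    haveI : PreservesFiniteLimits lX := inferInstance
    haveI : lX.Additive := ⟨fun {_ _ _ _} => H24FMod.hom_ext_sec fun _ _ => rfl⟩
    haveI : lX.PreservesZeroMorphisms := ⟨fun _ _ => H24FMod.hom_ext_sec fun _ _ => rfl⟩
    haveI : PreservesFiniteColimits lX := preservesFiniteColimits_levelPush hX k
    haveI : PreservesFiniteLimits lX := by assumption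
    haveI : lY.PreservesZeroMorphisms := ⟨fun _ _ => H24FMod.hom_ext_sec fun _ _ => rfl⟩
    haveI : PreservesFiniteColimits lY := preservesFiniteColimits_levelPush hY k
    let R := H10Coh.MRes.inj M
    haveI : (R.Z 0).IsQuasicoherent := hM
    obtain ⟨e⟩ := H10Coh.nonempty_rightDerived_of_chain F n (fun j => lX.obj (R.Z j)) (fun j => lX.obj (R.I j))
      (fun j => lX.map (R.i j)) (fun j => lX.map (R.p j))
      (fun j => (lX.map_comp _ _).symm.trans ((congrArg lX.map (R.w j)).trans (lX.map_zero _ _)))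
      (fun j => (R.se j).map_of_exact lX) (fun j => isAcyclic_levelPush_of_flasque hX hY f k (R.I j) (R.fl j))
    exact ⟨H10Coh.hdir fk R n, H10Coh.isQuasicoherent_hdir fk R n, ⟨e ≪≫
      cokernel.mapIso (F.map (lX.map (R.p n))) (lY.map ((Coh.push fk).map (R.p n)))
        (sq.app (R.I n)) (sq.app (R.Z (n + 1))) (sq.hom.naturality (R.p n)) ≪≫
      (PreservesCokernel.iso lY ((Coh.push fk).map (R.p n))).symm⟩⟩

end Groth.Agent.H24Formal3.FormalLevels
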