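import Groth.Agent.H24Formal3.ModRpush
import Groth.Agent.H10Coh.HigherDirect2
import Groth.Agent.H15Site.ClosedPushAb

/-!
# Cohomology presheaves of direct images along closed embeddings of quasi-coherent modules
-/

set_option autoImplicit false
set_option linter.style.haveILetI false
set_option linter.unusedSectionVars false
set_option backward.isDefEq.respectTransparency false

universe u

open CategoryTheory CategoryTheory.Limits Opposite TopologicalSpace CategoryTheory.Abelian AlgebraicGeometry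

namespace Groth.Agent.H24Formal3.LevelPresheaf

attribute [local instance 10000] H15Site.SiteInst.hasSheafifySite H15Site.SiteInst.hasWeakSheafifySite
  H15Site.SiteInst.hasExtSite H15Site.SiteInst.enoughInjSite

open ModRpush

variable {Z T : TopCat.{u}} (θ : Z ⟶ T) (hθ : Topology.IsClosedEmbedding θ)

theorem subsingleton_hP_of_flasque {F : CohTop.Ab T} (hF : H10Coh.Flasque F) (p : ℕ) (U : (Opens T)ᵒᵖ) :
    Subsingleton (((hP (Opens.grothendieckTopology T) (p + 1)).obj F).obj U) := by
  obtain ⟨E, -⟩ := exists_ev (J := Opens.grothendieckTopology T) U.unop (p + 1)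
  haveI : Subsingleton (Ext (CohCx.freeSheaf (Opens.grothendieckTopology T) U.unop) F (p + 1)) :=
    H10Coh.subsingleton_of_flasque hF p U.unop
  exact (E F).toEquiv.subsingleton

theorem isAcyclic_of_flasque {F : CohTop.Ab T} (hF : H10Coh.Flasque F) :
    H16Derived.AcyclicLES.IsAcyclic (sheafToPresheaf (Opens.grothendieckTopology T) AddCommGrpCat.{u}) F := by
  intro j hj
  obtain ⟨m, rfl⟩ := Nat.exists_eq_succ_of_ne_zero hj.ne'
  refine Functor.isZero _ fun U => ?_
  haveI := subsingleton_hP_of_flasque hF m U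
  exact AddCommGrpCat.isZero_of_subsingleton _

variable (R : H10Coh.FRes Z)

include hθ in
/-- The cohomology presheaf of a direct image is the quotient of the presheaf of cocycles. -/
theorem nonempty_hP_coker (n : ℕ) :
    Nonempty ((hP (Opens.grothendieckTopology T) (n + 1)).obj ((CohTop.push θ).obj (R.Z 0)) ≅
      cokernel (Functor.whiskerLeft (Opens.map θ).op (R.p n).hom)) := by
  haveI := H15Site.ClosedPushAb.push_preservesFiniteLimits θ
  haveI := H15Site.ClosedPushAb.push_preservesFiniteColimits θ hθ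
  let P := CohTop.push θ
  let Φ := sheafToPresheaf (Opens.grothendieckTopology T) AddCommGrpCat.{u}
  haveI : Φ.Additive := additive_sheafToPresheaf
  exact H10Coh.nonempty_rightDerived_of_chain Φ n (fun k => P.obj (R.Z k)) (fun k => P.obj (R.I k))
    (fun k => P.map (R.i k)) (fun k => P.map (R.p k))
    (fun k => (P.map_comp _ _).symm.trans ((congrArg P.map (R.w k)).trans (P.map_zero _ _)))
    (fun k => (R.se k).map_of_exact P) fun k => isAcyclic_of_flasque (H10Coh.flasque_push θ (R.fl k))

/-- Surjectivity of the quotient map of presheaves on sections. -/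
theorem cokernel_π_app_surjective {D : Type u} [SmallCategory D] {P Q : Dᵒᵖ ⥤ AddCommGrpCat.{u}} (φ : P ⟶ Q)
    (U : Dᵒᵖ) : Function.Surjective ((cokernel.π φ).app U).hom :=
  (AddCommGrpCat.epi_iff_surjective _).1 inferInstance

theorem exists_of_cokernel_π_app_eq_zero {D : Type u} [SmallCategory D] {P Q : Dᵒᵖ ⥤ AddCommGrpCat.{u}} (φ : P ⟶ Q)
    (U : Dᵒᵖ) (x : Q.obj U) (hx : ((cokernel.π φ).app U).hom x = 0) : ∃ y, (φ.app U).hom y = x := by
  let ev := (evaluation Dᵒᵖ AddCommGrpCat.{u}).obj U
  have h := (ShortComplex.exact_of_g_is_cokernel (ShortComplex.mk φ (cokernel.π φ) (cokernel.condition φ))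
    (cokernelIsCokernel φ)).map ev
  exact (ShortComplex.ab_exact_iff _).1 h x hx

include hθ in
theorem subsingleton_hP_of_surjective (n : ℕ) (U : Opens T)
    (h : Function.Surjective ((R.p n).hom.app (op ((Opens.map θ).obj U))).hom) :
    Subsingleton (((hP (Opens.grothendieckTopology T) (n + 1)).obj ((CohTop.push θ).obj (R.Z 0))).obj (op U)) := by
  obtain ⟨e⟩ := nonempty_hP_coker θ hθ R n
  let π := (cokernel.π (Functor.whiskerLeft (Opens.map θ).op (R.p n).hom)).app (op U)
  haveI : Subsingleton ((cokernel (Functor.whiskerLeft (Opens.map θ).op (R.p n).hom)).obj (op U)) :=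
    subsingleton_of_forall_eq 0 fun x => by
      obtain ⟨z, rfl⟩ := cokernel_π_app_surjective (Functor.whiskerLeft (Opens.map θ).op (R.p n).hom) (op U) x
      obtain ⟨y, rfl⟩ := h z
      exact congr($(NatTrans.congr_app (cokernel.condition (Functor.whiskerLeft (Opens.map θ).op (R.p n).hom)) (op U)) y)
  exact (Iso.addCommGroupIsoToAddEquiv (e.app (op U))).toEquiv.subsingleton

/-- A presheaf with a map to a sheaf, bijective on a covering family, agrees with its sheafification there. -/
theorem bijective_toSheafify_app {D : Type u} [SmallCategory D] {K : GrothendieckTopology D} {P : Dᵒᵖ ⥤ AddCommGrpCat.{u}}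
    (G : Sheaf K AddCommGrpCat.{u}) (β : P ⟶ G.obj) (B : Set D)
    (hB : ∀ V : D, ∃ (κ : Type u) (Y : κ → D) (g : ∀ k, Y k ⟶ V), Sieve.ofArrows Y g ∈ K V ∧ ∀ k, Y k ∈ B)
    (h : ∀ Y ∈ B, Function.Bijective (β.app (op Y)).hom) (V : D) (hV : V ∈ B) :
    Function.Bijective ((toSheafify K P).app (op V)).hom := by
  haveI hi := H15Site.RpushColim.isIso_sheafify_map (K := K) β B hB fun Y hY =>
    (ConcreteCategory.isIso_iff_bijective _).2 (h Y hY)
  haveI hi' : IsIso (sheafifyMap K β) := ((sheafToPresheaf K AddCommGrpCat.{u}).mapIso (asIso ((presheafToSheaf K AddCommGrpCat.{u}).map β))).isIso_hom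
  haveI := isIso_toSheafify K G.property
  have h1 : Function.Bijective ((β ≫ toSheafify K G.obj).app (op V)).hom := by
    rw [NatTrans.comp_app, AddCommGrpCat.hom_comp, AddMonoidHom.coe_comp]
    exact (ConcreteCategory.bijective_of_isIso ((toSheafify K G.obj).app (op V))).comp (h V hV)
  rw [toSheafify_naturality K β, NatTrans.comp_app, AddCommGrpCat.hom_comp, AddMonoidHom.coe_comp] at h1
  exact (Function.Bijective.of_comp_iff' (ConcreteCategory.bijective_of_isIso ((sheafifyMap K β).app (op V))) _).1 h1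

section Scheme

variable {X S : Scheme.{u}} (f : X ⟶ S) [QuasiCompact f] [QuasiSeparated f] (M : X.Modules) [M.IsQuasicoherent]
  {TX TS : TopCat.{u}} (θX : X.carrier ⟶ TX) (hθX : Topology.IsClosedEmbedding θX)
  (θS : S.carrier ⟶ TS) (w : Opens TS ⥤ Opens TX)

include hθX in
theorem subsingleton_hP_of_affine (U : Opens TX) (hU : IsAffineOpen (X := X) ((Opens.map θX).obj U)) (q : ℕ) :
    Subsingleton (((hP (Opens.grothendieckTopology TX) (q + 1)).obj ((CohTop.push θX).obj (H10Coh.sh M))).obj (op U)) :=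
  subsingleton_hP_of_surjective θX hθX (H10Coh.MRes.inj M).toF q U
    ((H10Coh.FRes.subsingleton_iff (H10Coh.MRes.inj M).toF q _).1
      (H10Coh.subsingleton_HnM_of_isAffineOpen M hU q))

include hθX in
/-- The pushed cohomology presheaf agrees with its sheafification on opens with affine trace. -/
theorem bijective_toSheafify_hP (hw : ∀ V, (Opens.map θX).obj (w.obj V) = f ⁻¹ᵁ ((Opens.map θS).obj V))
    (hcov : ∀ V : Opens TS, ∃ (κ : Type u) (Y : κ → Opens TS) (g : ∀ k, Y k ⟶ V),
      Sieve.ofArrows Y g ∈ Opens.grothendieckTopology TS V ∧ ∀ k, IsAffineOpen (X := S) ((Opens.map θS).obj (Y k)))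
    (n : ℕ) (V : Opens TS) (hV : IsAffineOpen (X := S) ((Opens.map θS).obj V)) :
    Function.Bijective ((toSheafify (Opens.grothendieckTopology TS)
      (w.op ⋙ (hP (Opens.grothendieckTopology TX) (n + 1)).obj ((CohTop.push θX).obj (H10Coh.sh M)))).app (op V)).hom := by
  let R := H10Coh.MRes.inj M
  haveI hR : (R.Z 0).IsQuasicoherent := ‹M.IsQuasicoherent›
  obtain ⟨e⟩ := nonempty_hP_coker θX hθX R.toF n
  let φ := Functor.whiskerLeft (Opens.map θX).op (R.toF.p n).hom
  let G : Sheaf (Opens.grothendieckTopology TS) AddCommGrpCat.{u} :=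
    (CohTop.push θS).obj (H10Coh.sh (H10Coh.hdir f R n))
  have hWV : ∀ W : Opens TS, f ⁻¹ᵁ ((Opens.map θS).obj W) ≤ (Opens.map θX).obj (w.obj W) := fun W => (hw W).ge
  let b : ∀ W : (Opens TS)ᵒᵖ, (R.Z (n + 1)).presheaf.obj (op ((Opens.map θX).obj (w.obj W.unop))) ⟶
      (H10Coh.hdir f R n).presheaf.obj (op ((Opens.map θS).obj W.unop)) := fun W =>
    (R.Z (n + 1)).presheaf.map (homOfLE (hWV W.unop)).op ≫
      AddCommGrpCat.ofHom (H10Coh.piA f R n ((Opens.map θS).obj W.unop))
  let β₀ : w.op ⋙ (Opens.map θX).op ⋙ (R.toF.Z (n + 1)).obj ⟶ G.obj :=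
    { app := b
      naturality := fun W W' k => by
        ext z
        show H10Coh.piA f R n _ ((R.Z (n + 1)).presheaf.map (homOfLE (hWV W'.unop)).op
            ((R.Z (n + 1)).presheaf.map ((Opens.map θX).map (w.map k.unop)).op z)) =
          (H10Coh.hdir f R n).presheaf.map ((Opens.map θS).map k.unop).op
            (H10Coh.piA f R n _ ((R.Z (n + 1)).presheaf.map (homOfLE (hWV W.unop)).op z))
        refine Eq.trans ?_ (H10Coh.piA_rs f R n ((Opens.map θS).map k.unop).le _)
        refine congrArg _ ?_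
        show ((R.Z (n + 1)).presheaf.map _ ≫ (R.Z (n + 1)).presheaf.map _) z =
          ((R.Z (n + 1)).presheaf.map _ ≫ (R.Z (n + 1)).presheaf.map _) z
        rw [← Functor.map_comp, ← Functor.map_comp]
        exact congr((R.Z (n + 1)).presheaf.map $(Subsingleton.elim _ _) z) }
  let L := (Functor.whiskeringLeft (Opens TS)ᵒᵖ (Opens TX)ᵒᵖ AddCommGrpCat.{u}).obj w.op
  have hBd : ∀ (W : Opens TS) (z : Γ(R.Z (n + 1), (Opens.map θX).obj (w.obj W))),
      H10Coh.Bd R (n + 1) ((R.Z (n + 1)).presheaf.map (homOfLE (hWV W)).op z) ↔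
        ∃ y, ((R.p n).app ((Opens.map θX).obj (w.obj W))).hom y = z := fun W z => by
    constructor
    · intro hz
      have h2 := H10Coh.Bd.res R (n + 1) (hw W).le hz
      have e : H10Coh.rs (R.Z (n + 1)) (hw W).le ((R.Z (n + 1)).presheaf.map (homOfLE (hWV W)).op z) = z :=
        (H10Coh.rs_rs (R.Z (n + 1)) (hWV W) (hw W).le z).trans (H10Coh.rs_self _ _ z)
      exact e ▸ h2
    · intro hz
      exact H10Coh.Bd.res R (n + 1) (hWV W) hz
  have h0 : L.map φ ≫ β₀ = 0 := by
    ext W y
    exact H10Coh.piA_eq_zero_of_Bd f R n _ _ ((hBd W.unop _).2 ⟨y, rfl⟩)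
  let β : w.op ⋙ cokernel φ ⟶ G.obj := (PreservesCokernel.iso L φ).hom ≫ cokernel.desc (L.map φ) β₀ h0
  have hβ : L.map (cokernel.π φ) ≫ β = β₀ :=
    (PreservesCokernel.π_iso_hom_assoc L φ _).trans (cokernel.π_desc _ _ _)
  have hb : ∀ Y : Opens TS, IsAffineOpen (X := S) ((Opens.map θS).obj Y) → Function.Bijective (β.app (op Y)).hom := by
    intro Y hY
    have hπ := cokernel_π_app_surjective φ (op (w.obj Y))
    have hval : ∀ z, (β.app (op Y)).hom (((cokernel.π φ).app (op (w.obj Y))).hom z) = (β₀.app (op Y)).hom z :=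
      fun z => congr($(NatTrans.congr_app hβ (op Y)) z)
    refine ⟨(injective_iff_map_eq_zero _).2 fun x hx => ?_, fun t => ?_⟩
    · obtain ⟨z, rfl⟩ := hπ x
      obtain ⟨y, rfl⟩ := (hBd Y z).1 (H10Coh.Bd_of_piA_eq_zero f R n hY _ ((hval z).symm.trans hx))
      exact congr($(NatTrans.congr_app (cokernel.condition φ) (op (w.obj Y))) y)
    · obtain ⟨z, hz⟩ := H10Coh.piA_surjective f R n hY t
      refine ⟨((cokernel.π φ).app (op (w.obj Y))).hom ((R.Z (n + 1)).presheaf.map (homOfLE (hw Y).le).op z),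
        (hval _).trans (Eq.trans ?_ hz)⟩
      refine congrArg (H10Coh.piA f R n _) ?_
      exact (H10Coh.rs_rs (R.Z (n + 1)) (hw Y).le (hWV Y) z).trans (H10Coh.rs_self _ _ z)
  let B : Set (Opens TS) := {Y | IsAffineOpen (X := S) ((Opens.map θS).obj Y)}
  have key := bijective_toSheafify_app G (L.map e.hom ≫ β) B hcov (fun Y hY => by
    rw [NatTrans.comp_app, AddCommGrpCat.hom_comp, AddMonoidHom.coe_comp]
    exact (hb Y hY).comp (ConcreteCategory.bijective_of_isIso (e.hom.app (op (w.obj Y))))) V hV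
  exact key

end Scheme

end Groth.Agent.H24Formal3.LevelPresheaf
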