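import Groth.Agent.H24Formal3.LevelModule
import Groth.Agent.H24FMod.PullSec

/-!
# Localisation of sections of quasi-coherent modules on levels
-/

set_option autoImplicit false
set_option linter.style.haveILetI false
set_option linter.unusedSectionVars false

universe u

attribute [-instance] CategoryTheory.catToReflQuiver

open AlgebraicGeometry CategoryTheory CategoryTheory.Limits TopologicalSpace Opposite

namespace Groth.Agent.H24Formal3.Localise

open H24FMod H15Site.ModTensor H15Site.ModRel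

variable {𝔜 : FSch.Sys.{u}} (hY : 𝔜.IsLocNoethFormal)

/-- The open where a section of the structure sheaf does not vanish. -/
noncomputable def DB (V : (𝔜.X 0).Opens) (g : OSec hY.1 V) : (𝔜.X 0).Opens :=
  (𝔜.X 0).basicOpen (tz hY 0 V (oP hY.1 0 V g))

theorem DB_le (V : (𝔜.X 0).Opens) (g : OSec hY.1 V) : DB hY V g ≤ V := (𝔜.X 0).basicOpen_le _

theorem isAffineOpen_DB {V : (𝔜.X 0).Opens} (hV : IsAffineOpen V) (g : OSec hY.1 V) : IsAffineOpen (DB hY V g) :=
  hV.basicOpen _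

theorem tz_oP (k : ℕ) (V : (𝔜.X 0).Opens) (g : OSec hY.1 V) :
    tz hY k V (oP hY.1 k V g) = tz hY 0 V (oP hY.1 0 V g) := by
  induction k with
  | zero => rfl
  | succ k ih =>
    rw [← ih, ← trO_oP hY.1 k V g]
    exact congr($((tz_succ hY k V).symm) (oP hY.1 (k + 1) V g))

theorem lvU_DB (k : ℕ) (V : (𝔜.X 0).Opens) (g : OSec hY.1 V) :
    𝔜.lvU hY.1 k (DB hY V g) = (𝔜.X k).basicOpen (oP hY.1 k V g) := by
  have h : DB hY V g = pv k ((𝔜.X k).basicOpen (oP hY.1 k V g)) := by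
    rw [DB, ← tz_oP hY k V g, tz]
    refine (Scheme.basicOpen_appLE (𝔜.toX k) _ _ _ _).trans ?_
    refine inf_eq_right.2 ?_
    exact ((Opens.map (𝔜.toX k).base).monotone ((𝔜.X k).basicOpen_le _)).trans (lvU_toX hY k V).le
  rw [h]
  exact lvU_pv (hL := hY) k _

/-- A basic system of affine opens in an affine open. -/
theorem exists_DB_le {V : (𝔜.X 0).Opens} (hV : IsAffineOpen V) (W : (𝔜.X 0).Opens) (x : 𝔜.X 0) (hxW : x ∈ W)
    (hxV : x ∈ V) : ∃ g : OSec hY.1 V, DB hY V g ≤ W ∧ x ∈ DB hY V g := by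
  obtain ⟨s, hs, hxs⟩ := hV.exists_basicOpen_le ⟨x, hxW⟩ hxV
  have hsurj : Function.Surjective (fun g : OSec hY.1 V => tz hY 0 V (oP hY.1 0 V g)) :=
    (bijective_res_ring (X := 𝔜.X 0) (lvU_toX hY 0 V).ge (lvU_toX hY 0 V).le).2.comp (surjective_oP hY hV 0)
  obtain ⟨g, hg⟩ := hsurj s
  refine ⟨g, ?_, ?_⟩
  · show (𝔜.X 0).basicOpen (tz hY 0 V (oP hY.1 0 V g)) ≤ W
    rw [show tz hY 0 V (oP hY.1 0 V g) = s from hg]
    exact hs
  · show x ∈ (𝔜.X 0).basicOpen (tz hY 0 V (oP hY.1 0 V g))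
    rw [show tz hY 0 V (oP hY.1 0 V g) = s from hg]
    exact hxs

/-- Restriction of sections of the structure sheaf to the basic open. -/
noncomputable abbrev resDB (V : (𝔜.X 0).Opens) (g : OSec hY.1 V) : OSec hY.1 V →+* OSec hY.1 (DB hY V g) :=
  ((𝔜.Osh hY.1).obj.map (homOfLE (DB_le hY V g)).op).hom

theorem isUnit_resDB (V : (𝔜.X 0).Opens) (g : OSec hY.1 V) : IsUnit (resDB hY V g g) := by
  let W := DB hY V g
  have hu : ∀ n, IsUnit (oP hY.1 n W (resDB hY V g g)) := fun n => by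
    rw [show oP hY.1 n W (resDB hY V g g) = _ from oP_res hY.1 n (homOfLE (DB_le hY V g)) g]
    let a : Γ(𝔜.X n, 𝔜.lvU hY.1 n V) := oP hY.1 n V g
    have h1 := ((𝔜.X n).toRingedSpace.isUnit_res_basicOpen a).map ((𝔜.X n).presheaf.map (homOfLE (lvU_DB hY n V g).le).op).hom
    refine (iff_of_eq (congrArg IsUnit ?_)).2 h1
    exact (congr((𝔜.X n).presheaf.map $(Subsingleton.elim _ _) a)).trans
      (congr($((𝔜.X n).presheaf.map_comp (homOfLE ((𝔜.X n).basicOpen_le a)).op (homOfLE (lvU_DB hY n V g).le).op) a))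
  let s : ∀ n, Γ(𝔜.X n, 𝔜.lvU hY.1 n W) := fun n => ↑(hu n).unit⁻¹
  obtain ⟨r, hr⟩ := exists_oP hY.1 W s fun n => by
    refine (hu n).mul_left_cancel ?_
    refine Eq.trans ?_ (hu n).mul_val_inv.symm
    nth_rewrite 1 [← trO_oP hY.1 n W (resDB hY V g g)]
    rw [← map_mul]
    exact (congrArg _ (hu (n + 1)).mul_val_inv).trans (map_one _)
  refine IsUnit.of_mul_eq_one r (oP_ext hY.1 _ _ fun n => ?_)
  rw [map_mul, map_one, hr n]
  exact (hu n).mul_val_inv

/-- Sections of a level module over a basic open are fractions of sections over the affine open. -/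
theorem exists_clear_push (k : ℕ) (N : (𝔜.X k).Modules) [N.IsQuasicoherent] {V : (𝔜.X 0).Opens}
    (hV : IsAffineOpen V) (g : OSec hY.1 V)
    (x : Sec hY.1 ((FSch.levelMor 𝔜 hY.1 k).push.obj N) (DB hY V g)) :
    ∃ (m : ℕ) (x₀ : Sec hY.1 ((FSch.levelMor 𝔜 hY.1 k).push.obj N) V),
      resDB hY V g g ^ m • x = rs ((forg _).obj ((FSch.levelMor 𝔜 hY.1 k).push.obj N)) (homOfLE (DB_le hY V g)).op x₀ := by
  have hVk := isAffineOpen_lvU hY hV k
  let a : Γ(𝔜.X k, 𝔜.lvU hY.1 k V) := oP hY.1 k V g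
  letI := Module.compHom Γ(N, (𝔜.X k).basicOpen a) (algebraMap Γ(𝔜.X k, 𝔜.lvU hY.1 k V) Γ(𝔜.X k, (𝔜.X k).basicOpen a))
  haveI := H29Fitt.isLocalizedModule_resLin N ‹_› hVk a
  let x' : Γ(N, (𝔜.X k).basicOpen a) := N.presheaf.map (homOfLE (lvU_DB hY k V g).ge).op x
  obtain ⟨⟨x₀, _, m, rfl⟩, hm⟩ := IsLocalizedModule.surj (Submonoid.powers a) (H29Fitt.resLin N a) x'
  refine ⟨m, x₀, ?_⟩
  have h2 : (𝔜.X k).presheaf.map (homOfLE ((𝔜.X k).basicOpen_le a)).op (a ^ m) • x' =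
      N.presheaf.map (homOfLE ((𝔜.X k).basicOpen_le a)).op x₀ := hm
  refine (bijective_res_of_le_le N (lvU_DB hY k V g).ge (lvU_DB hY k V g).le).1 ?_
  refine (Scheme.Modules.map_smul N (homOfLE (lvU_DB hY k V g).ge) (oP hY.1 k (DB hY V g) (resDB hY V g g ^ m)) _).trans ?_
  refine Eq.trans ?_ (h2.trans (map_map_eq N _ _ x₀).symm)
  refine congrArg (· • x') ?_
  rw [← map_pow (resDB hY V g) g m, show oP hY.1 k (DB hY V g) (resDB hY V g (g ^ m)) = _ from
    oP_res hY.1 k (homOfLE (DB_le hY V g)) (g ^ m), map_pow]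
  show ((𝔜.X k).presheaf.map _ ≫ (𝔜.X k).presheaf.map _) (oP hY.1 k V g ^ m) = _
  rw [← Functor.map_comp]
  rfl

end Groth.Agent.H24Formal3.Localise
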