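import Groth.Agent.H15Site.RpushColim
import Groth.Agent.H15Site.ModExtH
import Groth.Agent.H02CA.RestrScal.Precomp
import Groth.Prelude.Def_ModSite

/-!
# Higher direct images of modules as sheafified cohomology presheaves, naturally in the module
-/

set_option autoImplicit false
set_option linter.style.haveILetI false
set_option linter.unusedSectionVars false
set_option backward.isDefEq.respectTransparency false

universe u

open CategoryTheory CategoryTheory.Limits Opposite CategoryTheory.Abelian

namespace Groth.Agent.H24Formal3.ModRpush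

attribute [local instance 10000] H15Site.SiteInst.hasSheafifySite H15Site.SiteInst.hasWeakSheafifySite
  H15Site.SiteInst.hasExtSite H15Site.SiteInst.enoughInjSite

variable {C D : Type u} [SmallCategory C] [SmallCategory D] {J : GrothendieckTopology C}
  {K : GrothendieckTopology D}

theorem additive_sheafToPresheaf : (sheafToPresheaf J AddCommGrpCat.{u}).Additive :=
  ⟨fun {_ _ _ _} => rfl⟩

/-- The cohomology presheaves as right derived functors. -/
noncomputable abbrev hP (J : GrothendieckTopology C) (q : ℕ) :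
    Sheaf J AddCommGrpCat.{u} ⥤ Cᵒᵖ ⥤ AddCommGrpCat.{u} :=
  haveI := additive_sheafToPresheaf (J := J)
  (sheafToPresheaf J AddCommGrpCat.{u}).rightDerived q

/-- The value of the cohomology presheaf. -/
theorem nonempty_evIso (U : C) (q : ℕ) :
    Nonempty (hP J q ⋙ (evaluation Cᵒᵖ AddCommGrpCat.{u}).obj (op U) ≅
      (extFunctor.{u} q).obj (op (CohCx.freeSheaf J U))) := by
  let Φ := sheafToPresheaf J AddCommGrpCat.{u}
  let ev := (evaluation Cᵒᵖ AddCommGrpCat.{u}).obj (op U)
  haveI : Φ.Additive := additive_sheafToPresheaf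
  haveI : (Φ ⋙ ev).Additive := ⟨fun {_ _ _ _} => rfl⟩
  obtain ⟨e₁⟩ := H15Site.RDExt.nonempty_iso (CohCx.freeSheaf J U) (Φ ⋙ ev)
    (fun M => (CohFree.homEquivSect J U M).symm) (fun M N f s => by
      apply (CohFree.homEquivSect J U N).injective
      refine Eq.trans ((CohFree.homEquivSect J U N).apply_symm_apply _) ?_
      exact (congrArg (f.hom.app (op U)).hom ((CohFree.homEquivSect J U M).apply_symm_apply s)).symm) q
  exact ⟨(H02CA.RDPostcomp.postcompIso Φ ev q).symm ≪≫ e₁⟩

/-- Natural identifications of the values with the cohomology groups. -/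
theorem exists_ev (U : C) (q : ℕ) :
    ∃ E : ∀ F : Sheaf J AddCommGrpCat.{u}, ((hP J q).obj F).obj (op U) ≃+ Ext (CohCx.freeSheaf J U) F q,
      ∀ (F G : Sheaf J AddCommGrpCat.{u}) (φ : F ⟶ G) (x : ((hP J q).obj F).obj (op U)),
        E G ((((hP J q).map φ).app (op U)).hom x) = (E F x).comp (Ext.mk₀ φ) (add_zero q) := by
  obtain ⟨e⟩ := nonempty_evIso (J := J) U q
  refine ⟨fun F => Iso.addCommGroupIsoToAddEquiv (e.app F), fun F G φ x => ?_⟩
  exact congr($(e.hom.naturality φ) x)

variable (u : D ⥤ C) [u.IsContinuous K J]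

/-- Higher direct images of abelian sheaves as sheafified cohomology presheaves, naturally. -/
theorem nonempty_rpushAbIso (q : ℕ) :
    Nonempty (CohSite.Rpush J K u q ≅ hP J q ⋙ H15Site.HigherDirectSite.shPush K u) := by
  let Φ := sheafToPresheaf J AddCommGrpCat.{u}
  let S := H15Site.HigherDirectSite.shPush K u (C := C)
  haveI : PreservesColimitsOfSize.{u, u} (presheafToSheaf K AddCommGrpCat.{u}) :=
    (sheafificationAdjunction K AddCommGrpCat.{u}).leftAdjoint_preservesColimits
  haveI : PreservesColimitsOfSize.{u, u} S := comp_preservesColimits _ _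
  haveI : PreservesFiniteColimits S := PreservesColimitsOfSize.preservesFiniteColimits _
  haveI : PreservesFiniteLimits S := comp_preservesFiniteLimits _ _
  haveI : S.Additive := Functor.additive_of_preserves_binary_products _
  haveI : Φ.Additive := additive_sheafToPresheaf
  exact ⟨(⟨NatTrans.rightDerived (H15Site.HigherDirectSite.shPushIso J K u).inv q,
      NatTrans.rightDerived (H15Site.HigherDirectSite.shPushIso J K u).hom q,
      by rw [← NatTrans.rightDerived_comp, Iso.inv_hom_id, NatTrans.rightDerived_id],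
      by rw [← NatTrans.rightDerived_comp, Iso.hom_inv_id, NatTrans.rightDerived_id]⟩ :
      (CohSite.push J K u).rightDerived q ≅ (Φ ⋙ S).rightDerived q) ≪≫
    H02CA.RDPostcomp.postcompIso Φ S q⟩

section Modules

variable {OC : Sheaf J CommRingCat.{u}} {OD : Sheaf K CommRingCat.{u}} (φ : ModSite.RMor OC OD)
  [HasInjectiveResolutions (ModSite.Mod OC)]

theorem isAcyclic_toSheaf_injective (I : ModSite.Mod OC) [Injective I] :
    H16Derived.AcyclicLES.IsAcyclic (CohSite.push J K φ.fn)
      ((SheafOfModules.toSheaf (ModSite.ringSh OC)).obj I) := by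
  intro j hj
  obtain ⟨m, rfl⟩ := Nat.exists_eq_succ_of_ne_zero hj.ne'
  exact H15Site.HigherDirectSite.isZero_Rpush_of_totallyAcyclic φ.fn _
    (H15Site.ModExtH.isTotallyAcyclic_toSheaf (ModSite.ringSh OC) I) m

/-- The abelian sheaf underlying the higher direct image of a module, naturally. -/
theorem nonempty_modRpushIso (q : ℕ) :
    Nonempty (φ.Rpush q ⋙ SheafOfModules.toSheaf (ModSite.ringSh OD) ≅
      SheafOfModules.toSheaf (ModSite.ringSh OC) ⋙ hP J q ⋙ H15Site.HigherDirectSite.shPush K φ.fn) := by
  let TC := SheafOfModules.toSheaf.{u} (ModSite.ringSh OC)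
  let TD := SheafOfModules.toSheaf.{u} (ModSite.ringSh OD)
  haveI : PreservesFiniteColimits TC := H10Coh.preservesFiniteColimits_toSheaf _
  haveI : PreservesFiniteColimits TD := H10Coh.preservesFiniteColimits_toSheaf _
  haveI : PreservesFiniteLimits (CohSite.push J K φ.fn) := H15Site.HigherDirectSite.push_preservesFiniteLimits φ.fn
  obtain ⟨e₁⟩ := H02CA.RestrScal.nonempty_precompIso TC (CohSite.push J K φ.fn)
    (fun I _ => isAcyclic_toSheaf_injective φ I) q
  let w : φ.push ⋙ TD ≅ TC ⋙ CohSite.push J K φ.fn := Iso.refl _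
  obtain ⟨e₂⟩ := nonempty_rpushAbIso (J := J) (K := K) φ.fn q
  exact ⟨(H02CA.RDPostcomp.postcompIso φ.push TD q).symm ≪≫
    (⟨NatTrans.rightDerived w.hom q, NatTrans.rightDerived w.inv q,
      by rw [← NatTrans.rightDerived_comp, Iso.hom_inv_id, NatTrans.rightDerived_id],
      by rw [← NatTrans.rightDerived_comp, Iso.inv_hom_id, NatTrans.rightDerived_id]⟩ :
      (φ.push ⋙ TD).rightDerived q ≅ (TC ⋙ CohSite.push J K φ.fn).rightDerived q) ≪≫
    e₁ ≪≫ Functor.isoWhiskerLeft TC e₂⟩

end Modules

end Groth.Agent.H24Formal3.ModRpush
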