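import Groth.Agent.H24Formal3.Restrict
import Groth.Agent.H24FMod.Sect
import Groth.Agent.H15Site.LocPres
import Groth.Agent.H15Site.HUBasic
import Groth.Agent.H24Formal3.ModRpush
import Groth.Agent.H02CA.RestrScal.Precomp

/-!
# Restriction of modules on a formal scheme to an open
-/

set_option autoImplicit false
set_option linter.style.haveILetI false
set_option linter.unusedSectionVars false

universe u

attribute [-instance] CategoryTheory.catToReflQuiver

open AlgebraicGeometry CategoryTheory CategoryTheory.Limits TopologicalSpace Opposite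

namespace Groth.Agent.H24Formal3.OpenRes

open H24FMod H15Site.ModTensor H15Site.ModRel

variable {𝔛 𝔜 : FSch.Sys.{u}}

/-- Level projections of the comorphism. -/
theorem oP_sharp (hX : 𝔛.IsFormal) (hY : 𝔜.IsFormal) (f : 𝔛 ⟶ 𝔜) (n : ℕ) (W : (𝔜.X 0).Opens) (b : OSec hY W) :
    oP hX n ((f : FSch.Hom 𝔛 𝔜).app 0 ⁻¹ᵁ W) (((FSch.homMor f hX hY).sharp.hom.app (op W)).hom b) =
      ((f : FSch.Hom 𝔛 𝔜).app n).appLE (𝔜.lvU hY n W) (𝔛.lvU hX n ((f : FSch.Hom 𝔛 𝔜).app 0 ⁻¹ᵁ W))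
        (FSch.Hom.lvU_preimage f hX hY n W).ge (oP hY n W b) :=
  congr(($(FSch.Hom.sharp_proj f hX hY n)).hom.app (op W) b)

section PushforwardSquare

variable {A B B' C : Type u} [SmallCategory A] [SmallCategory B] [SmallCategory B'] [SmallCategory C]
  {KA : GrothendieckTopology A} {KB : GrothendieckTopology B} {KB' : GrothendieckTopology B'} {KC : GrothendieckTopology C}
  {F₁ : A ⥤ B} {F₂ : B ⥤ C} {G₁ : A ⥤ B'} {G₂ : B' ⥤ C}
  [F₁.IsContinuous KA KB] [F₂.IsContinuous KB KC] [G₁.IsContinuous KA KB'] [G₂.IsContinuous KB' KC]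
  {SA : Sheaf KA RingCat.{u}} {SB : Sheaf KB RingCat.{u}} {SB' : Sheaf KB' RingCat.{u}} {SC : Sheaf KC RingCat.{u}}
  (φ₁ : SA ⟶ (F₁.sheafPushforwardContinuous RingCat.{u} KA KB).obj SB)
  (φ₂ : SB ⟶ (F₂.sheafPushforwardContinuous RingCat.{u} KB KC).obj SC)
  (ψ₁ : SA ⟶ (G₁.sheafPushforwardContinuous RingCat.{u} KA KB').obj SB')
  (ψ₂ : SB' ⟶ (G₂.sheafPushforwardContinuous RingCat.{u} KB' KC).obj SC)

/-- Direct images of modules around a square. -/
theorem nonempty_pushforward_square (α : G₁ ⋙ G₂ ≅ F₁ ⋙ F₂)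
    (he : ∀ (W : A) (x : SA.obj.obj (op W)),
      (SC.obj.map (α.hom.app W).op).hom ((φ₂.hom.app (op (F₁.obj W))).hom ((φ₁.hom.app (op W)).hom x)) =
        (ψ₂.hom.app (op (G₁.obj W))).hom ((ψ₁.hom.app (op W)).hom x)) :
    Nonempty (SheafOfModules.pushforward.{u} φ₂ ⋙ SheafOfModules.pushforward.{u} φ₁ ≅
      SheafOfModules.pushforward.{u} ψ₂ ⋙ SheafOfModules.pushforward.{u} ψ₁) := by
  haveI : (F₁ ⋙ F₂).IsContinuous KA KC := Functor.isContinuous_comp _ _ _ KB _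
  haveI : (G₁ ⋙ G₂).IsContinuous KA KC := Functor.isContinuous_comp _ _ _ KB' _
  refine ⟨SheafOfModules.pushforwardComp φ₁ φ₂ ≪≫ SheafOfModules.pushforwardCongr₂ _ α ?_ ≪≫
    (SheafOfModules.pushforwardComp ψ₁ ψ₂).symm⟩
  exact Sheaf.hom_ext (NatTrans.ext (funext fun W => RingCat.hom_ext (RingHom.ext fun x => he W.unop x)))

end PushforwardSquare

section Generic

variable {𝔄 𝔅 ℭ 𝔇 : FSch.Sys.{u}} (hA : 𝔄.IsFormal) (hB : 𝔅.IsFormal) (hD : 𝔇.IsFormal) (hC : ℭ.IsFormal)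

theorem oP_two (g : 𝔄 ⟶ 𝔅) (j : 𝔅 ⟶ ℭ) (D : (𝔄.X 0).Opens) (W : (𝔅.X 0).Opens) (W₀ : (ℭ.X 0).Opens)
    (l : D ≤ (g : FSch.Hom 𝔄 𝔅).app 0 ⁻¹ᵁ W) (l' : W ≤ (j : FSch.Hom 𝔅 ℭ).app 0 ⁻¹ᵁ W₀) (n : ℕ) (b : OSec hC W₀)
    (e : 𝔄.lvU hA n D ≤ ((g : FSch.Hom 𝔄 𝔅).app n ≫ (j : FSch.Hom 𝔅 ℭ).app n) ⁻¹ᵁ ℭ.lvU hC n W₀) :
    oP hA n D (rr (𝔄.Osh hA) (homOfLE l).op (((FSch.homMor g hA hB).sharp.hom.app (op W)).hom
        (rr (𝔅.Osh hB) (homOfLE l').op (((FSch.homMor j hB hC).sharp.hom.app (op W₀)).hom b)))) =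
      ((g : FSch.Hom 𝔄 𝔅).app n ≫ (j : FSch.Hom 𝔅 ℭ).app n).appLE (ℭ.lvU hC n W₀) (𝔄.lvU hA n D) e
        (oP hC n W₀ b) := by
  have hj : 𝔅.lvU hB n W ≤ (j : FSch.Hom 𝔅 ℭ).app n ⁻¹ᵁ ℭ.lvU hC n W₀ :=
    (lvU_mono hB n l').trans (FSch.Hom.lvU_preimage j hB hC n W₀).ge
  have hg : 𝔄.lvU hA n D ≤ (g : FSch.Hom 𝔄 𝔅).app n ⁻¹ᵁ 𝔅.lvU hB n W :=
    (lvU_mono hA n l).trans (FSch.Hom.lvU_preimage g hA hB n W).ge
  have h1 : oP hB n W (rr (𝔅.Osh hB) (homOfLE l').op (((FSch.homMor j hB hC).sharp.hom.app (op W₀)).hom b)) =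
      ((j : FSch.Hom 𝔅 ℭ).app n).appLE (ℭ.lvU hC n W₀) (𝔅.lvU hB n W) hj (oP hC n W₀ b) :=
    ((oP_res hB n (homOfLE l') _).trans
      (congrArg ((𝔅.X n).presheaf.map (homOfLE (lvU_mono hB n l')).op) (oP_sharp hB hC j n W₀ b))).trans
      (congr($(Scheme.Hom.appLE_map ((j : FSch.Hom 𝔅 ℭ).app n) (FSch.Hom.lvU_preimage j hB hC n W₀).ge
        (homOfLE (lvU_mono hB n l')).op) (oP hC n W₀ b)))
  refine ((oP_res hA n (homOfLE l) _).trans
    (congrArg ((𝔄.X n).presheaf.map (homOfLE (lvU_mono hA n l)).op) (oP_sharp hA hB g n W _))).trans ?_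
  refine (congr($(Scheme.Hom.appLE_map ((g : FSch.Hom 𝔄 𝔅).app n) (FSch.Hom.lvU_preimage g hA hB n W).ge
    (homOfLE (lvU_mono hA n l)).op) _)).trans ?_
  refine (congrArg (((g : FSch.Hom 𝔄 𝔅).app n).appLE (𝔅.lvU hB n W) (𝔄.lvU hA n D) hg) h1).trans ?_
  exact congr($(Scheme.Hom.appLE_comp_appLE _ _ _ _ _ hj hg) _)

/-- Comorphisms around a commutative square of levels. -/
theorem sharp_square (g : 𝔄 ⟶ 𝔅) (j : 𝔅 ⟶ ℭ) (j' : 𝔄 ⟶ 𝔇) (f : 𝔇 ⟶ ℭ)
    (hc : ∀ n, (g : FSch.Hom 𝔄 𝔅).app n ≫ (j : FSch.Hom 𝔅 ℭ).app n = (j' : FSch.Hom 𝔄 𝔇).app n ≫ (f : FSch.Hom 𝔇 ℭ).app n)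
    (D : (𝔄.X 0).Opens) (W : (𝔅.X 0).Opens) (W' : (𝔇.X 0).Opens) (W₀ : (ℭ.X 0).Opens)
    (l : D ≤ (g : FSch.Hom 𝔄 𝔅).app 0 ⁻¹ᵁ W) (l' : W ≤ (j : FSch.Hom 𝔅 ℭ).app 0 ⁻¹ᵁ W₀)
    (m : D ≤ (j' : FSch.Hom 𝔄 𝔇).app 0 ⁻¹ᵁ W') (m' : W' ≤ (f : FSch.Hom 𝔇 ℭ).app 0 ⁻¹ᵁ W₀) (b : OSec hC W₀) :
    rr (𝔄.Osh hA) (homOfLE l).op (((FSch.homMor g hA hB).sharp.hom.app (op W)).hom
        (rr (𝔅.Osh hB) (homOfLE l').op (((FSch.homMor j hB hC).sharp.hom.app (op W₀)).hom b))) =
      rr (𝔄.Osh hA) (homOfLE m).op (((FSch.homMor j' hA hD).sharp.hom.app (op W')).hom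
        (rr (𝔇.Osh hD) (homOfLE m').op (((FSch.homMor f hD hC).sharp.hom.app (op W₀)).hom b))) :=
  oP_ext hA _ _ fun n => by
    have e : 𝔄.lvU hA n D ≤ ((g : FSch.Hom 𝔄 𝔅).app n ≫ (j : FSch.Hom 𝔅 ℭ).app n) ⁻¹ᵁ ℭ.lvU hC n W₀ :=
      ((lvU_mono hA n l).trans (FSch.Hom.lvU_preimage g hA hB n W).ge).trans
        ((Opens.map ((g : FSch.Hom 𝔄 𝔅).app n).base).monotone
          ((lvU_mono hB n l').trans (FSch.Hom.lvU_preimage j hB hC n W₀).ge))
    refine (oP_two hA hB hC g j D W W₀ l l' n b e).trans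
      (Eq.trans ?_ (oP_two hA hD hC j' f D W' W₀ m m' n b (hc n ▸ e)).symm)
    simp only [hc n]

end Generic

variable (hX : 𝔛.IsLocNoethFormal) (U : (𝔛.X 0).Opens)

local notation "hU'" => Chart.isLocNoethFormal_restrictOpen hX U

/-- The image of an open of the restricted space. -/
noncomputable abbrev imU : Opens ((𝔛.restrictOpen hX.1 U).X 0).carrier ⥤ Opens (𝔛.X 0).carrier :=
  (Restrict.isOpenEmbedding_jb hX U).isOpenMap.functor

/-- The comorphism on an open inside is bijective. -/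
theorem bijective_sharp (W : (𝔛.X 0).Opens) (hW : W ≤ U) :
    Function.Bijective ((FSch.homMor (𝔛.restrictOpenι hX.1 U) hU'.1 hX.1).sharp.hom.app (op W)).hom := by
  let ι := 𝔛.restrictOpenι hX.1 U
  let q := fun n => ((ι : FSch.Hom _ 𝔛).app n).appLE (𝔛.lvU hX.1 n W)
    ((𝔛.restrictOpen hX.1 U).lvU hU'.1 n (((ι : FSch.Hom _ 𝔛).app 0) ⁻¹ᵁ W))
    (FSch.Hom.lvU_preimage ι hU'.1 hX.1 n W).ge
  have hq : ∀ n, Function.Bijective (q n).hom := fun n => by
    haveI : IsIso (q n) := by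
      show IsIso ((𝔛.lvU hX.1 n U).ι.appLE (𝔛.lvU hX.1 n W) _ _)
      show IsIso ((𝔛.lvU hX.1 n U).ι.app (𝔛.lvU hX.1 n W) ≫ _)
      haveI := Scheme.Hom.isIso_app (𝔛.lvU hX.1 n U).ι (𝔛.lvU hX.1 n W)
        ((lvU_mono hX.1 n hW).trans (Scheme.Opens.opensRange_ι _).ge)
      haveI : IsIso (homOfLE (FSch.Hom.lvU_preimage ι hU'.1 hX.1 n W).ge) :=
        ⟨homOfLE (FSch.Hom.lvU_preimage ι hU'.1 hX.1 n W).le, Subsingleton.elim _ _, Subsingleton.elim _ _⟩
      haveI : IsIso (homOfLE (FSch.Hom.lvU_preimage ι hU'.1 hX.1 n W).ge).op := isIso_op _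
      exact IsIso.comp_isIso' inferInstance
        (Functor.map_isIso ((𝔛.restrictOpen hX.1 U).X n).presheaf (homOfLE (FSch.Hom.lvU_preimage ι hU'.1 hX.1 n W).ge).op)
    exact ConcreteCategory.bijective_of_isIso (q n)
  refine ⟨fun a b hab => oP_ext hX.1 a b fun n => (hq n).1 ?_, fun c => ?_⟩
  · exact (oP_sharp hU'.1 hX.1 ι n W a).symm.trans ((congrArg (oP hU'.1 n _) hab).trans (oP_sharp hU'.1 hX.1 ι n W b))
  · choose s hs using fun n => (hq n).2 (oP hU'.1 n _ c)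
    have hcomp : ∀ n, trO hX.1 n W (s (n + 1)) = s n := fun n => (hq n).1 (by
      refine Eq.trans ?_ ((trO_oP hU'.1 n _ c).trans (hs n).symm)
      refine Eq.trans ?_ (congrArg (trO hU'.1 n _) (hs (n + 1)))
      show ((𝔛.ι n).appLE _ _ _ ≫ q n) (s (n + 1)) = (q (n + 1) ≫ ((𝔛.restrictOpen hX.1 U).ι n).appLE _ _ _) (s (n + 1))
      rw [Scheme.Hom.appLE_comp_appLE, Scheme.Hom.appLE_comp_appLE]
      simp only [(ι : FSch.Hom _ 𝔛).comm n])
    obtain ⟨r, hr⟩ := exists_oP hX.1 W s hcomp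
    refine ⟨r, oP_ext hU'.1 _ _ fun n => ?_⟩
    refine (oP_sharp hU'.1 hX.1 ι n W r).trans ?_
    rw [hr n]
    exact hs n

/-- The comparison of the restricted structure sheaf. -/
noncomputable def psiApp (W : (Opens ((𝔛.restrictOpen hX.1 U).X 0).carrier)ᵒᵖ) :
    (𝔛.Osh hX.1).obj.obj (op ((imU hX U).obj W.unop)) ⟶ ((𝔛.restrictOpen hX.1 U).Osh hU'.1).obj.obj W :=
  (FSch.homMor (𝔛.restrictOpenι hX.1 U) hU'.1 hX.1).sharp.hom.app (op ((imU hX U).obj W.unop)) ≫
    ((𝔛.restrictOpen hX.1 U).Osh hU'.1).obj.map (homOfLE (Restrict.preimage_im hX U W.unop).ge).op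

theorem psiApp_natural (W W' : (Opens ((𝔛.restrictOpen hX.1 U).X 0).carrier)ᵒᵖ) (i : W ⟶ W') :
    (𝔛.Osh hX.1).obj.map ((imU hX U).map i.unop).op ≫ psiApp hX U W' =
      psiApp hX U W ≫ ((𝔛.restrictOpen hX.1 U).Osh hU'.1).obj.map i := by
  let sh := (FSch.homMor (𝔛.restrictOpenι hX.1 U) hU'.1 hX.1).sharp
  refine (Category.assoc _ _ _).symm.trans ?_
  refine (congrArg (· ≫ _) (sh.hom.naturality ((imU hX U).map i.unop).op)).trans ?_
  refine (Category.assoc _ _ _).trans (Eq.trans ?_ (Category.assoc _ _ _).symm)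
  refine congrArg (sh.hom.app (op ((imU hX U).obj W.unop)) ≫ ·) ?_
  exact (((𝔛.restrictOpen hX.1 U).Osh hU'.1).obj.map_comp _ _).symm.trans
    ((congrArg ((𝔛.restrictOpen hX.1 U).Osh hU'.1).obj.map (Subsingleton.elim _ _)).trans
      (((𝔛.restrictOpen hX.1 U).Osh hU'.1).obj.map_comp _ _))

/-- The restricted structure sheaf. -/
noncomputable def psi :
    (imU hX U).op ⋙ (𝔛.Osh hX.1).obj ⟶ ((𝔛.restrictOpen hX.1 U).Osh hU'.1).obj where
  app W := psiApp hX U W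
  naturality W W' i := psiApp_natural hX U W W' i

theorem isIso_psi : IsIso (psi hX U) := by
  haveI : ∀ W, IsIso ((psi hX U).app W) := fun W => by
    haveI := (ConcreteCategory.isIso_iff_bijective _).2
      (bijective_sharp hX U ((imU hX U).obj W.unop) (Restrict.im_le hX U W.unop))
    haveI : IsIso (homOfLE (Restrict.preimage_im hX U W.unop).ge) :=
      ⟨homOfLE (Restrict.preimage_im hX U W.unop).le, Subsingleton.elim _ _, Subsingleton.elim _ _⟩
    haveI : IsIso (homOfLE (Restrict.preimage_im hX U W.unop).ge).op := isIso_op _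
    exact IsIso.comp_isIso' inferInstance (Functor.map_isIso ((𝔛.restrictOpen hX.1 U).Osh hU'.1).obj
      (homOfLE (Restrict.preimage_im hX U W.unop).ge).op)
  exact NatIso.isIso_of_isIso_app _

instance : (imU hX U).IsContinuous (Opens.grothendieckTopology ((𝔛.restrictOpen hX.1 U).X 0).carrier)
    (Opens.grothendieckTopology (𝔛.X 0).carrier) :=
  (Restrict.isOpenEmbedding_jb hX U).functor_isContinuous

/-- The ring map along which modules restrict. -/
noncomputable def phi : ModSite.ringSh ((𝔛.restrictOpen hX.1 U).Osh hU'.1) ⟶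
    ((imU hX U).sheafPushforwardContinuous RingCat.{u} (Opens.grothendieckTopology ((𝔛.restrictOpen hX.1 U).X 0).carrier)
      (Opens.grothendieckTopology (𝔛.X 0).carrier)).obj (ModSite.ringSh (𝔛.Osh hX.1)) :=
  haveI := isIso_psi hX U
  ⟨Functor.whiskerRight (inv (psi hX U)) (forget₂ CommRingCat.{u} RingCat.{u})⟩

/-- Restriction of modules to the open. -/
noncomputable def resF : FSch.ModF 𝔛 hX.1 ⥤ FSch.ModF (𝔛.restrictOpen hX.1 U) hU'.1 :=
  SheafOfModules.pushforward (phi hX U)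

theorem additive_resF : (resF hX U).Additive := ⟨fun {_ _ _ _} => hom_ext_sec fun _ _ => rfl⟩

theorem preservesFiniteLimits_resF : PreservesFiniteLimits (resF hX U) := by
  let T := SheafOfModules.toSheaf.{u} (ModSite.ringSh ((𝔛.restrictOpen hX.1 U).Osh hU'.1))
  haveI : (resF hX U ⋙ T).Additive := ⟨fun {_ _ _ _} => rfl⟩
  haveI : PreservesFiniteLimits (resF hX U ⋙ T) := by
    haveI : PreservesFiniteLimits (SheafOfModules.toSheaf.{u} (ModSite.ringSh (𝔛.Osh hX.1))) := inferInstance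
    change PreservesFiniteLimits (SheafOfModules.toSheaf.{u} (ModSite.ringSh (𝔛.Osh hX.1)) ⋙
      H10Coh.Rf (Restrict.isOpenEmbedding_jb hX U))
    exact comp_preservesFiniteLimits _ _
  haveI : T.ReflectsIsomorphisms := reflectsIsomorphisms_of_reflectsMonomorphisms_of_reflectsEpimorphisms T
  haveI : ∀ (K : Type) [SmallCategory K] [FinCategory K], ReflectsLimitsOfShape K T := fun _ _ _ =>
    reflectsLimitsOfShape_of_reflectsIsomorphisms
  haveI : ReflectsFiniteLimits T := { reflects := fun _ _ _ => inferInstance }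
  exact preservesFiniteLimits_of_reflects_of_preserves _ T

theorem preservesFiniteColimits_resF : PreservesFiniteColimits (resF hX U) := by
  let T := SheafOfModules.toSheaf.{u} (ModSite.ringSh ((𝔛.restrictOpen hX.1 U).Osh hU'.1))
  haveI : PreservesFiniteColimits T := H10Coh.preservesFiniteColimits_toSheaf _
  haveI : PreservesFiniteColimits (SheafOfModules.toSheaf.{u} (ModSite.ringSh (𝔛.Osh hX.1))) :=
    H10Coh.preservesFiniteColimits_toSheaf _
  haveI : PreservesFiniteColimits (resF hX U ⋙ T) := by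
    change PreservesFiniteColimits (SheafOfModules.toSheaf.{u} (ModSite.ringSh (𝔛.Osh hX.1)) ⋙
      H10Coh.Rf (Restrict.isOpenEmbedding_jb hX U))
    exact comp_preservesFiniteColimits _ _
  haveI : T.ReflectsIsomorphisms := reflectsIsomorphisms_of_reflectsMonomorphisms_of_reflectsEpimorphisms T
  haveI : ∀ (K : Type) [SmallCategory K] [FinCategory K], ReflectsColimitsOfShape K T := fun _ _ _ =>
    reflectsColimitsOfShape_of_reflectsIsomorphisms
  haveI : ReflectsFiniteColimits T := { reflects := fun _ _ _ => inferInstance }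
  exact preservesFiniteColimits_of_reflects_of_preserves _ T

section Acyclic

attribute [local instance 10000] H15Site.SiteInst.hasSheafifySite H15Site.SiteInst.hasWeakSheafifySite
  H15Site.SiteInst.hasExtSite H15Site.SiteInst.enoughInjSite

open ModRpush

theorem subsingleton_hP_resF (I : FSch.ModF 𝔛 hX.1) [Injective I] (m : ℕ)
    (W : Opens ((𝔛.restrictOpen hX.1 U).X 0).carrier) :
    Subsingleton (((hP (Opens.grothendieckTopology ((𝔛.restrictOpen hX.1 U).X 0).carrier) (m + 1)).obj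
      ((SheafOfModules.toSheaf.{u} (ModSite.ringSh ((𝔛.restrictOpen hX.1 U).Osh hU'.1))).obj ((resF hX U).obj I))).obj (op W)) := by
  let F := (SheafOfModules.toSheaf.{u} (ModSite.ringSh (𝔛.Osh hX.1))).obj I
  haveI h1 : Subsingleton (H10Coh.Hn F (m + 1) ((imU hX U).obj W)) :=
    H15Site.HUBasic.subsingleton_HU_of_totallyAcyclic F
      (H15Site.ModExtH.isTotallyAcyclic_toSheaf (ModSite.ringSh (𝔛.Osh hX.1)) I) _ m
  obtain ⟨E, -⟩ := exists_ev (J := Opens.grothendieckTopology ((𝔛.restrictOpen hX.1 U).X 0).carrier) W (m + 1)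
  exact ((E _).trans (H10Coh.restrEquiv (Restrict.isOpenEmbedding_jb hX U) F (m + 1) W).symm).toEquiv.subsingleton

theorem isAcyclic_resF {𝔜' : FSch.Sys.{u}} (hY : 𝔜'.IsFormal) (g : 𝔛.restrictOpen hX.1 U ⟶ 𝔜')
    [HasInjectiveResolutions (FSch.ModF (𝔛.restrictOpen hX.1 U) hU'.1)] (I : FSch.ModF 𝔛 hX.1) [Injective I] :
    H16Derived.AcyclicLES.IsAcyclic (FSch.pushF g hU'.1 hY) ((resF hX U).obj I) := by
  intro j hj
  obtain ⟨m, rfl⟩ := Nat.exists_eq_succ_of_ne_zero hj.ne'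
  let φ := FSch.homMor g hU'.1 hY
  obtain ⟨e⟩ := nonempty_modRpushIso φ (m + 1)
  let T := SheafOfModules.toSheaf.{u} (ModSite.ringSh (𝔜'.Osh hY))
  suffices h : IsZero (T.obj ((φ.Rpush (m + 1)).obj ((resF hX U).obj I))) by
    exact (IsZero.iff_id_eq_zero _).2 (T.map_injective
      ((T.map_id _).trans (((IsZero.iff_id_eq_zero _).1 h).trans (T.map_zero _ _).symm)))
  refine IsZero.of_iso ?_ (e.app _)
  refine Functor.map_isZero (presheafToSheaf _ _) (Functor.isZero _ fun V => ?_)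
  haveI := subsingleton_hP_resF hX U I m (φ.fn.op.obj V).unop
  exact @AddCommGrpCat.isZero_of_subsingleton _ this

end Acyclic

section Square

variable (hY : 𝔜.IsLocNoethFormal) (f : 𝔛 ⟶ 𝔜) (V : (𝔜.X 0).Opens)

set_option quotPrecheck false in
local notation "fU" => ((f : FSch.Hom 𝔛 𝔜).app 0 ⁻¹ᵁ V)
set_option quotPrecheck false in
local notation "hV'" => Chart.isLocNoethFormal_restrictOpen hY V
set_option quotPrecheck false in
local notation "f'" => FSch.Hom.restrictOpen f hX.1 hY.1 V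

theorem preimage_imU (W : Opens ((𝔜.restrictOpen hY.1 V).X 0).carrier) :
    (f : FSch.Hom 𝔛 𝔜).app 0 ⁻¹ᵁ ((imU hY V).obj W) =
      (imU hX fU).obj ((Opens.map ((f' : FSch.Hom _ _).app 0).base).obj W) := by
  have hc : ((f' : FSch.Hom _ _).app 0) ≫ ((𝔜.restrictOpenι hY.1 V : FSch.Hom _ _).app 0) =
      ((𝔛.restrictOpenι hX.1 fU : FSch.Hom _ _).app 0) ≫ (f : FSch.Hom 𝔛 𝔜).app 0 :=
    congrArg (fun φ : FSch.Hom _ _ => φ.app 0) (FSch.Hom.restrictOpen_ι f hX.1 hY.1 V)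
  refine Opens.ext (Set.ext fun x => ⟨?_, ?_⟩)
  · rintro ⟨w, hw, hwx⟩
    obtain ⟨z, rfl⟩ : ∃ z, (Restrict.jb hX fU) z = x := by
      have hx : (f : FSch.Hom 𝔛 𝔜).app 0 x ∈ V := hwx ▸ Restrict.im_le hY V W ⟨w, hw, rfl⟩
      exact ⟨⟨x, (Restrict.lvU_zero hX fU).ge hx⟩, rfl⟩
    refine ⟨z, ?_, rfl⟩
    show (f' : FSch.Hom _ _).app 0 z ∈ W
    rw [show (f' : FSch.Hom _ _).app 0 z = w from (Restrict.isOpenEmbedding_jb hY V).injective
      ((congr($hc z)).trans hwx.symm)]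
    exact hw
  · rintro ⟨z, hz, rfl⟩
    exact ⟨_, hz, congr($hc z)⟩

/-- The functors of opens around the square. -/
noncomputable def opensIso :
    imU hY V ⋙ Opens.map ((f : FSch.Hom 𝔛 𝔜).app 0).base ≅
      Opens.map ((f' : FSch.Hom _ _).app 0).base ⋙ imU hX fU :=
  NatIso.ofComponents (fun W => eqToIso (preimage_imU hX hY f V W)) fun _ => Subsingleton.elim _ _

theorem psi_sharp (W : Opens ((𝔜.restrictOpen hY.1 V).X 0).carrier) (b : OSec hY.1 ((imU hY V).obj W)) :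
    ((FSch.homMor f' (Chart.isLocNoethFormal_restrictOpen hX fU).1 hV'.1).sharp.hom.app (op W)).hom
        (((psi hY V).app (op W)).hom b) =
      ((psi hX fU).app (op ((f' : FSch.Hom _ _).app 0 ⁻¹ᵁ W))).hom
        (rr (𝔛.Osh hX.1) (homOfLE (preimage_imU hX hY f V W).ge).op
          (((FSch.homMor f hX.1 hY.1).sharp.hom.app (op ((imU hY V).obj W))).hom b)) := by
  have h := sharp_square (Chart.isLocNoethFormal_restrictOpen hX fU).1 hV'.1 hX.1 hY.1 f' (𝔜.restrictOpenι hY.1 V)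
    (𝔛.restrictOpenι hX.1 fU) f (fun n => congrArg (fun φ : FSch.Hom _ _ => φ.app n) (FSch.Hom.restrictOpen_ι f hX.1 hY.1 V))
    ((f' : FSch.Hom _ _).app 0 ⁻¹ᵁ W) W ((imU hX fU).obj ((f' : FSch.Hom _ _).app 0 ⁻¹ᵁ W)) ((imU hY V).obj W) le_rfl
    (Restrict.preimage_im hY V W).ge (Restrict.preimage_im hX fU _).ge (preimage_imU hX hY f V W).ge b
  refine Eq.trans ?_ h
  exact (congr($(((𝔛.restrictOpen hX.1 fU).Osh (Chart.isLocNoethFormal_restrictOpen hX fU).1).obj.map_id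
    (op ((f' : FSch.Hom _ _).app 0 ⁻¹ᵁ W))) _)).symm.trans (congrArg (fun z => rr _ z _) (Subsingleton.elim _ _))

/-- The comparison maps are inverse. -/
theorem phi_psi (hX : 𝔛.IsLocNoethFormal) (U : (𝔛.X 0).Opens) (W : Opens ((𝔛.restrictOpen hX.1 U).X 0).carrier)
    (b : OSec hX.1 ((imU hX U).obj W)) :
    ((phi hX U).hom.app (op W)).hom (((psi hX U).app (op W)).hom b) = b := by
  haveI := isIso_psi hX U
  exact congr($(NatTrans.congr_app (IsIso.hom_inv_id (psi hX U)) (op W)) b)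

theorem psi_phi (hX : 𝔛.IsLocNoethFormal) (U : (𝔛.X 0).Opens) (W : Opens ((𝔛.restrictOpen hX.1 U).X 0).carrier)
    (c : OSec (Chart.isLocNoethFormal_restrictOpen hX U).1 W) :
    ((psi hX U).app (op W)).hom (((phi hX U).hom.app (op W)).hom c) = c := by
  haveI := isIso_psi hX U
  exact congr($(NatTrans.congr_app (IsIso.inv_hom_id (psi hX U)) (op W)) c)

/-- Restriction commutes with the direct image. -/
theorem nonempty_squareIso :
    Nonempty (FSch.pushF f hX.1 hY.1 ⋙ resF hY V ≅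
      resF hX fU ⋙ FSch.pushF f' (Chart.isLocNoethFormal_restrictOpen hX fU).1 hV'.1) := by
  refine nonempty_pushforward_square (phi hY V) _ _ (phi hX fU) (opensIso hX hY f V).symm fun W x => ?_
  obtain ⟨b, rfl⟩ : ∃ b, ((psi hY V).app (op W)).hom b = x := ⟨_, psi_phi hY V W x⟩
  refine Eq.trans ?_ (congrArg ((phi hX fU).hom.app (op ((f' : FSch.Hom _ _).app 0 ⁻¹ᵁ W))).hom (psi_sharp hX hY f V W b)).symm
  refine Eq.trans ?_ (phi_psi hX fU _ _).symm
  refine (congrArg (fun z => ((𝔛.Osh hX.1).obj.map ((opensIso hX hY f V).symm.hom.app W).op).hom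
    (((FSch.homMor f hX.1 hY.1).sharp.hom.app (op ((imU hY V).obj W))).hom z)) (phi_psi hY V W b)).trans ?_
  exact congrArg (fun z => rr (𝔛.Osh hX.1) z _) (Subsingleton.elim _ _)

theorem hasInjectiveResolutions_restrict :
    HasInjectiveResolutions (FSch.ModF (𝔛.restrictOpen hX.1 fU) (Chart.isLocNoethFormal_restrictOpen hX fU).1) := by
  haveI : EnoughInjectives (FSch.ModF (𝔛.restrictOpen hX.1 fU) (Chart.isLocNoethFormal_restrictOpen hX fU).1) :=
    H10Coh.enoughInjectives_sheafOfModules _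
  infer_instance

/-- Higher direct images commute with restriction to an open of the target. -/
theorem nonempty_rpushRes [HasInjectiveResolutions (FSch.ModF 𝔛 hX.1)]
    [HasInjectiveResolutions (FSch.ModF (𝔛.restrictOpen hX.1 fU) (Chart.isLocNoethFormal_restrictOpen hX fU).1)]
    (q : ℕ) :
    Nonempty (FSch.RpushF f hX.1 hY.1 q ⋙ resF hY V ≅
      resF hX fU ⋙ FSch.RpushF f' (Chart.isLocNoethFormal_restrictOpen hX fU).1 hV'.1 q) := by
  let R := resF hX fU
  let F := FSch.pushF f hX.1 hY.1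
  let G := FSch.pushF f' (Chart.isLocNoethFormal_restrictOpen hX fU).1 hV'.1
  haveI : (resF hY V).Additive := additive_resF hY V
  haveI : R.Additive := additive_resF hX fU
  haveI : PreservesFiniteLimits R := preservesFiniteLimits_resF hX fU
  haveI : PreservesFiniteColimits R := preservesFiniteColimits_resF hX fU
  haveI : PreservesFiniteLimits (resF hY V) := preservesFiniteLimits_resF hY V
  haveI : PreservesFiniteColimits (resF hY V) := preservesFiniteColimits_resF hY V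
  haveI : F.IsRightAdjoint := (FSch.homMor f hX.1 hY.1).adj.isRightAdjoint
  haveI : G.IsRightAdjoint := (FSch.homMor f' (Chart.isLocNoethFormal_restrictOpen hX fU).1 hV'.1).adj.isRightAdjoint
  haveI : PreservesFiniteLimits G := inferInstance
  haveI : EnoughInjectives (FSch.ModF (𝔛.restrictOpen hX.1 fU) (Chart.isLocNoethFormal_restrictOpen hX fU).1) :=
    H10Coh.enoughInjectives_sheafOfModules _
  obtain ⟨w⟩ := nonempty_squareIso hX hY f V
  obtain ⟨e₁⟩ := H02CA.RestrScal.nonempty_precompIso R G (fun I _ => isAcyclic_resF hX fU hV'.1 f' I) q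
  exact ⟨(H02CA.RDPostcomp.postcompIso F (resF hY V) q).symm ≪≫
    (⟨NatTrans.rightDerived w.hom q, NatTrans.rightDerived w.inv q,
      by rw [← NatTrans.rightDerived_comp, Iso.hom_inv_id, NatTrans.rightDerived_id],
      by rw [← NatTrans.rightDerived_comp, Iso.inv_hom_id, NatTrans.rightDerived_id]⟩ :
      (F ⋙ resF hY V).rightDerived q ≅ (R ⋙ G).rightDerived q) ≪≫ e₁⟩

end Square

section Transfer

open H15Site.LocPres H15Site.LocGen

variable (M : FSch.ModF 𝔛 hX.1)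

local notation "Jb" => Restrict.jb hX U

theorem im_pre {W : (𝔛.X 0).Opens} (hW : W ≤ U) :
    (imU hX U).obj ((Opens.map (Restrict.jb hX U)).obj W) = W := by
  refine Opens.ext (Set.ext fun x => ⟨?_, fun hx => ?_⟩)
  · rintro ⟨z, hz, rfl⟩
    exact hz
  · exact ⟨⟨x, (Restrict.lvU_zero hX U).ge (hW hx)⟩, hx, rfl⟩

theorem imU_le_iff {A B : Opens ((𝔛.restrictOpen hX.1 U).X 0).carrier} :
    (imU hX U).obj A ≤ (imU hX U).obj B ↔ A ≤ B :=
  ⟨fun h => by
    refine ((Restrict.preimage_im hX U A).ge.trans ?_).trans (Restrict.preimage_im hX U B).le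
    exact (Opens.map (Restrict.jb hX U)).monotone h, fun h => H10Coh.im_mono (Restrict.isOpenEmbedding_jb hX U) h⟩

/-- Restrictions of sections of the restricted module. -/
theorem rs_resF {A B : Opens ((𝔛.restrictOpen hX.1 U).X 0).carrier} (g : B ⟶ A)
    (x : Sec hU'.1 ((resF hX U).obj M) A) :
    (rs ((forg _).obj ((resF hX U).obj M)) g.op x : Sec hX.1 M ((imU hX U).obj B)) =
      rs ((forg _).obj M) ((imU hX U).map g).op (x : Sec hX.1 M ((imU hX U).obj A)) := rfl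

theorem phi_rr {A B : Opens ((𝔛.restrictOpen hX.1 U).X 0).carrier} (g : B ⟶ A) (c : OSec hU'.1 A) :
    ((phi hX U).hom.app (op B)).hom (rr ((𝔛.restrictOpen hX.1 U).Osh hU'.1) g.op c) =
      rr (𝔛.Osh hX.1) ((imU hX U).map g).op (((phi hX U).hom.app (op A)).hom c) :=
  congr($((phi hX U).hom.naturality g.op) c)

theorem sum_resF {A : Opens ((𝔛.restrictOpen hX.1 U).X 0).carrier} {I : Type u} [Fintype I]
    (c : I → OSec hU'.1 A) (x : I → Sec hU'.1 ((resF hX U).obj M) A) :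
    ((∑ i, c i • x i : Sec hU'.1 ((resF hX U).obj M) A) : Sec hX.1 M ((imU hX U).obj A)) =
      (∑ i, HSMul.hSMul (α := OSec hX.1 ((imU hX U).obj A)) (((phi hX U).hom.app (op A)).hom (c i))
          (show Sec hX.1 M ((imU hX U).obj A) from x i) : Sec hX.1 M ((imU hX U).obj A)) := rfl

theorem sum_psi {A : Opens ((𝔛.restrictOpen hX.1 U).X 0).carrier} {I : Type u} [Fintype I]
    (c : I → OSec hX.1 ((imU hX U).obj A)) (x : I → Sec hU'.1 ((resF hX U).obj M) A) :
    ((∑ i, HSMul.hSMul (α := OSec hU'.1 A) (((psi hX U).app (op A)).hom (c i)) (x i) : Sec hU'.1 ((resF hX U).obj M) A) :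
        Sec hX.1 M ((imU hX U).obj A)) =
      (∑ i, c i • (show Sec hX.1 M ((imU hX U).obj A) from x i) : Sec hX.1 M ((imU hX U).obj A)) :=
  (sum_resF hX U M _ x).trans (Finset.sum_congr rfl fun i _ =>
    congrArg (fun a : OSec hX.1 ((imU hX U).obj A) => a • (show Sec hX.1 M ((imU hX U).obj A) from x i))
      (phi_psi hX U A (c i)))

theorem comb_res {W V T : (𝔛.X 0).Opens} (g : V ⟶ W) (l : T ⟶ V) (g' : T ⟶ W) {I : Type u} [Fintype I]
    (c : I → OSec hX.1 V) (s : I → Sec hX.1 M W) (hc : ∑ i, c i • rs ((forg (𝔛.Osh hX.1)).obj M) g.op (s i) = 0) :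
    ∑ i, rr (𝔛.Osh hX.1) l.op (c i) • rs ((forg (𝔛.Osh hX.1)).obj M) g'.op (s i) = 0 := by
  have h1 := congrArg (fun z => rs ((forg (𝔛.Osh hX.1)).obj M) l.op z) hc
  simp only [rs_zero, rs_sum, rs_smul', rs_rs] at h1
  refine Eq.trans (Finset.sum_congr rfl fun i _ => ?_) h1
  rw [show g'.op = g.op ≫ l.op from Subsingleton.elim _ _]

/-- The pulled back sieve. -/
def preSieve {A : Opens ((𝔛.restrictOpen hX.1 U).X 0).carrier} (S : Sieve ((imU hX U).obj A)) : Sieve A where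
  arrows B g := S ((imU hX U).map g)
  downward_closed {B B'} g hg k := by
    rw [Functor.map_comp]
    exact S.downward_closed hg _

theorem preSieve_mem {A : Opens ((𝔛.restrictOpen hX.1 U).X 0).carrier} {S : Sieve ((imU hX U).obj A)}
    (hS : S ∈ Opens.grothendieckTopology (𝔛.X 0) _) :
    preSieve hX U S ∈ Opens.grothendieckTopology ((𝔛.restrictOpen hX.1 U).X 0).carrier A := fun x hx => by
  obtain ⟨W, g, hg, hxW⟩ := hS (Restrict.jb hX U x) ⟨x, hx, rfl⟩
  have hWU : W ≤ U := (leOfHom g).trans (Restrict.im_le hX U A)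
  refine ⟨(Opens.map (Restrict.jb hX U)).obj W, homOfLE ?_, ?_, hxW⟩
  · exact (imU_le_iff hX U).1 ((im_pre hX U hWU).le.trans (leOfHom g))
  · show S _
    have h := S.downward_closed hg (homOfLE (im_pre hX U hWU).le)
    convert h
    exact Subsingleton.elim _ _

/-- The image sieve. -/
def imSieve {A : Opens ((𝔛.restrictOpen hX.1 U).X 0).carrier} {V : (𝔛.X 0).Opens} (S : Sieve A)
    (_ : V ≤ (imU hX U).obj A) : Sieve V where
  arrows W _ := ∃ (B : Opens ((𝔛.restrictOpen hX.1 U).X 0).carrier) (g : B ⟶ A), S g ∧ W ≤ (imU hX U).obj B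
  downward_closed {W W'} _ hh k := by
    obtain ⟨B, g, hg, hW⟩ := hh
    exact ⟨B, g, hg, (leOfHom k).trans hW⟩

theorem imSieve_mem {A : Opens ((𝔛.restrictOpen hX.1 U).X 0).carrier} {V : (𝔛.X 0).Opens} {S : Sieve A}
    (hV : V ≤ (imU hX U).obj A) (hS : S ∈ Opens.grothendieckTopology ((𝔛.restrictOpen hX.1 U).X 0).carrier A) :
    imSieve hX U S hV ∈ Opens.grothendieckTopology (𝔛.X 0) V := fun x hx => by
  obtain ⟨z, hz, rfl⟩ := hV hx
  obtain ⟨B, g, hg, hzB⟩ := hS z hz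
  exact ⟨V ⊓ (imU hX U).obj B, homOfLE inf_le_left, ⟨B, g, hg, inf_le_right⟩, hx, ⟨z, hzB, rfl⟩⟩

theorem fp_resF {A : Opens ((𝔛.restrictOpen hX.1 U).X 0).carrier} (h : FP M ((imU hX U).obj A)) :
    FP ((resF hX U).obj M) A := by
  obtain ⟨I, K, _, _, s, r, hs, hr⟩ := h
  refine ⟨I, K, inferInstance, inferInstance, s, fun k i => ((psi hX U).app (op A)).hom (r k i), ?_, ?_, ?_⟩
  · intro V g t
    obtain ⟨S, hS, hS'⟩ := hs ((imU hX U).map g) t
    refine ⟨preSieve hX U S, preSieve_mem hX U hS, fun W k hk => ?_⟩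
    obtain ⟨c, hc⟩ := hS' ((imU hX U).map k) hk
    refine ⟨fun i => ((psi hX U).app (op W)).hom (c i), ?_⟩
    refine Eq.trans hc (Eq.trans ?_ (sum_resF hX U M _ _).symm)
    refine Finset.sum_congr rfl fun i _ => ?_
    rw [phi_psi hX U W (c i)]
    exact congrArg (fun z => _ • rs _ z (s i)) (Subsingleton.elim _ _)
  · intro k
    refine (sum_resF hX U M _ _).trans (Eq.trans (Finset.sum_congr rfl fun i _ => ?_) (hr.zero k))
    rw [phi_psi hX U A (r k i)]
  · intro V g c hc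
    obtain ⟨S, hS, hS'⟩ := hr.complete ((imU hX U).map g) (fun i => ((phi hX U).hom.app (op V)).hom (c i))
      ((sum_resF hX U M c _).symm.trans hc)
    refine ⟨preSieve hX U S, preSieve_mem hX U hS, fun W k hk => ?_⟩
    obtain ⟨d, hd⟩ := hS' ((imU hX U).map k) hk
    refine ⟨fun j => ((psi hX U).app (op W)).hom (d j), fun i => ?_⟩
    refine (psi_phi hX U W _).symm.trans ((congrArg ((psi hX U).app (op W)).hom
      ((phi_rr hX U k (c i)).trans (hd i))).trans ((map_sum _ _ _).trans (Finset.sum_congr rfl fun j _ => ?_)))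
    refine (map_mul _ _ _).trans (congrArg (_ * ·) ?_)
    exact congr($((psi hX U).naturality (k ≫ g).op) (r j i)).trans rfl

theorem fp_of_resF {A : Opens ((𝔛.restrictOpen hX.1 U).X 0).carrier} (h : FP ((resF hX U).obj M) A) :
    FP M ((imU hX U).obj A) := by
  obtain ⟨I, K, _, _, s, r, hs, hr⟩ := h
  refine ⟨I, K, inferInstance, inferInstance, s, fun k i => ((phi hX U).hom.app (op A)).hom (r k i), ?_,
    fun k => (sum_resF hX U M _ _).symm.trans (hr.zero k), ?_⟩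
  · intro V g t
    have hVU : V ≤ U := (leOfHom g).trans (Restrict.im_le hX U A)
    let V' := (Opens.map (Restrict.jb hX U)).obj V
    have hV : (imU hX U).obj V' = V := im_pre hX U hVU
    have hle : V' ≤ A := (imU_le_iff hX U).1 (hV.le.trans (leOfHom g))
    obtain ⟨S, hS, hS'⟩ := hs (homOfLE hle) (rs ((forg _).obj M) (homOfLE hV.le).op t)
    refine ⟨imSieve hX U S hV.ge, imSieve_mem hX U hV.ge hS, fun W k hk => ?_⟩
    obtain ⟨B, b, hb, hW⟩ := hk
    obtain ⟨c, hc⟩ := hS' b hb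
    refine ⟨fun i => rr (𝔛.Osh hX.1) (homOfLE hW).op (((phi hX U).hom.app (op B)).hom (c i)), ?_⟩
    have h1 := congrArg (fun z : Sec hX.1 M ((imU hX U).obj B) => rs ((forg _).obj M) (homOfLE hW).op z)
      (hc.trans (sum_resF hX U M c _))
    refine Eq.trans ?_ (h1.trans ?_)
    · refine Eq.trans ?_ (congrArg (rs ((forg (𝔛.Osh hX.1)).obj M) (homOfLE hW).op) (rs_resF hX U M b _)).symm
      refine Eq.trans ?_ ((rs_rs _ _ _ _).trans (rs_rs ((forg (𝔛.Osh hX.1)).obj M) _ _ t)).symm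
      exact congrArg (fun z => rs ((forg (𝔛.Osh hX.1)).obj M) z t) (Subsingleton.elim _ _)
    · refine (rs_sum _ _ _ _).trans (Finset.sum_congr rfl fun i _ => ?_)
      refine (rs_smul' _ _ _ _).trans (congrArg (_ • ·) ?_)
      refine (congrArg (rs ((forg (𝔛.Osh hX.1)).obj M) (homOfLE hW).op) (rs_resF hX U M _ (s i))).trans ?_
      refine (rs_rs ((forg (𝔛.Osh hX.1)).obj M) _ _ _).trans ?_
      exact congrArg (fun z => rs ((forg (𝔛.Osh hX.1)).obj M) z (s i)) (Subsingleton.elim _ _)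
  · intro V g c hc
    have hVU : V ≤ U := (leOfHom g).trans (Restrict.im_le hX U A)
    let V' := (Opens.map (Restrict.jb hX U)).obj V
    have hV : (imU hX U).obj V' = V := im_pre hX U hVU
    have hle : V' ≤ A := (imU_le_iff hX U).1 (hV.le.trans (leOfHom g))
    let c' : I → OSec hU'.1 V' := fun i => ((psi hX U).app (op V')).hom (rr (𝔛.Osh hX.1) (homOfLE hV.le).op (c i))
    have hc' : ∑ i, c' i • rs ((forg _).obj ((resF hX U).obj M)) (homOfLE hle).op (s i) = 0 :=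
      (sum_psi hX U M _ _).trans (comb_res hX M g (homOfLE hV.le) ((imU hX U).map (homOfLE hle)) c s hc)
    obtain ⟨S, hS, hS'⟩ := hr.complete (homOfLE hle) c' hc'
    refine ⟨imSieve hX U S hV.ge, imSieve_mem hX U hV.ge hS, fun W k hk => ?_⟩
    obtain ⟨B, b, hb, hW⟩ := hk
    obtain ⟨d, hd⟩ := hS' b hb
    refine ⟨fun j => rr (𝔛.Osh hX.1) (homOfLE hW).op (((phi hX U).hom.app (op B)).hom (d j)), fun i => ?_⟩
    have h1 := congrArg (rr (𝔛.Osh hX.1) (homOfLE hW).op) (((phi_rr hX U b (c' i)).symm.trans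
      (congrArg ((phi hX U).hom.app (op B)).hom (hd i))))
    rw [show ((phi hX U).hom.app (op V')).hom (c' i) = _ from phi_psi hX U V' _] at h1
    refine Eq.trans ?_ (h1.trans ?_)
    · rw [rr_rr, rr_rr]
      exact congrArg (fun z => rr (𝔛.Osh hX.1) z (c i)) (Subsingleton.elim _ _)
    · refine (congrArg _ (map_sum ((phi hX U).hom.app (op B)).hom _ _)).trans
        ((map_sum ((𝔛.Osh hX.1).obj.map (homOfLE hW).op).hom _ _).trans (Finset.sum_congr rfl fun j _ => ?_))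
      refine (congrArg _ (map_mul ((phi hX U).hom.app (op B)).hom _ _)).trans
        ((map_mul ((𝔛.Osh hX.1).obj.map (homOfLE hW).op).hom _ _).trans (congrArg (_ * ·) ?_))
      refine (congrArg _ (phi_rr hX U _ (r j i))).trans ?_
      refine (rr_rr (O := 𝔛.Osh hX.1) _ _ _).trans ?_
      exact congrArg (fun z => rr (𝔛.Osh hX.1) z (((phi hX U).hom.app (op A)).hom (r j i))) (Subsingleton.elim _ _)

/-- The restriction of a coherent module is coherent. -/
theorem isCohF_resF (hM : FSch.IsCohF 𝔛 hX.1 M) : FSch.IsCohF _ hU'.1 ((resF hX U).obj M) := by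
  haveI : SheafOfModules.IsFinitePresentation (R := ModSite.ringSh (𝔛.Osh hX.1)) M := hM
  refine isFinitePresentation_of_lh fun A => ?_
  obtain ⟨S, hS, hS'⟩ := lh_fp (F := M) ((imU hX U).obj A)
  exact ⟨preSieve hX U S, preSieve_mem hX U hS, fun W g hg => fp_resF hX U M (hS' ((imU hX U).map g) hg)⟩

/-- Coherence over an open. -/
theorem lh_fp_le (h : FSch.IsCohF _ hU'.1 ((resF hX U).obj M)) :
    ∃ S ∈ Opens.grothendieckTopology (𝔛.X 0) U, ∀ ⦃W : (𝔛.X 0).Opens⦄ (g : W ⟶ U), S g → FP M W := by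
  haveI : SheafOfModules.IsFinitePresentation (R := ModSite.ringSh ((𝔛.restrictOpen hX.1 U).Osh hU'.1))
      ((resF hX U).obj M) := h
  obtain ⟨S, hS, hS'⟩ := lh_fp (F := (resF hX U).obj M) ((Opens.map (Restrict.jb hX U)).obj U)
  have hV := im_pre hX U (le_refl U)
  refine ⟨imSieve hX U S hV.ge, imSieve_mem hX U hV.ge hS, fun W g hg => ?_⟩
  obtain ⟨B, b, hb, hW⟩ := hg
  exact FP.res (homOfLE hW) (fp_of_resF hX U M (hS' b hb))

end Transfer

end Groth.Agent.H24Formal3.OpenRes
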