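import Groth.Agent.H24Formal3.SchRpushSec
import Groth.Agent.H16Derived.KFlat.RestrictD
import Groth.Agent.LeadBC.SectRpush

/-!
# Sections of higher direct images over an affine open, naturally and linearly
-/

set_option autoImplicit false
set_option linter.style.haveILetI false
set_option linter.unusedSectionVars false

universe u

attribute [-instance] CategoryTheory.catToReflQuiver

open AlgebraicGeometry CategoryTheory CategoryTheory.Limits TopologicalSpace Opposite

namespace Groth.Agent.H24Formal3.SchRpushRes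

variable {X Y : Scheme.{u}} (f : X ⟶ Y) (V : Y.Opens) [HasInjectiveResolutions X.Modules]
  [HasInjectiveResolutions ((f ⁻¹ᵁ V).toScheme).Modules]

/-- Higher direct images commute with restriction to an open of the base. -/
theorem nonempty_restrIso (p : ℕ) :
    Nonempty (Coh.Rpush f p ⋙ Scheme.Modules.restrictFunctor V.ι ≅
      Scheme.Modules.restrictFunctor (f ⁻¹ᵁ V).ι ⋙ Coh.Rpush (f ∣_ V) p) := by
  let F := Scheme.Modules.pushforward f
  let G := Scheme.Modules.pushforward (f ∣_ V)
  let R := Scheme.Modules.restrictFunctor (f ⁻¹ᵁ V).ι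
  let S := Scheme.Modules.restrictFunctor V.ι
  haveI : PreservesFiniteLimits (CxOX.extZero (f ⁻¹ᵁ V).ι) := H16Derived.KFlat.Stalk.preservesFiniteLimits_extZero _
  haveI : PreservesFiniteLimits (CxOX.extZero V.ι) := H16Derived.KFlat.Stalk.preservesFiniteLimits_extZero _
  haveI : R.IsRightAdjoint := (CxOX.extZeroAdj (f ⁻¹ᵁ V).ι).isRightAdjoint
  haveI : S.IsRightAdjoint := (CxOX.extZeroAdj V.ι).isRightAdjoint
  haveI : F.IsRightAdjoint := (Scheme.Modules.pullbackPushforwardAdjunction f).isRightAdjoint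
  haveI : G.IsRightAdjoint := (Scheme.Modules.pullbackPushforwardAdjunction (f ∣_ V)).isRightAdjoint
  haveI : PreservesFiniteColimits R := inferInstance
  haveI : PreservesFiniteLimits R := inferInstance
  haveI : PreservesFiniteColimits S := inferInstance
  haveI : PreservesFiniteLimits S := inferInstance
  haveI : PreservesFiniteLimits G := inferInstance
  haveI : R.Additive := Functor.additive_of_preserves_binary_products _
  haveI : S.Additive := Functor.additive_of_preserves_binary_products _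
  haveI : EnoughInjectives ((f ⁻¹ᵁ V).toScheme).Modules := H10Coh.enoughInjMod _
  obtain ⟨e₁⟩ := H02CA.RestrScal.nonempty_precompIso R G (fun I _ => by
    haveI : Injective (R.obj I) := (CxOX.extZeroAdj (f ⁻¹ᵁ V).ι).map_injective I inferInstance
    exact H16Derived.AcyclicLES.isAcyclic_of_injective G (R.obj I)) p
  let w : F ⋙ S ≅ R ⋙ G := H16Derived.KFlat.Stalk.pushRestrictNatIso f V
  exact ⟨(H02CA.RDPostcomp.postcompIso F S p).symm ≪≫
    (⟨NatTrans.rightDerived w.hom p, NatTrans.rightDerived w.inv p,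
      by rw [← NatTrans.rightDerived_comp, Iso.hom_inv_id, NatTrans.rightDerived_id],
      by rw [← NatTrans.rightDerived_comp, Iso.inv_hom_id, NatTrans.rightDerived_id]⟩ :
      (F ⋙ S).rightDerived p ≅ (R ⋙ G).rightDerived p) ≪≫ e₁⟩

variable {V}

/-- Sections over the open from sections of the restriction. -/
noncomputable def topSec (N : Y.Modules) : Γ(N.restrict V.ι, (⊤ : V.toScheme.Opens)) ≃+ Γ(N, V) where
  toFun z := H10Coh.rs N V.ι_image_top.ge (show Γ(N, V.ι ''ᵁ ⊤) from z)
  invFun w := H10Coh.rs N V.ι_image_top.le w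
  left_inv _ := (H10Coh.rs_rs _ _ _ _).trans (H10Coh.rs_self _ _ _)
  right_inv _ := (H10Coh.rs_rs _ _ _ _).trans (H10Coh.rs_self _ _ _)
  map_add' _ _ := map_add _ _ _

theorem topSec_natural {N N' : Y.Modules} (φ : N ⟶ N') (z : Γ(N.restrict V.ι, (⊤ : V.toScheme.Opens))) :
    topSec N' (((Scheme.Modules.restrictFunctor V.ι).map φ).app ⊤ z) = φ.app V (topSec N z) :=
  congr($((Scheme.Modules.Hom.mapPresheaf φ).naturality (homOfLE V.ι_image_top.ge).op)
    (show Γ(N, V.ι ''ᵁ ⊤) from z)).symm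

variable (hV : IsAffineOpen V)

/-- An affine open over the spectrum of its sections. -/
@[reducible] noncomputable def affOver : V.toScheme.Over (Spec (CommRingCat.of Γ(Y, V))) := ⟨hV.isoSpec.hom⟩

omit [HasInjectiveResolutions X.Modules] [HasInjectiveResolutions ((f ⁻¹ᵁ V).toScheme).Modules] in
theorem scal_top (a : Γ(Y, V)) :
    LeadFF.scal hV.isoSpec.hom (⊤ : V.toScheme.Opens) a = H10Coh.gres (V.topIso.inv a) ⊤ := by
  have h1 : ((Scheme.ΓSpecIso Γ(Y, V)).inv ≫ hV.isoSpec.hom.appTop) a = V.topIso.inv a := by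
    rw [hV.isoSpec_hom_appTop, Iso.inv_hom_id_assoc]
  exact congrArg (V.toScheme.presheaf.map (homOfLE le_top).op) h1

omit [HasInjectiveResolutions X.Modules] [HasInjectiveResolutions ((f ⁻¹ᵁ V).toScheme).Modules] in
theorem topSec_smul (N : Y.Modules) (a : Γ(Y, V)) (z : Γ(N.restrict V.ι, (⊤ : V.toScheme.Opens))) :
    topSec N (LeadFF.scal hV.isoSpec.hom (⊤ : V.toScheme.Opens) a • z) = a • topSec N z := by
  rw [scal_top hV]
  have e := H10Coh.restrict_smul_pow V N a ⊤ V.ι_image_top.le 1 (show Γ(N, V.ι ''ᵁ ⊤) from z)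
  simp only [pow_one] at e
  refine (congrArg (H10Coh.rs N V.ι_image_top.ge) e).trans
    ((Scheme.Modules.map_smul _ (homOfLE V.ι_image_top.ge) _ _).trans ?_)
  refine congrArg₂ (fun (c : Γ(Y, V)) (x : Γ(N, V)) => c • x) ?_ rfl
  exact (H10Coh.rres_rres V.ι_image_top.le V.ι_image_top.ge _).trans (by simp)

set_option maxHeartbeats 800000 in
include hV in
/-- Sections of higher direct images over an affine open are the cohomology groups of the preimage. -/
theorem exists_secEquiv [QuasiCompact f] [QuasiSeparated f] (p : ℕ) :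
    letI := LeadBC.preOver f hV
    ∃ ε : ∀ M : X.Modules, Coh.HH (f ⁻¹ᵁ V).toScheme (M.restrict (f ⁻¹ᵁ V).ι) p →+ Γ((Coh.Rpush f p).obj M, V),
      (∀ (M M' : X.Modules) (φ : M ⟶ M') x,
        ε M' (LeadFF.Hm ((Scheme.Modules.restrictFunctor (f ⁻¹ᵁ V).ι).map φ) p x) = ((Coh.Rpush f p).map φ).app V (ε M x)) ∧
      (∀ M : X.Modules, M.IsQuasicoherent → Function.Bijective (ε M)) ∧
      ∀ (M : X.Modules) (a : Γ(Y, V)) x, ε M (a • x) = a • ε M x := by
  letI := LeadBC.preOver f hV
  letI := affOver hV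
  haveI : IsAffine V.toScheme := hV
  haveI : QuasiCompact (f ∣_ V) := MorphismProperty.of_isPullback (P := @QuasiCompact) (isPullback_morphismRestrict f V).flip inferInstance
  haveI : QuasiSeparated (f ∣_ V) := MorphismProperty.of_isPullback (P := @QuasiSeparated) (isPullback_morphismRestrict f V).flip inferInstance
  obtain ⟨s, hs, hb, hl⟩ := SchRpushSec.exists_hhSec (f ∣_ V) p (A := Γ(Y, V)) rfl
  obtain ⟨r⟩ := nonempty_restrIso f V p
  let t : ∀ M : X.Modules, Γ((Coh.Rpush (f ∣_ V) p).obj (M.restrict (f ⁻¹ᵁ V).ι), ⊤) →+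
      Γ(((Coh.Rpush f p).obj M).restrict V.ι, (⊤ : V.toScheme.Opens)) := fun M => ((r.app M).inv.app ⊤).hom
  let ε := fun M : X.Modules => (topSec ((Coh.Rpush f p).obj M)).toAddMonoidHom.comp
    ((t M).comp (s (M.restrict (f ⁻¹ᵁ V).ι)))
  refine ⟨ε, fun M M' φ x => ?_, fun M hM => ?_, fun M a x => ?_⟩
  · refine Eq.trans (congrArg (topSec _) ?_) (topSec_natural ((Coh.Rpush f p).map φ) _)
    refine (congrArg (t M') (hs _ _ ((Scheme.Modules.restrictFunctor (f ⁻¹ᵁ V).ι).map φ) x)).trans ?_
    exact congr($(congrArg (fun z => Scheme.Modules.Hom.app z ⊤) (r.inv.naturality φ)) _)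
  · haveI := hM
    haveI := Scheme.Modules.isQuasicoherent_restrictFunctor (f ⁻¹ᵁ V).ι M
    haveI : IsIso ((r.app M).inv.app ⊤) :=
      ⟨(r.app M).hom.app ⊤, congr(Scheme.Modules.Hom.app $((r.app M).inv_hom_id) ⊤), congr(Scheme.Modules.Hom.app $((r.app M).hom_inv_id) ⊤)⟩
    exact (topSec ((Coh.Rpush f p).obj M)).bijective.comp ((ConcreteCategory.bijective_of_isIso ((r.app M).inv.app ⊤)).comp
      (hb (M.restrict (f ⁻¹ᵁ V).ι) inferInstance))
  · refine (congrArg (fun z => topSec _ (t M z)) (hl _ a x)).trans ?_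
    refine (congrArg (topSec _) (Scheme.Modules.Hom.app_smul (r.app M).inv _ _)).trans ?_
    exact topSec_smul hV _ a _

end Groth.Agent.H24Formal3.SchRpushRes
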