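import Groth.Agent.H24Formal3.RpushLevels
import Groth.Agent.H24Formal3.Linear
import Groth.Agent.H10Coh.Affine
import Groth.Agent.LeadFF.Gen

/-!
# Global sections of higher direct images over an affine base, naturally and linearly
-/

set_option autoImplicit false
set_option linter.style.haveILetI false
set_option linter.unusedSectionVars false

universe u

attribute [-instance] CategoryTheory.catToReflQuiver

open AlgebraicGeometry CategoryTheory CategoryTheory.Limits TopologicalSpace Opposite CategoryTheory.Abelian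

namespace Groth.Agent.H24Formal3.SchRpushSec

attribute [local instance 10000] H15Site.SiteInst.hasSheafifySite H15Site.SiteInst.hasWeakSheafifySite
  H15Site.SiteInst.hasExtSite H15Site.SiteInst.enoughInjSite

open ModRpush

variable {X Y : Scheme.{u}} (g : X ⟶ Y) [HasInjectiveResolutions X.Modules] (p : ℕ)

/-- The abelian sheaf of a module on a scheme. -/
noncomputable abbrev abS (M : X.Modules) : Sheaf (Opens.grothendieckTopology X) AddCommGrpCat.{u} :=
  (SheafOfModules.toSheaf.{u} X.ringCatSheaf).obj M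

theorem nonempty_schRpushIso :
    Nonempty (Coh.Rpush g p ⋙ SheafOfModules.toSheaf.{u} Y.ringCatSheaf ≅
      SheafOfModules.toSheaf.{u} X.ringCatSheaf ⋙ hP (Opens.grothendieckTopology X) p ⋙
        H15Site.HigherDirectSite.shPush (Opens.grothendieckTopology Y) (Opens.map g.base)) := by
  haveI : HasInjectiveResolutions (ModSite.Mod X.sheaf) := ‹HasInjectiveResolutions X.Modules›
  exact nonempty_modRpushIso (ModSite.RMor.ofScheme g) p

variable (e : Coh.Rpush g p ⋙ SheafOfModules.toSheaf.{u} Y.ringCatSheaf ≅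
      SheafOfModules.toSheaf.{u} X.ringCatSheaf ⋙ hP (Opens.grothendieckTopology X) p ⋙
        H15Site.HigherDirectSite.shPush (Opens.grothendieckTopology Y) (Opens.map g.base))

/-- From the cohomology presheaf to sections of the higher direct image. -/
noncomputable def sec (M : X.Modules) (V : Y.Opens) :
    ((hP (Opens.grothendieckTopology X) p).obj (abS M)).obj (op (g ⁻¹ᵁ V)) →+ Γ((Coh.Rpush g p).obj M, V) :=
  ((e.app M).inv.hom.app (op V)).hom.comp
    ((toSheafify (Opens.grothendieckTopology Y) ((Opens.map g.base).op ⋙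
      (hP (Opens.grothendieckTopology X) p).obj (abS M))).app (op V)).hom

theorem sec_natural {M M' : X.Modules} (φ : M ⟶ M') (V : Y.Opens)
    (x : ((hP (Opens.grothendieckTopology X) p).obj (abS M)).obj (op (g ⁻¹ᵁ V))) :
    sec g p e M' V ((((hP (Opens.grothendieckTopology X) p).map
        ((SheafOfModules.toSheaf.{u} X.ringCatSheaf).map φ)).app _).hom x) =
      ((Coh.Rpush g p).map φ).app V (sec g p e M V x) :=
  RpushLevels.exists_sections_equiv (O := Y.sheaf) (Opens.map g.base)
    ((SheafOfModules.toSheaf.{u} X.ringCatSheaf).map φ) ((Coh.Rpush g p).map φ)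
    (e.app M) (e.app M') (e.hom.naturality φ) V x

theorem bijective_toSheafify [QuasiCompact g] [QuasiSeparated g] (M : X.Modules) [M.IsQuasicoherent]
    (V : Y.Opens) (hV : IsAffineOpen V) :
    Function.Bijective ((toSheafify (Opens.grothendieckTopology Y) ((Opens.map g.base).op ⋙
      (hP (Opens.grothendieckTopology X) p).obj (abS M))).app (op V)).hom := by
  cases p with
  | zero =>
    let Φ := sheafToPresheaf (Opens.grothendieckTopology X) AddCommGrpCat.{u}
    haveI : Φ.Additive := additive_sheafToPresheaf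
    let e : (Opens.map g.base).op ⋙ (hP (Opens.grothendieckTopology X) 0).obj (abS M) ≅
        ((CohSite.push (Opens.grothendieckTopology X) (Opens.grothendieckTopology Y) (Opens.map g.base)).obj (abS M)).obj :=
      Functor.isoWhiskerLeft _ (Φ.rightDerivedZeroIsoSelf.app (abS M))
    haveI := isIso_toSheafify (Opens.grothendieckTopology Y)
      ((Presheaf.isSheaf_of_iso_iff e).2 ((CohSite.push _ _ _).obj (abS M)).property)
    exact ConcreteCategory.bijective_of_isIso
      ((toSheafify (Opens.grothendieckTopology Y) ((Opens.map g.base).op ⋙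
        (hP (Opens.grothendieckTopology X) 0).obj (abS M))).app (op V))
  | succ n =>
    refine LevelPresheaf.bijective_toSheafify_hP g M (𝟙 X.carrier) (Homeomorph.refl _).isClosedEmbedding
      (𝟙 Y.carrier) (Opens.map g.base) (fun W => rfl) (fun W => ?_) n V hV
    obtain ⟨κ, U, i, hi, hU⟩ := H24FMod.LimTop.isCovering_of_isBasis Y.isBasis_affineOpens W
    exact ⟨κ, U, i, hi, hU⟩

theorem bijective_sec [QuasiCompact g] [QuasiSeparated g] (M : X.Modules) [M.IsQuasicoherent] (V : Y.Opens)
    (hV : IsAffineOpen V) : Function.Bijective (sec g p e M V) :=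
  (ConcreteCategory.bijective_of_isIso
      (((sheafToPresheaf _ AddCommGrpCat.{u}).mapIso (e.app M).symm).hom.app (op V))).comp
    (bijective_toSheafify g p M V hV)

variable {A : Type u} [CommRing A]

theorem app_scal_over {Z Z' : Scheme.{u}} (q : Z' ⟶ Z) [Z'.Over (Spec (CommRingCat.of A))] [Z.Over (Spec (CommRingCat.of A))]
    (hq : q ≫ (Z ↘ Spec (CommRingCat.of A)) = Z' ↘ Spec (CommRingCat.of A)) (U : Z.Opens) (a : A) :
    q.app U (LeadFF.scal (Z ↘ Spec (CommRingCat.of A)) U a) = LeadFF.scal (Z' ↘ Spec (CommRingCat.of A)) (q ⁻¹ᵁ U) a := by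
  have : CommRingCat.ofHom (LeadFF.scal (Z ↘ Spec (CommRingCat.of A)) U) ≫ q.app U =
      CommRingCat.ofHom (LeadFF.scal (Z' ↘ Spec (CommRingCat.of A)) (q ⁻¹ᵁ U)) := by
    rw [LeadFF.scal_eq_appLE, LeadFF.scal_eq_appLE, Category.assoc, Scheme.Hom.app_eq_appLE]
    congr 1
    erw [Scheme.Hom.appLE_comp_appLE]
    simp only [hq]
  exact ConcreteCategory.congr_hom this a

/-- Right derived direct images carry scalars to scalars. -/
theorem rpush_smulMod [X.Over (Spec (CommRingCat.of A))] [Y.Over (Spec (CommRingCat.of A))]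
    (hg : g ≫ (Y ↘ Spec (CommRingCat.of A)) = X ↘ Spec (CommRingCat.of A)) (a : A) (M : X.Modules) :
    (Coh.Rpush g p).map (Formal.smulMod A M a) = Formal.smulMod A ((Coh.Rpush g p).obj M) a := by
  let α : 𝟭 X.Modules ⟶ 𝟭 X.Modules :=
    { app := fun N => Formal.smulMod A N a, naturality := fun _ _ f => LeadFF.smulMod_natural f a }
  let β : 𝟭 Y.Modules ⟶ 𝟭 Y.Modules :=
    { app := fun N => Formal.smulMod A N a, naturality := fun _ _ f => LeadFF.smulMod_natural f a }
  refine Linear.rightDerived_map_endo (Scheme.Modules.pushforward g) α β (fun N => ?_) p M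
  refine LeadFF.hom_ext_sections _ _ fun U (s : Γ(N, g ⁻¹ᵁ U)) => ?_
  show LeadFF.scal (X ↘ Spec (CommRingCat.of A)) (g ⁻¹ᵁ U) a • s =
    g.app U (LeadFF.scal (Y ↘ Spec (CommRingCat.of A)) U a) • s
  refine congrArg (fun c : Γ(X, g ⁻¹ᵁ U) => c • s) ?_
  exact (app_scal_over g hg U a).symm

/-- Over an affine base, cohomology computes the global sections of higher direct images naturally and linearly. -/
theorem exists_hhSec [X.Over (Spec (CommRingCat.of A))] [Y.Over (Spec (CommRingCat.of A))] [IsAffine Y]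
    [QuasiCompact g] [QuasiSeparated g]
    (hg : g ≫ (Y ↘ Spec (CommRingCat.of A)) = X ↘ Spec (CommRingCat.of A)) :
    ∃ s : ∀ M : X.Modules, Coh.HH X M p →+ Γ((Coh.Rpush g p).obj M, ⊤),
      (∀ (M M' : X.Modules) (φ : M ⟶ M') x, s M' (LeadFF.Hm φ p x) = ((Coh.Rpush g p).map φ).app ⊤ (s M x)) ∧
      (∀ M : X.Modules, M.IsQuasicoherent → Function.Bijective (s M)) ∧
      ∀ (M : X.Modules) (a : A) x, s M (a • x) = LeadFF.scal (Y ↘ Spec (CommRingCat.of A)) ⊤ a • s M x := by
  obtain ⟨e⟩ := nonempty_schRpushIso g p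
  obtain ⟨E, hE⟩ := exists_ev (J := Opens.grothendieckTopology X) (g ⁻¹ᵁ (⊤ : Y.Opens)) p
  let T : ∀ M : X.Modules, Coh.HH X M p ≃+ ((hP (Opens.grothendieckTopology X) p).obj (abS M)).obj (op (g ⁻¹ᵁ ⊤)) :=
    fun M => (H10Coh.topEquiv (abS M) p).trans (E (abS M)).symm
  have hnat : ∀ (M M' : X.Modules) (φ : M ⟶ M') x,
      sec g p e M' ⊤ (T M' (LeadFF.Hm φ p x)) = ((Coh.Rpush g p).map φ).app ⊤ (sec g p e M ⊤ (T M x)) := fun M M' φ x => by
    refine Eq.trans (congrArg (sec g p e M' ⊤) ?_) (sec_natural g p e φ ⊤ (T M x))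
    refine (E (abS M')).injective (((E (abS M')).apply_symm_apply _).trans ?_)
    refine (H10Coh.topEquiv_map _ p x).trans (Eq.trans ?_ (hE _ _ _ _).symm)
    exact congrArg (fun z => Ext.comp z (Ext.mk₀ _) (add_zero p)) ((E (abS M)).apply_symm_apply _).symm
  refine ⟨fun M => (sec g p e M ⊤).comp (T M).toAddMonoidHom, hnat, fun M hM => ?_, fun M a x => ?_⟩
  · exact (bijective_sec g p e M ⊤ (isAffineOpen_top Y)).comp (T M).bijective
  · refine (hnat M M (Formal.smulMod A M a) x).trans ?_
    exact congrArg (fun φ : (Coh.Rpush g p).obj M ⟶ (Coh.Rpush g p).obj M => φ.app ⊤ (sec g p e M ⊤ (T M x)))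
      (rpush_smulMod g p hg a M)

end Groth.Agent.H24Formal3.SchRpushSec
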