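import Groth.Agent.H24Formal3.SmoothLift
import Groth.Agent.H24FSch.Kernels

/-!
The smooth formal lifting of a morphism of affine smooth schemes.
-/

set_option autoImplicit false
set_option linter.style.haveILetI false
set_option linter.unusedSectionVars false
universe u

attribute [-instance] CategoryTheory.catToReflQuiver

open CategoryTheory CategoryTheory.Limits AlgebraicGeometry TopologicalSpace Opposite

namespace Groth.Agent.H24Formal3.SmoothFormal

theorem exists_seq {α : ℕ → Type*} (r : ∀ n, α n → α (n + 1) → Prop) (a₀ : α 0) (h : ∀ n a, ∃ b, r n a b) :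
    ∃ a : ∀ n, α n, a 0 = a₀ ∧ ∀ n, r n (a n) (a (n + 1)) := by
  choose b hb using h
  exact ⟨fun n => Nat.rec a₀ (fun k x => b k x) n, rfl, fun n => hb n _⟩

variable {S : Scheme.{u}} [IsLocallyNoetherian S] (𝒥 : S.IdealSheafData) {W : S.Opens} (hW : IsAffineOpen W)

/-- The map to the base of a lifted chart. -/
noncomputable abbrev toBase {A : CommRingCat.{u}} (α : Γ(S, W) ⟶ A) : Spec A ⟶ S := Spec.map α ≫ hW.fromSpec

/-- The formal system of a lifted chart. -/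
noncomputable abbrev sys {A : CommRingCat.{u}} (α : Γ(S, W) ⟶ A) : FSch.Sys.{u} :=
  FSch.completionAlong (Spec A) (𝒥.comap (toBase hW α))

theorem powCompat {A : CommRingCat.{u}} (α : Γ(S, W) ⟶ A) :
    FSch.PowCompat (toBase hW α) (𝒥.comap (toBase hW α)) 𝒥 := fun n => (H24FSch.comap_pow' _ 𝒥 n).le

/-- The structure morphism of a lifted chart. -/
noncomputable abbrev str {A : CommRingCat.{u}} (α : Γ(S, W) ⟶ A) : sys 𝒥 hW α ⟶ FSch.completionAlong S 𝒥 :=
  FSch.completionMap (toBase hW α) (𝒥.comap (toBase hW α)) 𝒥 (powCompat 𝒥 hW α)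

theorem smooth_str {A : CommRingCat.{u}} (α : Γ(S, W) ⟶ A) (hα : α.hom.Smooth) (n : ℕ) :
    Smooth ((str 𝒥 hW α : FSch.Hom _ _).app n) := by
  haveI : Smooth (Spec.map α) := (HasRingHomProperty.Spec_iff (P := @Smooth)).2 hα
  exact MorphismProperty.of_isPullback (H24FSch.isPullback_completionMap (toBase hW α) 𝒥 (powCompat 𝒥 hW α) n)
    (inferInstanceAs (Smooth (Spec.map α ≫ hW.fromSpec)))

/-- The chart of an affine smooth scheme over the bottom level. -/
theorem exists_iso_level_zero {A : CommRingCat.{u}} (α : Γ(S, W) ⟶ A) {U₀ : Scheme.{u}}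
    (a : U₀ ⟶ (FSch.completionAlong S 𝒥).X 0) (i : U₀ ⟶ Spec A)
    (h : IsPullback i a (toBase hW α) (FSch.completionToX S 𝒥 0)) :
    ∃ e : (sys 𝒥 hW α).X 0 ≅ U₀, e.hom ≫ a = (str 𝒥 hW α : FSch.Hom _ _).app 0 :=
  ⟨(H24FSch.isPullback_completionMap (toBase hW α) 𝒥 (powCompat 𝒥 hW α) 0).isoIsPullback _ _ h,
    IsPullback.isoIsPullback_hom_snd _ _ _ _⟩

/-- Morphisms of the bottom levels lift to the formal systems. -/
theorem exists_hom {A B : CommRingCat.{u}} (α : Γ(S, W) ⟶ A) (β : Γ(S, W) ⟶ B) (hα : α.hom.Smooth)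
    (hβ : β.hom.Smooth) (f₀ : (sys 𝒥 hW α).X 0 ⟶ (sys 𝒥 hW β).X 0)
    (hf₀ : f₀ ≫ (str 𝒥 hW β : FSch.Hom _ _).app 0 = (str 𝒥 hW α : FSch.Hom _ _).app 0) :
    ∃ Φ : sys 𝒥 hW α ⟶ sys 𝒥 hW β, Φ ≫ str 𝒥 hW β = str 𝒥 hW α ∧
      (Φ : FSch.Hom (sys 𝒥 hW α) (sys 𝒥 hW β)).app 0 = f₀ := by
  haveI : Smooth (Spec.map α) := (HasRingHomProperty.Spec_iff (P := @Smooth)).2 hα
  haveI : IsLocallyNoetherian (Spec A) := LocallyOfFiniteType.isLocallyNoetherian (toBase hW α)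
  have hN := H24FSch.isLocNoethFormal_completionAlong (Spec A) (𝒥.comap (toBase hW α))
  let cU := FSch.completionToX (Spec A) (𝒥.comap (toBase hW α))
  let cV := FSch.completionToX (Spec B) (𝒥.comap (toBase hW β))
  let cS := FSch.completionToX S 𝒥
  let p := str 𝒥 hW α
  let q := str 𝒥 hW β
  have hp : ∀ n, cU n ≫ toBase hW α = (p : FSch.Hom _ _).app n ≫ cS n :=
    fun n => (H24FSch.isPullback_completionMap (toBase hW α) 𝒥 (powCompat 𝒥 hW α) n).w
  have hq := H24FSch.isPullback_completionMap (toBase hW β) 𝒥 (powCompat 𝒥 hW β)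
  let T : ∀ n, Type u := fun n => { ψ : (sys 𝒥 hW α).X n ⟶ Spec B // ψ ≫ Spec.map β = cU n ≫ Spec.map α }
  have h0 : (f₀ ≫ cV 0) ≫ Spec.map β = cU 0 ≫ Spec.map α := by
    rw [← cancel_mono hW.fromSpec]
    refine ((Category.assoc _ _ _).trans ((Category.assoc _ _ _).trans (congrArg (f₀ ≫ ·) (hq 0).w))).trans ?_
    exact ((Category.assoc _ _ _).symm.trans (congrArg (· ≫ cS 0) hf₀)).trans ((hp 0).symm.trans (Category.assoc _ _ _).symm)
  obtain ⟨ψ, hψ0, hψ⟩ := exists_seq (α := T) (fun n x y => (sys 𝒥 hW α).ι n ≫ y.1 = x.1) ⟨f₀ ≫ cV 0, h0⟩ fun n x => by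
    haveI := (hN.1 n).1
    haveI : Surjective ((sys 𝒥 hW α).ι n) := ⟨(hN.1 n).2⟩
    haveI : IsClosedImmersion (cU (n + 1)) :=
      inferInstanceAs (IsClosedImmersion ((𝒥.comap (toBase hW α)) ^ (n + 1 + 1)).subschemeι)
    haveI : IsAffine ((sys 𝒥 hW α).X (n + 1)) := isAffine_of_isAffineHom (cU (n + 1))
    haveI := hN.2.2 (n + 1)
    haveI : IsNoetherianRing Γ((sys 𝒥 hW α).X (n + 1), ⊤) :=
      IsLocallyNoetherian.component_noetherian ⟨⊤, isAffineOpen_top _⟩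
    obtain ⟨y, hy, hy'⟩ := SmoothLift.exists_lift β hβ ((sys 𝒥 hW α).ι n) (cU (n + 1) ≫ Spec.map α) x.1
      (x.2.trans ((congrArg (· ≫ Spec.map α) (FSch.completionToX_comm _ _ n)).symm.trans (Category.assoc _ _ _)))
    exact ⟨⟨y, hy'⟩, hy⟩
  have hw : ∀ n, (ψ n).1 ≫ toBase hW β = (p : FSch.Hom _ _).app n ≫ cS n := fun n =>
    ((Category.assoc _ _ _).symm.trans ((congrArg (· ≫ hW.fromSpec) (ψ n).2).trans (Category.assoc _ _ _))).trans (hp n)
  refine ⟨⟨fun n => (hq n).lift (ψ n).1 ((p : FSch.Hom _ _).app n) (hw n), fun n => (hq (n + 1)).hom_ext ?_ ?_⟩,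
    FSch.Hom.ext (funext fun n => (hq n).lift_snd _ _ _), (hq 0).hom_ext ?_ ?_⟩
  · refine ((Category.assoc _ _ _).trans (congrArg (_ ≫ ·) (FSch.completionToX_comm _ _ n))).trans ?_
    refine ((hq n).lift_fst _ _ _).trans (Eq.trans ?_ (Category.assoc _ _ _).symm)
    exact ((congrArg (_ ≫ ·) ((hq (n + 1)).lift_fst _ _ _)).trans (hψ n)).symm
  · refine ((Category.assoc _ _ _).trans (congrArg (_ ≫ ·) ((q : FSch.Hom _ _).comm n).symm)).trans ?_
    refine ((Category.assoc _ _ _).symm.trans (congrArg (· ≫ _) ((hq n).lift_snd _ _ _))).trans ?_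
    exact (((p : FSch.Hom _ _).comm n).trans ((congrArg (_ ≫ ·) ((hq (n + 1)).lift_snd _ _ _)).symm)).trans
      (Category.assoc _ _ _).symm
  · exact ((hq 0).lift_fst _ _ _).trans (congrArg Subtype.val hψ0)
  · exact ((hq 0).lift_snd _ _ _).trans hf₀.symm

end Groth.Agent.H24Formal3.SmoothFormal
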