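import Groth.Agent.H9Smooth.Lift
import Groth.Agent.H24FSch.Sub
import Groth.Agent.H24FSch.Basic
import Groth.Agent.H29Blow.Basic
import Mathlib.AlgebraicGeometry.Morphisms.Smooth
import Groth.Agent.H24GE.FlatIso

/-!
Local smooth liftings of smooth schemes and of their morphisms along thickenings.
-/

set_option autoImplicit false
set_option linter.style.haveILetI false
set_option linter.unusedSectionVars false
universe u

attribute [-instance] CategoryTheory.catToReflQuiver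

open CategoryTheory CategoryTheory.Limits AlgebraicGeometry TopologicalSpace Opposite

namespace Groth.Agent.H24Formal3.SmoothLift

theorem comap_fromSpec {S S₀ : Scheme.{u}} (c : S₀ ⟶ S) [IsClosedImmersion c] {W : S.Opens} (hW : IsAffineOpen W) :
    c.ker.comap hW.fromSpec = FSch.idealSpec Γ(S, W) (c.ker.ideal ⟨W, hW⟩) := by
  apply Scheme.IdealSheafData.ext_of_isAffine
  rw [H29Blow.ideal_comap c.ker hW.fromSpec ⟨W, hW⟩ ⟨⊤, isAffineOpen_top _⟩ hW.fromSpec_preimage_self.ge,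
    H24FSch.idealSpec_ideal_top]
  congr 1
  rw [Scheme.Hom.appLE, hW.fromSpec_app_self, Category.assoc, ← Functor.map_comp]
  rw [Subsingleton.elim (_ ≫ _) (𝟙 _), CategoryTheory.Functor.map_id, Category.comp_id]
  rfl

/-- A smooth affine scheme over a closed subscheme lifts to a smooth affine scheme, locally. -/
theorem exists_smooth_thickening {S S₀ U₀ : Scheme.{u}} (c : S₀ ⟶ S) [IsClosedImmersion c] (a : U₀ ⟶ S₀)
    [Smooth a] [IsAffine U₀] {W : S.Opens} (hW : IsAffineOpen W) (hl : (⊤ : U₀.Opens) ≤ (a ≫ c) ⁻¹ᵁ W) :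
    ∃ (A : CommRingCat.{u}) (α : Γ(S, W) ⟶ A) (i : U₀ ⟶ Spec A), α.hom.Smooth ∧
      IsPullback i a (Spec.map α ≫ hW.fromSpec) c := by
  let R := Γ(S, W)
  let A₀ := Γ(U₀, ⊤)
  let J : Ideal R := RingHom.ker (c.app W).hom
  have hW₀ : IsAffineOpen (c ⁻¹ᵁ W) := hW.preimage c
  have hl' : (⊤ : U₀.Opens) ≤ a ⁻¹ᵁ (c ⁻¹ᵁ W) := hl
  let φ : R ⟶ A₀ := (a ≫ c).appLE W ⊤ hl
  have hφ : φ = c.app W ≫ a.appLE (c ⁻¹ᵁ W) ⊤ hl' := (Scheme.Hom.comp_appLE a c W ⊤ hl)
  haveI : IsClosedImmersion (c ∣_ W) := IsZariskiLocalAtTarget.restrict (P := @IsClosedImmersion) inferInstance _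
  have hsurj : Function.Surjective (c.app W).hom := by
    exact c.app_surjective W hW
  let e := RingHom.quotientKerEquivOfSurjective hsurj
  let φ₀ : (R ⧸ J) →+* A₀ := (a.appLE (c ⁻¹ᵁ W) ⊤ hl').hom.comp e.toRingHom
  have hφ₀ : φ₀.Smooth :=
    RingHom.Smooth.respectsIso.2 _ e (a.smooth_appLE hW₀ (isAffineOpen_top U₀) hl')
  letI := φ₀.toAlgebra
  letI := (φ₀.comp (Ideal.Quotient.mk J)).toAlgebra
  haveI : IsScalarTower R (R ⧸ J) A₀ := IsScalarTower.of_algebraMap_eq fun _ => rfl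
  haveI : Algebra.Smooth (R ⧸ J) A₀ := hφ₀
  obtain ⟨A, _, _, hA, ρ, hρ, hρk⟩ := H9Smooth.exists_smooth_lift (A₀ := A₀) J
  refine ⟨CommRingCat.of A, CommRingCat.ofHom (algebraMap R A), U₀.toSpecΓ ≫ Spec.map (CommRingCat.ofHom ρ.toRingHom),
    RingHom.smooth_algebraMap.mpr hA, ?_⟩
  have hcomm : CommRingCat.ofHom (algebraMap R A) ≫ CommRingCat.ofHom ρ.toRingHom = φ := by
    rw [hφ]
    exact CommRingCat.hom_ext (RingHom.ext fun r => ρ.commutes r)
  haveI : IsClosedImmersion (Spec.map (CommRingCat.ofHom ρ.toRingHom)) := IsClosedImmersion.spec_of_surjective _ hρ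
  haveI : IsIso U₀.toSpecΓ := IsAffine.affine
  refine isPullback_of_isClosedImmersion _ c a _ ?_ ?_
  · rw [Category.assoc, ← Spec.map_comp_assoc, hcomm,
      IsAffineOpen.SpecMap_appLE_fromSpec (a ≫ c) hW (isAffineOpen_top U₀) hl, IsAffineOpen.fromSpec_top,
      ← Category.assoc, ← Scheme.isoSpec_hom, Iso.hom_inv_id, Category.id_comp]
  · rw [Scheme.IdealSheafData.comap_comp, comap_fromSpec c hW, Scheme.Hom.ker_comp_of_isIso]
    refine (H24FSch.comap_idealSpec A R (algebraMap R A) _).trans ?_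
    refine Eq.trans ?_ (H24FSch.ker_specMap_of_surjective ρ.toRingHom hρ).symm
    congr 1
    rw [Scheme.Hom.ker_apply]
    refine le_antisymm (Ideal.map_le_iff_le_comap.2 fun r hr => ?_) fun x hx => hρk x hx
    show ρ (algebraMap R A r) = 0
    rw [ρ.commutes r]
    show φ₀ (Ideal.Quotient.mk J r) = 0
    rw [Ideal.Quotient.eq_zero_iff_mem.2 (show r ∈ J from hr), map_zero]

theorem isNilpotent_ker_of_surjective_comap {T T' : CommRingCat.{u}} [IsNoetherianRing T'] (π : T' ⟶ T)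
    (h : Function.Surjective (Spec.map π)) : IsNilpotent (RingHom.ker π.hom) := by
  have hle : RingHom.ker π.hom ≤ nilradical T' := by
    rw [nilradical_eq_sInf]
    refine le_sInf fun p hp => ?_
    obtain ⟨q, hq⟩ := h ⟨p, hp⟩
    have h2 : q.asIdeal.comap π.hom = p := congrArg PrimeSpectrum.asIdeal hq
    rw [← h2]
    exact Ideal.comap_mono bot_le
  obtain ⟨n, hn⟩ := IsNoetherianRing.isNilpotent_nilradical T'
  exact ⟨n, le_bot_iff.1 ((Ideal.pow_right_mono hle n).trans hn.le)⟩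

/-- Morphisms to a smooth affine scheme lift along thickenings of affine schemes. -/
theorem exists_lift {R B : CommRingCat.{u}} (β : R ⟶ B) (hβ : β.hom.Smooth) {T T' : Scheme.{u}} [IsAffine T']
    [IsNoetherianRing Γ(T', ⊤)] (i : T ⟶ T') [IsClosedImmersion i] [Surjective i] (t' : T' ⟶ Spec R)
    (ψ : T ⟶ Spec B) (hψ : ψ ≫ Spec.map β = i ≫ t') :
    ∃ ψ' : T' ⟶ Spec B, i ≫ ψ' = ψ ∧ ψ' ≫ Spec.map β = t' := by
  obtain ⟨hT, hs⟩ := IsClosedImmersion.isAffine_surjective_of_isAffine i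
  haveI := hT
  obtain ⟨b, hb⟩ := Spec.map_surjective (T.isoSpec.inv ≫ ψ)
  obtain ⟨r, hr⟩ := Spec.map_surjective (T'.isoSpec.inv ≫ t')
  let p : Γ(T', ⊤) ⟶ Γ(T, ⊤) := i.appTop
  have hnat : Spec.map p ≫ T'.isoSpec.inv = T.isoSpec.inv ≫ i := Scheme.isoSpec_inv_naturality i
  have hrb : r ≫ p = β ≫ b := Spec.map_injective (by
    rw [Spec.map_comp, Spec.map_comp, hr, hb, Category.assoc, hψ, ← Category.assoc, ← Category.assoc, hnat])
  have hsur : Surjective (Spec.map p) :=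
    ⟨fun x => by
      obtain ⟨y, hy⟩ := i.surjective (T'.isoSpec.inv x)
      refine ⟨T.isoSpec.hom y, (T'.isoSpec.inv).homeomorph.injective ?_⟩
      show (Spec.map p ≫ T'.isoSpec.inv) (T.isoSpec.hom y) = _
      rw [hnat]
      show i ((T.isoSpec.hom ≫ T.isoSpec.inv) y) = _
      rw [Iso.hom_inv_id]
      exact hy⟩
  have hnil := isNilpotent_ker_of_surjective_comap p hsur.surj
  letI := β.hom.toAlgebra
  letI := r.hom.toAlgebra
  letI := (p.hom.comp r.hom).toAlgebra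
  haveI : Algebra.Smooth R B := hβ
  let g : Γ(T', ⊤) →ₐ[R] Γ(T, ⊤) := { p.hom with commutes' := fun _ => rfl }
  let f : B →ₐ[R] Γ(T, ⊤) := { b.hom with commutes' := fun x => (congr($hrb x)).symm }
  let l := Algebra.FormallySmooth.liftOfSurjective f g hs hnil
  refine ⟨T'.isoSpec.hom ≫ Spec.map (CommRingCat.ofHom l.toRingHom), ?_, ?_⟩
  · have hl : CommRingCat.ofHom l.toRingHom ≫ p = b :=
      CommRingCat.hom_ext (RingHom.ext fun x => Algebra.FormallySmooth.liftOfSurjective_apply f g hs hnil x)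
    rw [← Category.assoc, show i ≫ T'.isoSpec.hom = T.isoSpec.hom ≫ Spec.map p from
      (Iso.comp_inv_eq _).1 ((Category.assoc _ _ _).trans ((congrArg (_ ≫ ·) hnat).trans (Iso.hom_inv_id_assoc _ _))) |>.symm,
      Category.assoc, ← Spec.map_comp, hl, hb, Iso.hom_inv_id_assoc]
  · have hl : β ≫ CommRingCat.ofHom l.toRingHom = r := CommRingCat.hom_ext (RingHom.ext fun x => l.commutes x)
    rw [Category.assoc, ← Spec.map_comp, hl, hr, Iso.hom_inv_id_assoc]

end Groth.Agent.H24Formal3.SmoothLift
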