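import Groth.Agent.H24Formal3.FormalKill
import Groth.Agent.H24Formal3.Restrict
import Groth.Agent.H24FMod.PullSys

/-!
The unit of the restriction to an open is bijective on smaller opens for coherent modules, and the unit of a
morphism of formal schemes restricts.
-/

set_option autoImplicit false
set_option linter.style.haveILetI false
set_option linter.unusedSectionVars false
universe u

attribute [-instance] CategoryTheory.catToReflQuiver

open CategoryTheory CategoryTheory.Limits AlgebraicGeometry TopologicalSpace Opposite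

namespace Groth.Agent.H24Formal3.UnitRestrict

open H24FMod FormalKill

variable {𝔛 𝔜 : FSch.Sys.{u}}

theorem bijective_iso {h : 𝔜.IsFormal} {M N : FSch.ModF 𝔜 h} (e : M ≅ N) (A : (𝔜.X 0).Opens) :
    Function.Bijective (secMap e.hom A) :=
  ⟨FPCrit.secMap_injective e A, fun y => ⟨secMap e.inv A y, congr(secMap $(e.inv_hom_id) A y)⟩⟩

theorem kills_of_sq_bijective {h : 𝔜.IsFormal} {M N M' N' : FSch.ModF 𝔜 h} {η : M ⟶ N} {η' : M' ⟶ N'}
    (e : M ⟶ M') (e' : N ⟶ N') (w : η ≫ e' = e ≫ η') {A : (𝔜.X 0).Opens} {s : OSec h A}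
    (he : Function.Bijective (secMap e A)) (he' : Function.Bijective (secMap e' A)) (H : Kills η' A s) :
    Kills η A s := by
  refine ⟨fun x hx => he.1 ?_, fun y => ?_⟩
  · rw [map_zero, secMap_smul]
    exact H.1 _ ((congr(secMap $w A x)).symm.trans ((congrArg (secMap e' A) hx).trans (map_zero _)))
  · obtain ⟨x', hx'⟩ := H.2 (secMap e' A y)
    obtain ⟨x, rfl⟩ := he.2 x'
    exact ⟨x, he'.1 ((congr(secMap $w A x)).trans (hx'.trans (secMap_smul e' A s y).symm))⟩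

theorem bijective_pullUnit (hX : 𝔛.IsFormal) (hY : 𝔜.IsFormal) (φ : 𝔛 ⟶ 𝔜) (𝔐 : FSch.ModSys 𝔜)
    (W : (𝔜.X 0).Opens) (hb : ∀ k, Function.Bijective (pullSec φ 𝔐 hX hY k W))
    (N : FSch.ModF 𝔛 hX) (e : N ≅ (FSch.ModSys.pullback φ 𝔐).realMod hX)
    (η : 𝔐.realMod hY ⟶ (FSch.pushF φ hX hY).obj N)
    (he : ∀ (k : ℕ) (x : Sec hY (𝔐.realMod hY) W),
      prS hX (FSch.ModSys.pullback φ 𝔐).F (FSch.ModSys.pullback φ 𝔐).toPush k _
        (secMap e.hom ((φ : FSch.Hom 𝔛 𝔜).app 0 ⁻¹ᵁ W) ((η.val.app (op W)).hom x)) =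
      pullSec φ 𝔐 hX hY k W (prS hY 𝔐.F 𝔐.toPush k W x)) :
    Function.Bijective (secMap η W) := by
  refine ⟨(injective_iff_map_eq_zero _).2 fun x hx => prS_ext hY _ _ _ _ fun k => (hb k).1 ?_, fun y => ?_⟩
  · refine (he k x).symm.trans (Eq.trans ?_ ((congrArg _ (map_zero _)).trans (map_zero _)).symm)
    exact (congrArg _ ((congrArg _ hx).trans (map_zero _))).trans (map_zero _)
  · choose z hz using fun k => (hb k).2
      (prS hX (FSch.ModSys.pullback φ 𝔐).F (FSch.ModSys.pullback φ 𝔐).toPush k _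
        (secMap e.hom ((φ : FSch.Hom 𝔛 𝔜).app 0 ⁻¹ᵁ W) y))
    obtain ⟨x, hx⟩ := exists_prS hY 𝔐.F 𝔐.toPush W z fun k => (hb k).1 (by
      refine (tr_pullSec φ 𝔐 hX hY k W (z (k + 1))).symm.trans ((congrArg _ (hz (k + 1))).trans ?_)
      exact (tr_prS hX _ _ k _ _).trans (hz k).symm)
    refine ⟨x, FPCrit.secMap_injective e _ (prS_ext hX _ _ _ _ fun k => ?_)⟩
    exact (he k x).trans ((congrArg _ (hx k)).trans (hz k))

variable (hY : 𝔜.IsLocNoethFormal) (U : (𝔜.X 0).Opens)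

/-- The unit of the restriction to an open is bijective on smaller opens. -/
theorem bijective_unit_restrictOpen (M : FSch.ModF 𝔜 hY.1) (hM : FSch.IsCohF 𝔜 hY.1 M) (W : (𝔜.X 0).Opens)
    (hW : W ≤ U) :
    Function.Bijective (secMap ((FSch.homMor (𝔜.restrictOpenι hY.1 U) (Chart.isLocNoethFormal_restrictOpen hY U).1
      hY.1).adj.unit.app M) W) := by
  let hU := Chart.isLocNoethFormal_restrictOpen hY U
  let j := 𝔜.restrictOpenι hY.1 U
  let S := FSch.homMor j hU.1 hY.1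
  let 𝔐 := pullSys hY M
  obtain ⟨e, he⟩ := exists_pullF_iso j hU hY (isCoh_pullSys hY hM)
  have h2 : ∀ (k : ℕ) (x : Sec hY.1 (𝔐.realMod hY.1) W),
      prS hU.1 (FSch.ModSys.pullback j 𝔐).F (FSch.ModSys.pullback j 𝔐).toPush k _
        (secMap e.hom ((j : FSch.Hom _ _).app 0 ⁻¹ᵁ W) (((S.adj.unit.app (𝔐.realMod hY.1)).val.app (op W)).hom x)) =
      pullSec j 𝔐 hU.1 hY.1 k W (prS hY.1 𝔐.F 𝔐.toPush k W x) := fun k x => by
    have h0 : S.adj.homEquiv _ _ e.hom ≫ (FSch.pushF j hU.1 hY.1).map (FSch.realProj _ hU.1 _ _ k) =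
        pullUnit j 𝔐 hU.1 hY.1 k := by
      have h := he k
      exact ((Iso.eq_comp_inv ((FSch.lvPushSq j hU.1 hY.1 k).app _)).2 ((Category.assoc _ _ _).trans h)).trans
        (Category.assoc _ _ _)
    rw [Adjunction.homEquiv_unit] at h0
    exact (congr(secMap $h0 W x)).trans (pullUnit_app j 𝔐 hU.1 hY.1 k W x)
  have h3 := bijective_pullUnit hU.1 hY.1 j 𝔐 W (fun k => Restrict.bijective_pullSec hY U M k W hW) _ e _ h2
  haveI := isIso_toReal hY hM
  have h4 := S.adj.unit.naturality (toReal hY M)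
  have hb1 : Function.Bijective (secMap (toReal hY M) W) := bijective_secMap_toReal hY hM W
  have hb2 : Function.Bijective (secMap ((S.pull ⋙ S.push).map (toReal hY M)) W) :=
    bijective_iso ((S.pull ⋙ S.push).mapIso (asIso (toReal hY M))) W
  refine (Function.Bijective.of_comp_iff' hb2 _).mp ?_
  have h5 : (secMap ((S.pull ⋙ S.push).map (toReal hY M)) W ∘ secMap (S.adj.unit.app M) W) =
      secMap (S.adj.unit.app (𝔐.realMod hY.1)) W ∘ secMap (toReal hY M) W :=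
    funext fun x => (congr(secMap $h4 W x)).symm
  rw [h5]
  exact h3.comp hb1

variable (hX : 𝔛.IsLocNoethFormal) (φ : 𝔛 ⟶ 𝔜) (M : FSch.ModF 𝔜 hY.1) (hM : FSch.IsCohF 𝔜 hY.1 M)

include hM in
/-- Kills on an open follows from kills of the restricted morphism on the whole space. -/
theorem kills_of_restrict (s : OSec hY.1 U)
    (H : Kills ((FSch.homMor (FSch.Hom.restrictOpen φ hX.1 hY.1 U)
        (Chart.isLocNoethFormal_restrictOpen hX ((φ : FSch.Hom 𝔛 𝔜).app 0 ⁻¹ᵁ U)).1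
        (Chart.isLocNoethFormal_restrictOpen hY U).1).adj.unit.app
          ((FSch.pullF (𝔜.restrictOpenι hY.1 U) (Chart.isLocNoethFormal_restrictOpen hY U).1 hY.1).obj M))
      ((𝔜.restrictOpenι hY.1 U : FSch.Hom _ _).app 0 ⁻¹ᵁ U)
      ((FSch.Hom.sharp (𝔜.restrictOpenι hY.1 U) (Chart.isLocNoethFormal_restrictOpen hY U).1 hY.1).hom.app (op U) s)) :
    Kills ((FSch.homMor φ hX.1 hY.1).adj.unit.app M) U s := by
  let hX' := Chart.isLocNoethFormal_restrictOpen hX ((φ : FSch.Hom 𝔛 𝔜).app 0 ⁻¹ᵁ U)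
  let hY' := Chart.isLocNoethFormal_restrictOpen hY U
  let j' := 𝔛.restrictOpenι hX.1 ((φ : FSch.Hom 𝔛 𝔜).app 0 ⁻¹ᵁ U)
  let j := 𝔜.restrictOpenι hY.1 U
  let φ' := FSch.Hom.restrictOpen φ hX.1 hY.1 U
  have w : j' ≫ φ = φ' ≫ j := (FSch.Hom.restrictOpen_ι φ hX.1 hY.1 U).symm
  let ε := FSch.pushSq j' φ φ' j w hX'.1 hX.1 hY'.1 hY.1
  let π := FSch.pullSq j' φ φ' j w hX'.1 hX.1 hY'.1 hY.1
  let A := (FSch.homMor j' hX'.1 hX.1).adj
  let B := (FSch.homMor φ hX.1 hY.1).adj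
  let C := (FSch.homMor φ' hX'.1 hY'.1).adj
  let D := (FSch.homMor j hY'.1 hY.1).adj
  let N := (FSch.pullF φ hX.1 hY.1).obj M
  haveI : SheafOfModules.IsFinitePresentation (R := ModSite.ringSh (𝔜.Osh hY.1)) M := hM
  have hN : FSch.IsCohF 𝔛 hX.1 N := H15Site.PullLocPres.isFinitePresentation_pull _ M
  have key := unit_bc A B C D ε M
  let e' : (FSch.pushF φ hX.1 hY.1).obj N ⟶
      (FSch.pushF j hY'.1 hY.1).obj ((FSch.pushF φ' hX'.1 hY'.1).obj ((FSch.pullF j' hX'.1 hX.1).obj N)) :=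
    (FSch.pushF φ hX.1 hY.1).map (A.unit.app N) ≫ ε.hom.app _
  let ζ := C.unit.app ((FSch.pullF j hY'.1 hY.1).obj M) ≫ (FSch.pushF φ' hX'.1 hY'.1).map (π.hom.app M)
  have w2 : B.unit.app M ≫ e' = D.unit.app M ≫ (FSch.pushF j hY'.1 hY.1).map ζ := by
    have h := congrArg (D.homEquiv _ _) key
    exact ((D.homEquiv_unit _ _ _).symm.trans (h.trans ((D.homEquiv_naturality_left _ _).trans
      (congrArg (B.unit.app M ≫ ·) (Equiv.apply_symm_apply _ _))))).symm
  refine kills_of_sq_bijective (D.unit.app M) e' w2 (bijective_unit_restrictOpen hY U M hM U le_rfl) ?_ ?_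
  · have h1 := bijective_unit_restrictOpen hX ((φ : FSch.Hom 𝔛 𝔜).app 0 ⁻¹ᵁ U) N hN _ le_rfl
    exact (bijective_iso (ε.app ((FSch.pullF j' hX'.1 hX.1).obj N)) U).comp h1
  · have hz : Kills ζ ((j : FSch.Hom _ _).app 0 ⁻¹ᵁ U) ((FSch.Hom.sharp j hY'.1 hY.1).hom.app (op U) s) := by
      refine Kills.of_sq (Iso.refl _) ((FSch.pushF φ' hX'.1 hY'.1).mapIso (π.app M).symm) ?_ H
      simp only [Iso.refl_hom, Category.id_comp]
      exact (Category.assoc _ _ _).trans ((congrArg (_ ≫ ·) (((FSch.pushF φ' hX'.1 hY'.1).map_comp _ _).symm.trans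
        ((congrArg _ (π.hom_inv_id_app M)).trans (CategoryTheory.Functor.map_id _ _)))).trans (Category.comp_id _))
    exact hz

end Groth.Agent.H24Formal3.UnitRestrict
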